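import Cfsg.Agent.Helper53.Ree2359P

/-!
# Centralizers of involutions of `PSL₂(q)`, `q ≡ 3 (mod 4)` (piece PI of CALL S1158)
-/

set_option autoImplicit false

namespace Cfsg.Agent.Helper42

open Matrix Cfsg.Agent.Helper42.SL2

/-- Piece PI of CALL S1158: for `q ≡ 3 (mod 4)`, the centralizer of an involution of
`PSL₂(q)` has order `q + 1`. -/
theorem psl2_centralizer_involution_card {F : Type*} [Field F] [Fintype F] (h2 : (2 : F) ≠ 0)
    (hq : Fintype.card F % 4 = 3)
    (b : Matrix.ProjectiveSpecialLinearGroup (Fin 2) F) (hb1 : b ≠ 1) (hb2 : b * b = 1) :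
    Nat.card (Subgroup.centralizer
      ({b} : Set (Matrix.ProjectiveSpecialLinearGroup (Fin 2) F))) = Fintype.card F + 1 := by
  obtain ⟨g, rfl⟩ := QuotientGroup.mk_surjective b
  -- g is non-scalar
  have hg : NonScalar g.1 := by
    rintro ⟨h01, h10, h00⟩
    apply hb1
    have hdet := det_eq g
    rw [h01, zero_mul, sub_zero, h00] at hdet
    have hsq1 : g.1 1 1 = 1 ∨ g.1 1 1 = -1 := by
      have : g.1 1 1 ^ 2 = 1 := by rw [sq]; exact hdet
      exact sq_eq_one_iff.1 this
    show (QuotientGroup.mk g : Matrix.ProjectiveSpecialLinearGroup (Fin 2) F) = QuotientGroup.mk 1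
    rw [psl_mk_eq_iff]
    rcases hsq1 with h | h
    · left
      apply mat_ext <;> simp [h01, h10, h00, h]
    · right
      apply mat_ext <;> simp [h01, h10, h00, h]
  -- g * g = ± 1
  have hgg : g.1 * g.1 = 1 ∨ g.1 * g.1 = -1 := by
    have h1 : (QuotientGroup.mk (g * g) : Matrix.ProjectiveSpecialLinearGroup (Fin 2) F) =
        QuotientGroup.mk 1 := hb2
    rw [psl_mk_eq_iff] at h1
    simpa using h1
  -- trace zero
  have ht : g.1 0 0 + g.1 1 1 = 0 := by
    by_contra ht
    apply hg
    have E : ∀ i j : Fin 2, (g.1 * g.1) i j = (1 : Matrix (Fin 2) (Fin 2) F) i j ∨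
        (g.1 * g.1) i j = -(1 : Matrix (Fin 2) (Fin 2) F) i j := by
      intro i j
      rcases hgg with h | h
      · left; rw [h]
      · right; rw [h]; rfl
    have E01 : g.1 0 1 * (g.1 0 0 + g.1 1 1) = 0 := by
      have := E 0 1
      simp only [Matrix.mul_apply, Fin.sum_univ_two] at this
      rcases this with h | h <;> simp at h <;> linear_combination h
    have E10 : g.1 1 0 * (g.1 0 0 + g.1 1 1) = 0 := by
      have := E 1 0
      simp only [Matrix.mul_apply, Fin.sum_univ_two] at this
      rcases this with h | h <;> simp at h <;> linear_combination h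
    have E00 : (g.1 0 0 - g.1 1 1) * (g.1 0 0 + g.1 1 1) = 0 := by
      rcases hgg with h | h
      · have e0 := congrFun (congrFun h 0) 0
        have e1 := congrFun (congrFun h 1) 1
        simp only [Matrix.mul_apply, Fin.sum_univ_two] at e0 e1
        simp at e0 e1
        linear_combination e0 - e1
      · have e0 := congrFun (congrFun h 0) 0
        have e1 := congrFun (congrFun h 1) 1
        simp only [Matrix.mul_apply, Fin.sum_univ_two] at e0 e1
        simp at e0 e1
        linear_combination e0 - e1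
    refine ⟨(mul_eq_zero.1 E01).resolve_right ht, (mul_eq_zero.1 E10).resolve_right ht, ?_⟩
    have := (mul_eq_zero.1 E00).resolve_right ht
    linear_combination this
  have hodd : Fintype.card F % 2 = 1 := by omega
  obtain ⟨h₀, h₀a⟩ := exists_anticomm hodd h2 g ht
  have hcardCt := ctilde_card_of_anticomm h2 g h₀ h₀a
  have hidx := index_psl g
  have hZ := Cfsg.Agent.Helper53.ree_card_center_SL2 (F := F) h2
  have hSL := Subgroup.card_eq_card_quotient_mul_card_subgroup
    (Subgroup.center (Matrix.SpecialLinearGroup (Fin 2) F))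
  have hSLcard := card_SL2 (F := F)
  have hkey : Nat.card (Ctilde g) = 2 * Nat.card (Subgroup.centralizer
      ({(QuotientGroup.mk g : Matrix.ProjectiveSpecialLinearGroup (Fin 2) F)} :
        Set (Matrix.ProjectiveSpecialLinearGroup (Fin 2) F))) := by
    have hCidx := Subgroup.index_mul_card (Subgroup.centralizer
      ({(QuotientGroup.mk g : Matrix.ProjectiveSpecialLinearGroup (Fin 2) F)} :
        Set (Matrix.ProjectiveSpecialLinearGroup (Fin 2) F)))
    have hpos : 0 < (Subgroup.centralizer
      ({(QuotientGroup.mk g : Matrix.ProjectiveSpecialLinearGroup (Fin 2) F)} :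
        Set (Matrix.ProjectiveSpecialLinearGroup (Fin 2) F))).index :=
      Nat.pos_of_ne_zero Subgroup.index_ne_zero_of_finite
    apply Nat.eq_of_mul_eq_mul_left hpos
    have e : Nat.card (Matrix.SpecialLinearGroup (Fin 2) F ⧸
        Subgroup.center (Matrix.SpecialLinearGroup (Fin 2) F)) = _ := hCidx.symm
    rw [hidx, ← hSLcard, hSL, hZ, e]
    ring
  obtain ⟨-, -, c3⟩ := card_centralizer_odd h2 g hg 0 (by rw [ht]; ring)
  have hns : ¬ IsSquare ((0 : F) ^ 2 - 1) := by
    rw [show (0 : F) ^ 2 - 1 = -1 by ring, FiniteField.isSquare_neg_one_iff]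
    omega
  have hcard := c3 hns
  rw [hkey, hcard] at hcardCt
  omega

end Cfsg.Agent.Helper42
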