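import Cfsg.Agent.Helper68.BG14R30
import Cfsg.Agent.S1432

/-!
# CALL BG17 (helper25), piece EXA: an element `u ≠ 1` of `U` with a non-trivial fixed point on
`M_σ` is a `τ₂(M)`-element and `M` is the only maximal subgroup over `C_G(u)` (row S1432).
-/

set_option autoImplicit false

namespace Cfsg.Agent.Helper42

open Cfsg Subgroup

universe u

variable {G : Type u} [Group G] [Finite G]

/-- EXA. An element `u ≠ 1` of `U` with a fixed point `x ≠ 1` on `M_σ` is a `τ₂(M)`-element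
and `M` is the only maximal subgroup over `C_G(u)`. -/
theorem bg17_fix_tau2 (hG : IsMinSimpleOddOrder G) {M K U : Subgroup G} (hM : IsCoatom M)
    (hKU : IsSigmaDecomposition M K U) {u x : G} (hu : u ∈ U) (hu1 : u ≠ 1)
    (hx : x ∈ sigmaCore M) (hx1 : x ≠ 1) (hux : u * x = x * u) :
    (∀ p : ℕ, p.Prime → p ∣ orderOf u → p ∈ tau2 M) ∧ centralizer ({u} : Set G) ≤ M ∧
      ∀ L : Subgroup G, IsCoatom L → centralizer ({u} : Set G) ≤ L → L = M := by
  have hUh := Cfsg.Agent.Helper68.bg14r_U_hall hG hM hKU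
  have hUM : U ≤ M := hUh.1
  have hprime : ∀ p : ℕ, p.Prime → p ∣ orderOf u → p ∉ kappa M ∧ p ∉ sigma M := by
    intro p hp hpd
    have h1 : p ∣ Nat.card U := by
      have h' := orderOf_dvd_natCard (⟨u, hu⟩ : U)
      rw [Subgroup.orderOf_mk] at h'
      exact hpd.trans h'
    have h2 := hUh.2.1 p hp h1
    exact ⟨h2.2.1, h2.2.2⟩
  have hcen : u ∈ centralizer ({x} : Set G) := by
    rw [mem_centralizer_iff]
    intro y hy
    rw [Set.mem_singleton_iff] at hy
    rw [hy]
    exact hux.symm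
  have hmem : u ∈ M ⊓ centralizer ({x} : Set G) := Subgroup.mem_inf.mpr ⟨hUM hu, hcen⟩
  rcases Cfsg.Agent.S1432.result hG M hM x hx hx1 u hmem hu1
    (fun p hp hpd => (hprime p hp hpd).2) with h | h
  · exfalso
    have hox1 : orderOf u ≠ 1 := fun e => hu1 (orderOf_eq_one_iff.mp e)
    obtain ⟨q, hq, hqu⟩ := Nat.exists_prime_and_dvd hox1
    exact (hprime q hq hqu).1 (h.1 q hq hqu)
  · exact ⟨h.1, h.2.2.1, h.2.2.2⟩

end Cfsg.Agent.Helper42
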