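import Mathlib

set_option autoImplicit false

/-!
# `SL_n(F)`: generation by transvections, perfectness, Iwasawa (helper42)

* `transvection_smul_apply` : action of an elementary transvection on a vector;
* `diag2n_decompose` : `diag(a, a⁻¹)` in positions `i, j` is a product of six transvections;
* `transvection_induction` : induction principle: `SL(ι, F)` is generated by transvections;
* `iSup_lineStab_eq_top`, `iwasawa` : the Iwasawa structure of `SL(ι, F)` on projective space;
* `commutator_eq_top_of_three` : `SL(ι, F)` is perfect if `ι` has at least three elements;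
* `normal_le_center_or_eq_top` : a normal subgroup of a perfect `SL(ι, F)` is central or everything.
-/

namespace Cfsg.Agent.Helper42.SLn

open scoped LinearAlgebra.Projectivization Pointwise commutatorElement

variable {F : Type*} [Field F] {ι : Type*} [DecidableEq ι] [Fintype ι]

theorem transvection_smul_apply {i j : ι} (hij : i ≠ j) (b : F) (w : ι → F) (k : ι) :
    (Matrix.SpecialLinearGroup.transvection hij b • w) k =
      if k = i then w i + b * w j else w k := by
  simp only [Matrix.SpecialLinearGroup.smul_def, Matrix.SpecialLinearGroup.transvection_coe,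
    Matrix.smul_eq_mulVec,
    Matrix.add_mulVec, Matrix.one_mulVec, Matrix.single_mulVec_eq, Pi.add_apply, Pi.smul_apply,
    Pi.single_apply, smul_eq_mul]
  split_ifs with h
  · subst h; ring
  · ring

theorem diag2n_smul_apply {i j : ι} (hij : i ≠ j) (a : F) (ha : a ≠ 0) (w : ι → F) (k : ι) :
    (Matrix.SpecialLinearGroup.diag2n hij a ha • w) k =
      if k = i then a * w i else if k = j then a⁻¹ * w j else w k := by
  simp only [Matrix.SpecialLinearGroup.smul_def, Matrix.SpecialLinearGroup.diag2n_coe,
    Matrix.smul_eq_mulVec, Matrix.mulVec_diagonal]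
  split_ifs with h1 h2
  · rw [h1]
  · rw [h2]
  · rw [one_mul]

theorem sl_ext_smul (A B : Matrix.SpecialLinearGroup ι F) (h : ∀ w : ι → F, A • w = B • w) :
    A = B :=
  Subtype.ext (Matrix.ext_iff_smul.2 fun w => by
    simpa [Matrix.SpecialLinearGroup.smul_def] using h w)

theorem diag2n_decompose {i j : ι} (hij : i ≠ j) (a : F) (ha : a ≠ 0) :
    Matrix.SpecialLinearGroup.diag2n hij a ha =
      Matrix.SpecialLinearGroup.transvection hij a *
      Matrix.SpecialLinearGroup.transvection hij.symm (-a⁻¹) *
      Matrix.SpecialLinearGroup.transvection hij a *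
      Matrix.SpecialLinearGroup.transvection hij (-1) *
      Matrix.SpecialLinearGroup.transvection hij.symm 1 *
      Matrix.SpecialLinearGroup.transvection hij (-1) := by
  apply sl_ext_smul
  intro w
  funext k
  simp only [mul_smul, transvection_smul_apply, diag2n_smul_apply, if_true, hij, hij.symm,
    if_false]
  by_cases hki : k = i
  · subst hki
    simp only [if_true]
    field_simp
    ring
  · by_cases hkj : k = j
    · subst hkj
      simp only [if_true, hki, if_false]
      field_simp
      ring
    · simp only [hki, hkj, if_false]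

/-- `SL(ι, F)` is generated by transvections. -/
theorem transvection_induction [Nontrivial ι] (P : Matrix.SpecialLinearGroup ι F → Prop)
    (htransvec : ∀ (i j : ι) (hij : i ≠ j) (a : F),
      P (Matrix.SpecialLinearGroup.transvection hij a))
    (hmul : ∀ A B, P A → P B → P (A * B)) (M : Matrix.SpecialLinearGroup ι F) : P M := by
  refine Matrix.SpecialLinearGroup.diagonal_transvection_induction' P M
    (fun i j hij c hc => ?_) htransvec hmul
  rw [diag2n_decompose hij c hc]
  refine hmul _ _ (hmul _ _ (hmul _ _ (hmul _ _ (hmul _ _ ?_ ?_) ?_) ?_) ?_) ?_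
  all_goals exact htransvec _ _ _ _

theorem iSup_lineStab_eq_top [Nontrivial ι] :
    (⨆ p : ℙ F (ι → F), Matrix.SpecialLinearGroup.lineStab p.submodule) =
      (⊤ : Subgroup (Matrix.SpecialLinearGroup ι F)) := by
  rw [eq_top_iff]
  intro M _
  refine transvection_induction
    (fun M => M ∈ ⨆ p : ℙ F (ι → F), Matrix.SpecialLinearGroup.lineStab p.submodule)
    (fun i j hij a => ?_) (fun A B hA hB => Subgroup.mul_mem _ hA hB) M
  have h1 : (Pi.single i (1 : F) : ι → F) ≠ 0 := Pi.single_ne_zero_iff.2 one_ne_zero
  have h2 := SL2Gen.transvection_mem_lineStab hij a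
  rw [← Projectivization.submodule_mk (K := F) _ h1] at h2
  exact Subgroup.mem_iSup_of_mem (Projectivization.mk F _ h1) h2

/-- The Iwasawa structure of `SL(ι, F)` acting on projective space. -/
noncomputable def iwasawa [Nontrivial ι] :
    MulAction.IwasawaStructure (Matrix.SpecialLinearGroup ι F) (ℙ F (ι → F)) where
  T p := Matrix.SpecialLinearGroup.lineStab p.submodule
  is_comm p := by
    rw [← Projectivization.mk_rep p, Projectivization.submodule_mk]
    exact Matrix.SpecialLinearGroup.lineStab_isMulCommutative_of_span p.rep p.rep_nonzero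
  is_conj g p := by
    rw [PSL.smul_submodule, Matrix.SpecialLinearGroup.lineStab_smul]
  is_generator := iSup_lineStab_eq_top

theorem transvection_mem_commutator_of_three {i k : ι} (hik : i ≠ k) (j : ι) (hij : i ≠ j)
    (hjk : j ≠ k) (c : F) :
    Matrix.SpecialLinearGroup.transvection hik c ∈
      commutator (Matrix.SpecialLinearGroup ι F) := by
  have : Matrix.SpecialLinearGroup.transvection hik c =
      ⁅Matrix.SpecialLinearGroup.transvection hij c,
        Matrix.SpecialLinearGroup.transvection hjk 1⁆ := by
    rw [commutatorElement_def, Matrix.SpecialLinearGroup.transvection_inv,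
      Matrix.SpecialLinearGroup.transvection_inv]
    apply sl_ext_smul
    intro w
    funext l
    simp only [mul_smul, transvection_smul_apply, if_true, hij, hij.symm, hjk, hjk.symm, hik,
      hik.symm, if_false]
    by_cases hli : l = i
    · subst hli
      simp only [if_true]
      ring
    · by_cases hlj : l = j
      · subst hlj
        simp only [if_true, hli, if_false]
        ring
      · simp only [hli, hlj, if_false]
  rw [this]
  exact Subgroup.commutator_mem_commutator (Subgroup.mem_top _) (Subgroup.mem_top _)

/-- `SL(ι, F)` is perfect when `ι` has at least three elements. -/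
theorem commutator_eq_top_of_three (h3 : 3 ≤ Fintype.card ι) :
    commutator (Matrix.SpecialLinearGroup ι F) = ⊤ := by
  have : Nontrivial ι := Fintype.one_lt_card_iff_nontrivial.1 (by omega)
  rw [eq_top_iff]
  intro M _
  refine transvection_induction (fun M => M ∈ commutator (Matrix.SpecialLinearGroup ι F))
    (fun i k hik c => ?_) (fun A B hA hB => Subgroup.mul_mem _ hA hB) M
  obtain ⟨j, hji, hjk⟩ : ∃ j, j ≠ i ∧ j ≠ k := by
    by_contra hcon
    push Not at hcon
    have h2 : Fintype.card ι ≤ 2 := by
      calc Fintype.card ι = (Finset.univ : Finset ι).card := Finset.card_univ.symm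
        _ ≤ ({i, k} : Finset ι).card := Finset.card_le_card (fun j _ => by
            by_cases h : j = i
            · simp [h]
            · simp [hcon j h])
        _ ≤ 2 := Finset.card_le_two
    omega
  exact transvection_mem_commutator_of_three hik j hji.symm hjk c

/-- A normal subgroup of a perfect `SL(ι, F)` is central or everything. -/
theorem normal_le_center_or_eq_top [Nontrivial ι]
    (hperf : commutator (Matrix.SpecialLinearGroup ι F) = ⊤)
    (N : Subgroup (Matrix.SpecialLinearGroup ι F)) [N.Normal] :
    N ≤ Subgroup.center (Matrix.SpecialLinearGroup ι F) ∨ N = ⊤ := by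
  by_cases hN : MulAction.fixedPoints N (ℙ F (ι → F)) = Set.univ
  · left
    intro g hg
    rw [← Projectivization.SL_mulAction_ker, MonoidHom.mem_ker]
    ext p
    have := Set.eq_univ_iff_forall.1 hN p ⟨g, hg⟩
    simpa using this
  · right
    have := (iwasawa (F := F) (ι := ι)).commutator_le N hN
    rw [hperf] at this
    exact top_le_iff.1 this

/-- `PSL(ι, F)` is simple as soon as `SL(ι, F)` is perfect (and `ι` is nontrivial). -/
theorem psl_isSimpleGroup_of_perfect [Nontrivial ι]
    (hperf : commutator (Matrix.SpecialLinearGroup ι F) = ⊤) :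
    IsSimpleGroup (Matrix.ProjectiveSpecialLinearGroup ι F) := by
  refine IsSimpleGroup.mk (fun N' hN' => ?_)
  have hsurj : Function.Surjective
      (QuotientGroup.mk' (Subgroup.center (Matrix.SpecialLinearGroup ι F))) :=
    QuotientGroup.mk'_surjective _
  have hN : (N'.comap (QuotientGroup.mk' (Subgroup.center (Matrix.SpecialLinearGroup ι F)))).Normal :=
    hN'.comap _
  rcases normal_le_center_or_eq_top hperf
    (N'.comap (QuotientGroup.mk' (Subgroup.center (Matrix.SpecialLinearGroup ι F)))) with h | h
  · left
    rw [eq_bot_iff]
    intro x hx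
    obtain ⟨g, rfl⟩ := hsurj x
    have hg : g ∈ Subgroup.center (Matrix.SpecialLinearGroup ι F) := h hx
    rw [Subgroup.mem_bot]
    exact (QuotientGroup.eq_one_iff g).2 hg
  · right
    rw [eq_top_iff]
    intro x _
    obtain ⟨g, rfl⟩ := hsurj x
    have : g ∈ N'.comap (QuotientGroup.mk' (Subgroup.center (Matrix.SpecialLinearGroup ι F))) :=
      h ▸ Subgroup.mem_top g
    exact this

/-- `PSL(ι, F)` is simple when `ι` has at least three elements. -/
theorem psl_isSimpleGroup_of_three (h3 : 3 ≤ Fintype.card ι) :
    IsSimpleGroup (Matrix.ProjectiveSpecialLinearGroup ι F) := by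
  have : Nontrivial ι := Fintype.one_lt_card_iff_nontrivial.1 (by omega)
  exact psl_isSimpleGroup_of_perfect (commutator_eq_top_of_three h3)

end Cfsg.Agent.Helper42.SLn
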