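import Cfsg.Agent.Helper42.SL2

set_option autoImplicit false

/-!
# `SL₂(F)` and `PSL₂(F)` in odd characteristic (helper42)

* `card_conic`, `card_conic_sq`, `card_conic_nonsq`, `card_conic_zero` : the number of points of
  the conic `x² - D y² = 1`;
* `card_centralizer_odd` : orders of centralizers of non-scalar elements of `SL₂(F)`;
* `psl_mk_eq_iff`, `mem_ctilde`, `index_psl`, `ctilde_card_of_trace_ne`,
  `ctilde_card_of_anticomm`, `exists_anticomm` : centralizers in `PSL₂(F)`.
-/

namespace Cfsg.Agent.Helper42.SL2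

open Matrix

variable {F : Type*} [Field F]

/-- explicit element of `SL₂` -/
def mkSL (a b c d : F) (h : a * d - b * c = 1) : Matrix.SpecialLinearGroup (Fin 2) F :=
  ⟨!![a, b; c, d], by rw [Matrix.det_fin_two_of]; exact h⟩

theorem mkSL_apply (a b c d : F) (h : a * d - b * c = 1) :
    (mkSL a b c d h).1 0 0 = a ∧ (mkSL a b c d h).1 0 1 = b ∧ (mkSL a b c d h).1 1 0 = c ∧
      (mkSL a b c d h).1 1 1 = d := by
  simp [mkSL]

/-! ### The conic `x² - D y² = 1` -/

/-- the rational parametrisation of the conic -/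
noncomputable def conicPt (D : F) (m : {m : F // m ^ 2 ≠ D}) :
    {v : F × F // v.1 ^ 2 - D * v.2 ^ 2 = 1} :=
  ⟨(1 + m.1 * (-2 * m.1 / (m.1 ^ 2 - D)), -2 * m.1 / (m.1 ^ 2 - D)), by
    have hne : m.1 ^ 2 - D ≠ 0 := sub_ne_zero.2 m.2
    have hy : (m.1 ^ 2 - D) * (-2 * m.1 / (m.1 ^ 2 - D)) = -2 * m.1 := mul_div_cancel₀ _ hne
    show (1 + m.1 * (-2 * m.1 / (m.1 ^ 2 - D))) ^ 2 - D * (-2 * m.1 / (m.1 ^ 2 - D)) ^ 2 = 1
    generalize (-2 * m.1 / (m.1 ^ 2 - D)) = y at hy
    linear_combination y * hy⟩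

theorem conicPt_spec (D : F) (m : {m : F // m ^ 2 ≠ D}) :
    (m.1 ^ 2 - D) * (conicPt D m).1.2 = -2 * m.1 ∧
      (conicPt D m).1.1 = 1 + m.1 * (conicPt D m).1.2 :=
  ⟨mul_div_cancel₀ _ (sub_ne_zero.2 m.2), rfl⟩

/-- the point `(-1, 0)` -/
def conicNeg (D : F) : {v : F × F // v.1 ^ 2 - D * v.2 ^ 2 = 1} := ⟨(-1, 0), by ring⟩

/-- the parametrisation map -/
noncomputable def conicMap (D : F) :
    Option {m : F // m ^ 2 ≠ D} → {v : F × F // v.1 ^ 2 - D * v.2 ^ 2 = 1}
  | none => conicNeg D
  | some m => conicPt D m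

theorem conicMap_bijective (h2 : (2 : F) ≠ 0) (D : F) (hD : D ≠ 0) :
    Function.Bijective (conicMap D) := by
  constructor
  · rintro (_ | m) (_ | m') h
    · rfl
    · exfalso
      obtain ⟨hy, hx⟩ := conicPt_spec D m'
      have h1 : (-1 : F) = (conicPt D m').1.1 := congrArg (fun v => v.1.1) h
      have h2' : (0 : F) = (conicPt D m').1.2 := congrArg (fun v => v.1.2) h
      rw [hx, ← h2'] at h1
      apply h2
      linear_combination -h1
    · exfalso
      obtain ⟨hy, hx⟩ := conicPt_spec D m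
      have h1 : (conicPt D m).1.1 = (-1 : F) := congrArg (fun v => v.1.1) h
      have h2' : (conicPt D m).1.2 = (0 : F) := congrArg (fun v => v.1.2) h
      rw [hx, h2'] at h1
      apply h2
      linear_combination h1
    · obtain ⟨hy, hx⟩ := conicPt_spec D m
      obtain ⟨hy', hx'⟩ := conicPt_spec D m'
      have h1 : (conicPt D m).1.1 = (conicPt D m').1.1 := congrArg (fun v => v.1.1) h
      have h2' : (conicPt D m).1.2 = (conicPt D m').1.2 := congrArg (fun v => v.1.2) h
      rw [hx, hx', ← h2'] at h1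
      rw [← h2'] at hy'
      have hmm : m.1 = m'.1 := by
        by_cases hy0 : (conicPt D m).1.2 = 0
        · rw [hy0] at hy hy'
          have e1 : m.1 = 0 := by
            have : (2 : F) * m.1 = 0 := by linear_combination hy
            exact (mul_eq_zero.1 this).resolve_left h2
          have e2 : m'.1 = 0 := by
            have : (2 : F) * m'.1 = 0 := by linear_combination hy'
            exact (mul_eq_zero.1 this).resolve_left h2
          rw [e1, e2]
        · exact mul_right_cancel₀ hy0 (by linear_combination h1)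
      exact congrArg some (Subtype.ext hmm)
  · rintro ⟨⟨x, y⟩, hv⟩
    have hv' : x ^ 2 - D * y ^ 2 = 1 := hv
    by_cases hy0 : y = 0
    · subst hy0
      have hx : x = 1 ∨ x = -1 := by
        rw [← sq_eq_one_iff]
        linear_combination hv'
      rcases hx with rfl | rfl
      · have h0 : (0 : F) ^ 2 ≠ D := by
          rw [ne_comm]; simpa using hD
        refine ⟨some ⟨0, h0⟩, ?_⟩
        obtain ⟨hy, hx⟩ := conicPt_spec D ⟨0, h0⟩
        have e2 : (conicPt D ⟨0, h0⟩).1.2 = 0 := by
          have hne : (0 : F) ^ 2 - D ≠ 0 := sub_ne_zero.2 h0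
          exact (mul_eq_zero.1 (by rw [hy]; ring)).resolve_left hne
        apply Subtype.ext
        apply Prod.ext
        · show (conicPt D ⟨0, h0⟩).1.1 = 1
          rw [hx]; simp
        · exact e2
      · exact ⟨none, rfl⟩
    · have hx1 : x ≠ 1 := by
        rintro rfl
        have : D * y ^ 2 = 0 := by linear_combination -hv'
        rcases mul_eq_zero.1 this with h | h
        · exact hD h
        · exact hy0 (pow_eq_zero_iff (by norm_num) |>.1 h)
      have hmy : (x - 1) / y * y = x - 1 := div_mul_cancel₀ _ hy0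
      have key : (((x - 1) / y) ^ 2 - D) * y = -2 * ((x - 1) / y) := by
        apply mul_right_cancel₀ hy0
        linear_combination (x - 1 + (x - 1) / y * y + 2) * hmy + hv'
      have hm : ((x - 1) / y) ^ 2 ≠ D := by
        intro h
        rw [h, sub_self, zero_mul] at key
        have h3 : (x - 1) / y = 0 := by
          have : (2 : F) * ((x - 1) / y) = 0 := by linear_combination key
          exact (mul_eq_zero.1 this).resolve_left h2
        rw [h3, zero_mul] at hmy
        exact hx1 (by linear_combination -hmy)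
      refine ⟨some ⟨(x - 1) / y, hm⟩, ?_⟩
      obtain ⟨hy, hx⟩ := conicPt_spec D ⟨(x - 1) / y, hm⟩
      have e2 : (conicPt D ⟨(x - 1) / y, hm⟩).1.2 = y := by
        have hne : ((x - 1) / y) ^ 2 - D ≠ 0 := sub_ne_zero.2 hm
        exact mul_left_cancel₀ hne (hy.trans key.symm)
      apply Subtype.ext
      apply Prod.ext
      · show (conicPt D ⟨(x - 1) / y, hm⟩).1.1 = x
        rw [hx, e2]
        show 1 + (x - 1) / y * y = x
        rw [hmy]; ring
      · exact e2

variable [Fintype F]

theorem card_conic (h2 : (2 : F) ≠ 0) (D : F) (hD : D ≠ 0) :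
    Nat.card {v : F × F // v.1 ^ 2 - D * v.2 ^ 2 = 1} = Nat.card {m : F // m ^ 2 ≠ D} + 1 := by
  rw [← Finite.card_option]
  exact (Nat.card_eq_of_bijective _ (conicMap_bijective h2 D hD)).symm

theorem card_conic_sq (h2 : (2 : F) ≠ 0) (d : F) (hd : d ≠ 0) :
    Nat.card {v : F × F // v.1 ^ 2 - d ^ 2 * v.2 ^ 2 = 1} = Fintype.card F - 1 := by
  classical
  rw [card_conic h2 (d ^ 2) (pow_ne_zero 2 hd), Nat.card_eq_fintype_card,
    Fintype.card_subtype_compl, Fintype.card_subtype]
  have : (Finset.univ.filter (fun m : F => m ^ 2 = d ^ 2)) = {d, -d} := by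
    ext m
    simp [sq_eq_sq_iff_eq_or_eq_neg]
  rw [this, Finset.card_pair]
  · have : 2 < Fintype.card F := by
      have h3 : ({0, 1, -1} : Finset F).card = 3 := by
        rw [Finset.card_insert_of_notMem, Finset.card_pair]
        · intro h
          apply h2
          linear_combination h
        · simp only [Finset.mem_insert, Finset.mem_singleton, not_or]
          exact ⟨zero_ne_one, fun h => by simp at h⟩
      have := Finset.card_le_univ ({0, 1, -1} : Finset F)
      omega
    omega
  · intro h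
    apply hd
    have : (2 : F) * d = 0 := by linear_combination h
    exact (mul_eq_zero.1 this).resolve_left h2

theorem card_conic_nonsq (h2 : (2 : F) ≠ 0) (D : F) (hD : ¬ IsSquare D) :
    Nat.card {v : F × F // v.1 ^ 2 - D * v.2 ^ 2 = 1} = Fintype.card F + 1 := by
  have hD0 : D ≠ 0 := by
    rintro rfl
    exact hD ⟨0, by simp⟩
  have hall : ∀ m : F, m ^ 2 ≠ D := fun m h => hD ⟨m, by rw [← h]; ring⟩
  rw [card_conic h2 D hD0, Nat.card_congr (Equiv.subtypeUnivEquiv hall), Nat.card_eq_fintype_card]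

theorem card_conic_zero (h2 : (2 : F) ≠ 0) :
    Nat.card {v : F × F // v.1 ^ 2 - 0 * v.2 ^ 2 = 1} = 2 * Fintype.card F := by
  classical
  rw [Nat.card_eq_fintype_card, Fintype.card_subtype]
  have : (Finset.univ.filter (fun v : F × F => v.1 ^ 2 - 0 * v.2 ^ 2 = 1)) =
      ({1, -1} : Finset F) ×ˢ Finset.univ := by
    ext ⟨x, y⟩
    simp
  rw [this, Finset.card_product, Finset.card_pair, Finset.card_univ]
  intro h
  apply h2
  linear_combination h

omit [Fintype F] in
/-- completing the square -/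
theorem card_Qt (s : F) :
    Nat.card {v : F × F // v.1 ^ 2 + (2 * s) * v.1 * v.2 + v.2 ^ 2 = 1} =
      Nat.card {v : F × F // v.1 ^ 2 - (s ^ 2 - 1) * v.2 ^ 2 = 1} := by
  refine Nat.card_congr
    { toFun := fun v => ⟨(v.1.1 + s * v.1.2, v.1.2), by
        have := v.2
        linear_combination this⟩
      invFun := fun w => ⟨(w.1.1 - s * w.1.2, w.1.2), by
        have := w.2
        linear_combination this⟩
      left_inv := fun v => by
        apply Subtype.ext
        apply Prod.ext
        · show v.1.1 + s * v.1.2 - s * v.1.2 = v.1.1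
          ring
        · rfl
      right_inv := fun w => by
        apply Subtype.ext
        apply Prod.ext
        · show w.1.1 - s * w.1.2 + s * w.1.2 = w.1.1
          ring
        · rfl }

/-- Orders of centralizers of non-scalar elements of `SL₂(F)`, odd characteristic. -/
theorem card_centralizer_odd (h2 : (2 : F) ≠ 0) (g : Matrix.SpecialLinearGroup (Fin 2) F)
    (hg : NonScalar g.1) (s : F) (hs : g.1 0 0 + g.1 1 1 = 2 * s) :
    (s ^ 2 = 1 → Nat.card (Subgroup.centralizer
      ({g} : Set (Matrix.SpecialLinearGroup (Fin 2) F))) = 2 * Fintype.card F) ∧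
    (∀ d : F, d ≠ 0 → s ^ 2 - 1 = d ^ 2 → Nat.card (Subgroup.centralizer
      ({g} : Set (Matrix.SpecialLinearGroup (Fin 2) F))) = Fintype.card F - 1) ∧
    (¬ IsSquare (s ^ 2 - 1) → Nat.card (Subgroup.centralizer
      ({g} : Set (Matrix.SpecialLinearGroup (Fin 2) F))) = Fintype.card F + 1) := by
  rw [card_centralizer g hg, hs, card_Qt]
  refine ⟨fun h => ?_, fun d hd h => ?_, fun h => ?_⟩
  · have : s ^ 2 - 1 = 0 := by linear_combination h
    rw [this]
    exact card_conic_zero h2
  · rw [h]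
    exact card_conic_sq h2 d hd
  · exact card_conic_nonsq h2 _ h

/-! ### `PSL₂` -/

omit [Fintype F] in
theorem scalar_neg_one : Matrix.scalar (Fin 2) (-1 : F) = -1 := by
  ext i j
  fin_cases i <;> fin_cases j <;> simp

omit [Fintype F] in
/-- equality in `PSL₂` -/
theorem psl_mk_eq_iff (a b : Matrix.SpecialLinearGroup (Fin 2) F) :
    (QuotientGroup.mk a : Matrix.ProjectiveSpecialLinearGroup (Fin 2) F) = QuotientGroup.mk b ↔
      a.1 = b.1 ∨ a.1 = -b.1 := by
  rw [QuotientGroup.eq, Matrix.SpecialLinearGroup.mem_center_iff]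
  constructor
  · rintro ⟨r, hr, hrA⟩
    simp only [Fintype.card_fin] at hr
    have hb : b.1 = a.1 * (a⁻¹ * b).1 := by
      rw [← Matrix.SpecialLinearGroup.coe_mul, mul_inv_cancel_left]
    rw [← hrA] at hb
    rcases sq_eq_one_iff.1 hr with rfl | rfl
    · left; rw [hb]; simp
    · right
      rw [scalar_neg_one] at hb
      rw [hb]; simp
  · rintro (h | h)
    · have : a = b := Subtype.ext h
      subst this
      exact ⟨1, by simp, by simp⟩
    · refine ⟨-1, by simp, ?_⟩
      have hb : b.1 = -a.1 := by rw [h]; simp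
      rw [Matrix.SpecialLinearGroup.coe_mul, hb, Matrix.mul_neg,
        ← Matrix.SpecialLinearGroup.coe_mul, inv_mul_cancel, scalar_neg_one]
      simp

/-- the preimage in `SL₂` of the centralizer in `PSL₂` of the image of `g` -/
def Ctilde (g : Matrix.SpecialLinearGroup (Fin 2) F) :
    Subgroup (Matrix.SpecialLinearGroup (Fin 2) F) :=
  (Subgroup.centralizer ({(QuotientGroup.mk g : Matrix.ProjectiveSpecialLinearGroup (Fin 2) F)} :
    Set (Matrix.ProjectiveSpecialLinearGroup (Fin 2) F))).comap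
      (QuotientGroup.mk' (Subgroup.center (Matrix.SpecialLinearGroup (Fin 2) F)))

omit [Fintype F] in
theorem mem_ctilde (g h : Matrix.SpecialLinearGroup (Fin 2) F) :
    h ∈ Ctilde g ↔ (h.1 * g.1 = g.1 * h.1 ∨ h.1 * g.1 = -(g.1 * h.1)) := by
  unfold Ctilde
  rw [Subgroup.mem_comap, Subgroup.mem_centralizer_iff]
  simp only [Set.mem_singleton_iff, forall_eq, QuotientGroup.mk'_apply]
  rw [← QuotientGroup.mk_mul, ← QuotientGroup.mk_mul, psl_mk_eq_iff]
  simp only [Matrix.SpecialLinearGroup.coe_mul]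
  constructor
  · rintro (h1 | h1)
    · left; exact h1.symm
    · right; rw [h1, neg_neg]
  · rintro (h1 | h1)
    · left; exact h1.symm
    · right; rw [h1, neg_neg]

theorem index_psl (g : Matrix.SpecialLinearGroup (Fin 2) F) :
    (Subgroup.centralizer ({(QuotientGroup.mk g : Matrix.ProjectiveSpecialLinearGroup (Fin 2) F)} :
      Set (Matrix.ProjectiveSpecialLinearGroup (Fin 2) F))).index * Nat.card (Ctilde g) =
      Fintype.card F * (Fintype.card F ^ 2 - 1) := by
  unfold Ctilde
  rw [← Subgroup.index_comap_of_surjective _ (QuotientGroup.mk'_surjective _),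
    Subgroup.index_mul_card, card_SL2]

omit [Fintype F] in
theorem anticomm_trace (h2 : (2 : F) ≠ 0) (g h : Matrix.SpecialLinearGroup (Fin 2) F)
    (hA : h.1 * g.1 = -(g.1 * h.1)) : g.1 0 0 + g.1 1 1 = 0 := by
  have E00 := congrFun (congrFun hA 0) 0
  have E01 := congrFun (congrFun hA 0) 1
  have E10 := congrFun (congrFun hA 1) 0
  have E11 := congrFun (congrFun hA 1) 1
  simp only [Matrix.mul_apply, Fin.sum_univ_two, Matrix.neg_apply] at E00 E01 E10 E11
  have hdet := det_eq h
  have : (2 : F) * (g.1 0 0 + g.1 1 1) = 0 := by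
    linear_combination h.1 1 1 * E00 + h.1 0 0 * E11 - h.1 1 0 * E01 - h.1 0 1 * E10 -
      2 * (g.1 0 0 + g.1 1 1) * hdet
  exact (mul_eq_zero.1 this).resolve_left h2

omit [Fintype F] in
theorem ctilde_card_of_trace_ne (h2 : (2 : F) ≠ 0) (g : Matrix.SpecialLinearGroup (Fin 2) F)
    (ht : g.1 0 0 + g.1 1 1 ≠ 0) :
    Nat.card (Ctilde g) =
      Nat.card (Subgroup.centralizer ({g} : Set (Matrix.SpecialLinearGroup (Fin 2) F))) := by
  have : Ctilde g = Subgroup.centralizer ({g} : Set (Matrix.SpecialLinearGroup (Fin 2) F)) := by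
    ext h
    rw [mem_ctilde, Subgroup.mem_centralizer_iff]
    simp only [Set.mem_singleton_iff, forall_eq]
    constructor
    · rintro (h1 | h1)
      · apply Subtype.ext
        rw [Matrix.SpecialLinearGroup.coe_mul, Matrix.SpecialLinearGroup.coe_mul]
        exact h1.symm
      · exact absurd (anticomm_trace h2 g h h1) ht
    · intro h1
      left
      rw [← Matrix.SpecialLinearGroup.coe_mul, ← Matrix.SpecialLinearGroup.coe_mul, h1]
  rw [this]

theorem ctilde_card_of_anticomm (h2 : (2 : F) ≠ 0) (g h₀ : Matrix.SpecialLinearGroup (Fin 2) F)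
    (h₀a : h₀.1 * g.1 = -(g.1 * h₀.1)) :
    Nat.card (Ctilde g) =
      2 * Nat.card (Subgroup.centralizer ({g} : Set (Matrix.SpecialLinearGroup (Fin 2) F))) := by
  let C : Set (Matrix.SpecialLinearGroup (Fin 2) F) := {h | h.1 * g.1 = g.1 * h.1}
  let A : Set (Matrix.SpecialLinearGroup (Fin 2) F) := {h | h.1 * g.1 = -(g.1 * h.1)}
  have hT : (Ctilde g : Set (Matrix.SpecialLinearGroup (Fin 2) F)) = C ∪ A := by
    ext h
    simp only [SetLike.mem_coe, mem_ctilde]
    rfl
  have hC : (Subgroup.centralizer ({g} : Set (Matrix.SpecialLinearGroup (Fin 2) F)) :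
      Set (Matrix.SpecialLinearGroup (Fin 2) F)) = C := by
    ext h
    simp only [SetLike.mem_coe, Subgroup.mem_centralizer_iff, Set.mem_singleton_iff, forall_eq]
    constructor
    · intro h1
      show h.1 * g.1 = g.1 * h.1
      rw [← Matrix.SpecialLinearGroup.coe_mul, ← Matrix.SpecialLinearGroup.coe_mul, h1]
    · intro h1
      apply Subtype.ext
      rw [Matrix.SpecialLinearGroup.coe_mul, Matrix.SpecialLinearGroup.coe_mul]
      exact h1.symm
  have hdisj : Disjoint C A := by
    rw [Set.disjoint_left]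
    intro h (hc : h.1 * g.1 = g.1 * h.1) (ha : h.1 * g.1 = -(g.1 * h.1))
    have h0 : (2 : F) • (g.1 * h.1) = 0 := by
      rw [two_smul]
      nth_rewrite 1 [← hc]
      rw [ha]
      simp
    have h1 : g.1 * h.1 = 0 := (smul_eq_zero.1 h0).resolve_left h2
    have h3 : (g.1 * h.1).det = 1 := by
      rw [Matrix.det_mul, g.2, h.2, mul_one]
    rw [h1] at h3
    simp at h3
  have hCA : C.ncard ≤ A.ncard := by
    refine Set.ncard_le_ncard_of_injOn (fun c => c * h₀) (fun c hc => ?_)
      (fun a _ b _ hab => mul_right_cancel hab) (Set.toFinite A)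
    have hc' : c.1 * g.1 = g.1 * c.1 := hc
    show (c * h₀).1 * g.1 = -(g.1 * (c * h₀).1)
    rw [Matrix.SpecialLinearGroup.coe_mul, Matrix.mul_assoc, h₀a, Matrix.mul_neg,
      ← Matrix.mul_assoc, hc', Matrix.mul_assoc]
  have hAC : A.ncard ≤ C.ncard := by
    refine Set.ncard_le_ncard_of_injOn (fun c => c * h₀) (fun c hc => ?_)
      (fun a _ b _ hab => mul_right_cancel hab) (Set.toFinite C)
    have hc' : c.1 * g.1 = -(g.1 * c.1) := hc
    show (c * h₀).1 * g.1 = g.1 * (c * h₀).1
    rw [Matrix.SpecialLinearGroup.coe_mul, Matrix.mul_assoc, h₀a, Matrix.mul_neg,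
      ← Matrix.mul_assoc, hc', Matrix.neg_mul, neg_neg, Matrix.mul_assoc]
  have e1 : Nat.card (Ctilde g) = (C ∪ A).ncard := by
    rw [← hT]
    rfl
  have e2 : Nat.card (Subgroup.centralizer ({g} : Set (Matrix.SpecialLinearGroup (Fin 2) F))) =
      C.ncard := by
    rw [← hC]
    rfl
  rw [e1, e2, Set.ncard_union_eq hdisj (Set.toFinite _) (Set.toFinite _)]
  omega

omit [Fintype F] in
theorem anticomm_of (g : Matrix.SpecialLinearGroup (Fin 2) F) (ht : g.1 0 0 + g.1 1 1 = 0)
    (x y z : F) (hdet : x * (-x) - y * z = 1)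
    (hE : 2 * x * g.1 0 0 + y * g.1 1 0 + g.1 0 1 * z = 0) :
    (mkSL x y z (-x) hdet).1 * g.1 = -(g.1 * (mkSL x y z (-x) hdet).1) := by
  obtain ⟨e00, e01, e10, e11⟩ := mkSL_apply x y z (-x) hdet
  have hs : g.1 1 1 = -g.1 0 0 := by linear_combination ht
  apply mat_ext
  · simp only [Matrix.mul_apply, Fin.sum_univ_two, Matrix.neg_apply, e00, e01, e10, e11, hs]
    linear_combination hE
  · simp only [Matrix.mul_apply, Fin.sum_univ_two, Matrix.neg_apply, e00, e01, e10, e11, hs]
    ring
  · simp only [Matrix.mul_apply, Fin.sum_univ_two, Matrix.neg_apply, e00, e01, e10, e11, hs]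
    ring
  · simp only [Matrix.mul_apply, Fin.sum_univ_two, Matrix.neg_apply, e00, e01, e10, e11, hs]
    linear_combination hE

theorem exists_sum_sq (hodd : Fintype.card F % 2 = 1) (c : F) :
    ∃ a b : F, a ^ 2 + b ^ 2 = c := by
  obtain ⟨a, b, hab⟩ := FiniteField.exists_root_sum_quadratic (f := Polynomial.X ^ 2)
    (g := Polynomial.X ^ 2 - Polynomial.C c) (Polynomial.degree_X_pow 2)
    (Polynomial.degree_X_pow_sub_C (by decide) _) hodd
  refine ⟨a, b, ?_⟩
  simp only [Polynomial.eval_pow, Polynomial.eval_X, Polynomial.eval_sub, Polynomial.eval_C] at hab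
  linear_combination hab

/-- For a trace-zero element of `SL₂(F)` (`q` odd), there is an anti-commuting element. -/
theorem exists_anticomm (hodd : Fintype.card F % 2 = 1) (h2 : (2 : F) ≠ 0)
    (g : Matrix.SpecialLinearGroup (Fin 2) F) (ht : g.1 0 0 + g.1 1 1 = 0) :
    ∃ h : Matrix.SpecialLinearGroup (Fin 2) F, h.1 * g.1 = -(g.1 * h.1) := by
  have hdet := det_eq g
  have hs : g.1 1 1 = -g.1 0 0 := by linear_combination ht
  rw [hs] at hdet
  by_cases hq : g.1 0 1 = 0
  · have hp : g.1 0 0 ≠ 0 := by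
      intro hp0
      rw [hp0, hq] at hdet
      simp at hdet
    have hdet' : (-(g.1 1 0) / (2 * g.1 0 0)) * (-(-(g.1 1 0) / (2 * g.1 0 0))) -
        1 * (-1 - (-(g.1 1 0) / (2 * g.1 0 0)) ^ 2) = 1 := by ring
    refine ⟨mkSL _ 1 _ _ hdet', anticomm_of g ht _ _ _ hdet' ?_⟩
    rw [hq]
    field_simp
    ring
  · obtain ⟨u, y, huy⟩ := exists_sum_sq hodd (-(g.1 0 1) ^ 2)
    have hqx : g.1 0 1 * ((u + g.1 0 0 * y) / g.1 0 1) = u + g.1 0 0 * y := by
      field_simp
    generalize (u + g.1 0 0 * y) / g.1 0 1 = x at hqx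
    have hqz : g.1 0 1 * (-(2 * x * g.1 0 0 + y * g.1 1 0) / g.1 0 1) =
        -(2 * x * g.1 0 0 + y * g.1 1 0) := by
      field_simp
    generalize -(2 * x * g.1 0 0 + y * g.1 1 0) / g.1 0 1 = z at hqz
    have hdet' : x * (-x) - y * z = 1 := by
      apply mul_left_cancel₀ (pow_ne_zero 2 hq)
      linear_combination (-g.1 0 1 * x - u + g.1 0 0 * y) * hqx - g.1 0 1 * y * hqz - huy -
        y ^ 2 * hdet
    refine ⟨mkSL x y z (-x) hdet', anticomm_of g ht x y z hdet' ?_⟩
    linear_combination hqz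

end Cfsg.Agent.Helper42.SL2
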