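import Mathlib
import Cfsg.Agent.Helper42.BnCnB
import Cfsg.Agent.Helper45.Spinor
import Cfsg.Agent.Helper14.OddOrthCenter
import Cfsg.Agent.Helper5.QuadCount
import Cfsg.Agent.S2904
import Cfsg.Agent.Helper42.SpModels

set_option autoImplicit false

/-!
# Spectra of `B_n(q)` and `C_n(q)`: the orthogonal side (helper42)

No element of `Ω_{2n+1}(q)` (`q` odd, `n ≥ 3`) has order `p (q^(n-1) + 1)`.  The sign character
`Helper45.spin` on the level set `Q = 1` is `-1` on the semisimple part of such an element.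
-/

namespace Cfsg.Agent.Helper42.BnCn

open Matrix

universe u

section arith

/-- The parity computation. -/
theorem arith_odd (q m k N₀ : ℕ) (hq : Odd q) (hq3 : 3 ≤ q) (hm : 2 ≤ m)
    (h : (q ^ m + 1) * k + N₀ = q ^ (2 * (m + 1)) + q ^ (m + 1))
    (hN : N₀ = q ^ 2 - q ∨ N₀ = q ^ 2 + q) : Odd k := by
  have hqq : q ≤ q ^ 2 := by nlinarith
  have hqZ : Odd (q : ℤ) := by exact_mod_cast hq
  have hA0 : ((q : ℤ) ^ m + 1) ≠ 0 := by positivity
  have hZ : ((q : ℤ) ^ m + 1) * k + N₀ = (q : ℤ) ^ (2 * (m + 1)) + (q : ℤ) ^ (m + 1) := by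
    exact_mod_cast h
  rcases hN with hN | hN
  · have hN' : (N₀ : ℤ) = (q : ℤ) ^ 2 - q := by
      rw [hN]
      push_cast [Nat.cast_sub hqq]
      ring
    have hk : (k : ℤ) = (q : ℤ) ^ (m + 2) - (q : ℤ) ^ 2 + q := by
      apply mul_left_cancel₀ hA0
      rw [hN'] at hZ
      have e1 : (q : ℤ) ^ (2 * (m + 1)) = (q : ℤ) ^ m * (q : ℤ) ^ (m + 2) := by ring
      have e2 : (q : ℤ) ^ (m + 1) = (q : ℤ) ^ m * q := by ring
      have e3 : (q : ℤ) ^ (m + 2) = (q : ℤ) ^ m * (q : ℤ) ^ 2 := by ring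
      rw [e1, e2] at hZ
      linear_combination hZ + e3
    have hodd : Odd ((q : ℤ) ^ (m + 2) - (q : ℤ) ^ 2 + q) :=
      Even.add_odd (Odd.sub_odd hqZ.pow hqZ.pow) hqZ
    rw [← hk] at hodd
    exact_mod_cast hodd
  · exfalso
    have hN' : (N₀ : ℤ) = (q : ℤ) ^ 2 + q := by
      rw [hN]
      push_cast
      ring
    have hdvd : ((q : ℤ) ^ m + 1) ∣ 2 * q := by
      refine ⟨(q : ℤ) ^ (m + 2) - (q : ℤ) ^ 2 + q - k, ?_⟩
      rw [hN'] at hZ
      have e1 : (q : ℤ) ^ (2 * (m + 1)) = (q : ℤ) ^ m * (q : ℤ) ^ (m + 2) := by ring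
      have e2 : (q : ℤ) ^ (m + 1) = (q : ℤ) ^ m * q := by ring
      have e3 : (q : ℤ) ^ (m + 2) = (q : ℤ) ^ m * (q : ℤ) ^ 2 := by ring
      rw [e1, e2] at hZ
      linear_combination hZ - e3
    have hle := Int.le_of_dvd (by positivity) hdvd
    have h1 : q ^ 2 ≤ q ^ m := Nat.pow_le_pow_right (by omega) hm
    have h2 : 3 * q ≤ q ^ 2 := by nlinarith
    have h3 : (q : ℤ) ^ m + 1 ≤ 2 * q := hle
    have h4 : q ^ m + 1 ≤ 2 * q := by exact_mod_cast h3
    omega

end arith

section count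

variable {F : Type u} [Field F] [Fintype F]

/-- The number of vectors of norm one for `x₀² + Σ xᵢ yᵢ`. -/
theorem card_lev_odd (h2 : (2 : F) ≠ 0) (n : ℕ) (hn : 1 ≤ n) :
    Nat.card {v : Unit ⊕ (Fin n ⊕ Fin n) → F // Cfsg.quadFormOdd n F v = 1} =
      Fintype.card F ^ (2 * n) + Fintype.card F ^ n := by
  classical
  obtain ⟨e, he⟩ : ∃ e : (Unit ⊕ (Fin n ⊕ Fin n) → F) ≃ F × ((Fin n → F) × (Fin n → F)),
      ∀ v, e v = (v (Sum.inl ()), (fun i => v (Sum.inr (Sum.inl i)),
        fun i => v (Sum.inr (Sum.inr i)))) :=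
    ⟨{ toFun := fun v => (v (Sum.inl ()), (fun i => v (Sum.inr (Sum.inl i)),
          fun i => v (Sum.inr (Sum.inr i))))
       invFun := fun p => Sum.elim (fun _ => p.1) (Sum.elim p.2.1 p.2.2)
       left_inv := by
         intro v
         funext j
         rcases j with ⟨⟩ | j | j <;> rfl
       right_inv := by
         rintro ⟨x, y, z⟩
         rfl }, fun v => rfl⟩
  have h1 : Nat.card {v : Unit ⊕ (Fin n ⊕ Fin n) → F // Cfsg.quadFormOdd n F v = 1} =
      Nat.card {p : F × ((Fin n → F) × (Fin n → F)) //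
        p.1 ^ 2 + ∑ i, p.2.1 i * p.2.2 i = 1} := by
    apply Nat.card_congr
    refine e.subtypeEquiv ?_
    intro v
    rw [he]
    rfl
  rw [h1, Helper5.card_subtype_prod
    (fun (x : F) (p : (Fin n → F) × (Fin n → F)) => x ^ 2 + ∑ i, p.1 i * p.2 i = 1)]
  have h3 : ∀ x : F, Nat.card {p : (Fin n → F) × (Fin n → F) //
      x ^ 2 + ∑ i, p.1 i * p.2 i = 1} =
      (if x ^ 2 = 1 then Fintype.card F ^ n else 0) +
        (Fintype.card F ^ n - 1) * Fintype.card F ^ (n - 1) := by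
    intro x
    have h4 : Nat.card {p : (Fin n → F) × (Fin n → F) // x ^ 2 + ∑ i, p.1 i * p.2 i = 1} =
        Nat.card {p : (Fin n → F) × (Fin n → F) // ∑ i, p.1 i * p.2 i = 1 - x ^ 2} := by
      apply Nat.card_congr
      apply Equiv.subtypeEquivRight
      intro p
      constructor
      · intro h
        linear_combination h
      · intro h
        linear_combination h
    rw [h4, Helper5.card_dot_pairs, Fintype.card_fin]
    congr 1
    by_cases hx : x ^ 2 = 1
    · rw [if_pos hx, if_pos (by rw [hx, sub_self])]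
    · rw [if_neg hx, if_neg (fun h => hx (sub_eq_zero.mp h).symm)]
  rw [Finset.sum_congr rfl (fun x _ => h3 x), Finset.sum_add_distrib, Finset.sum_const,
    Finset.card_univ, smul_eq_mul, Finset.sum_ite, Finset.sum_const, Finset.sum_const_zero,
    add_zero, smul_eq_mul]
  have h5 : (Finset.univ.filter (fun x : F => x ^ 2 = 1)).card = 2 := by
    have h6 : Finset.univ.filter (fun x : F => x ^ 2 = 1) = {1, -1} := by
      ext x
      rw [Finset.mem_filter, Finset.mem_insert, Finset.mem_singleton]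
      constructor
      · rintro ⟨-, hx⟩
        exact mul_self_eq_one_iff.mp (by rw [← pow_two]; exact hx)
      · rintro (rfl | rfl)
        · exact ⟨Finset.mem_univ _, one_pow 2⟩
        · exact ⟨Finset.mem_univ _, by ring⟩
    rw [h6, Finset.card_pair]
    intro h
    have h7 : (2 : F) = 0 := by linear_combination h
    exact h2 h7
  rw [h5]
  obtain ⟨k, rfl⟩ : ∃ k, n = k + 1 := ⟨n - 1, by omega⟩
  have hq : 1 ≤ Fintype.card F ^ (k + 1) := Nat.one_le_pow _ _ Fintype.card_pos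
  obtain ⟨M, hM⟩ : ∃ M, Fintype.card F ^ (k + 1) = M + 1 := ⟨_, (Nat.sub_add_cancel hq).symm⟩
  have e1 : Fintype.card F ^ (2 * (k + 1)) = (M + 1) * (M + 1) := by
    rw [← hM]
    ring
  have e2 : Fintype.card F * ((Fintype.card F ^ (k + 1) - 1) * Fintype.card F ^ (k + 1 - 1)) =
      M * (M + 1) := by
    have h8 : Fintype.card F ^ (k + 1) - 1 = M := by omega
    rw [h8, Nat.add_sub_cancel, ← hM]
    ring
  rw [e2, e1, hM]
  ring

end count

section orth

variable {F : Type u} [Field F] [Fintype F] {ι : Type} [Fintype ι] [DecidableEq ι]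
  (Q : QuadraticForm F (ι → F))

theorem two_ne_zero' (hodd : Odd (Fintype.card F)) : (2 : F) ≠ 0 := by
  have hchar : ringChar F ≠ 2 := by
    intro h
    have h1 := FiniteField.even_card_iff_char_two.mp h
    rcases hodd with ⟨k, hk⟩
    omega
  exact Ring.two_ne_zero hchar

omit [Fintype F] in
/-- An isometry of determinant one of an odd-dimensional space fixes a nonzero vector. -/
theorem exists_fixed_of_det_one (h2 : (2 : F) ≠ 0)
    (hQ : (QuadraticMap.polarBilin Q).Nondegenerate) (hodd : Odd (Fintype.card ι))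
    (g : Matrix ι ι F) (hg : ∀ u, Q (g *ᵥ u) = Q u) (hdet : g.det = 1) :
    ∃ v : ι → F, v ≠ 0 ∧ g *ᵥ v = v := by
  have hpol : ∀ u v, QuadraticMap.polar ⇑Q (g *ᵥ u) (g *ᵥ v) = QuadraticMap.polar ⇑Q u v := by
    intro u v
    simp only [QuadraticMap.polar, ← Matrix.mulVec_add, hg]
  have hM : gᵀ * Helper13.gram Q * g = Helper13.gram Q := by
    apply Helper13.bilin_ext
    intro u v
    rw [← Helper13.dotProduct_mulVec_mulVec, ← Helper13.polar_eq_gram, ← Helper13.polar_eq_gram]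
    exact hpol u v
  have h1 : gᵀ * Helper13.gram Q * (g - 1) = -((g - 1)ᵀ * Helper13.gram Q) := by
    rw [Matrix.mul_sub, hM, Matrix.mul_one, Matrix.transpose_sub, Matrix.transpose_one,
      Matrix.sub_mul, Matrix.one_mul]
    abel
  have h3 := congrArg Matrix.det h1
  rw [Matrix.det_mul, Matrix.det_mul, Matrix.det_transpose, hdet, one_mul, Matrix.det_neg,
    Matrix.det_mul, Matrix.det_transpose, hodd.neg_one_pow] at h3
  have hd := Helper13.gram_det_ne_zero Q hQ
  have h4 : (g - 1).det = 0 := by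
    have h5 : (2 : F) * ((Helper13.gram Q).det * (g - 1).det) = 0 := by linear_combination h3
    rcases mul_eq_zero.mp h5 with h6 | h6
    · exact absurd h6 h2
    · exact (mul_eq_zero.mp h6).resolve_left hd
  obtain ⟨v, hv, hMv⟩ := Matrix.exists_mulVec_eq_zero_iff.mpr h4
  refine ⟨v, hv, ?_⟩
  rw [Matrix.sub_mulVec, Matrix.one_mulVec] at hMv
  exact sub_eq_zero.mp hMv

/-- The linear map of an isometry. -/
noncomputable def isoEnd : ↥(isometryGroup F ⇑Q) →* Module.End F (ι → F) where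
  toFun g := Matrix.toLin' ((g : GL ι F) : Matrix ι ι F)
  map_one' := by
    show Matrix.toLin' ((1 : GL ι F) : Matrix ι ι F) = 1
    rw [Units.val_one, Matrix.toLin'_one]
    rfl
  map_mul' g h := by
    show Matrix.toLin' (((g : GL ι F) * (h : GL ι F) : GL ι F) : Matrix ι ι F) = _
    rw [Units.val_mul, Matrix.toLin'_mul]
    rfl

omit [Fintype F] in
theorem isoEnd_apply (g : ↥(isometryGroup F ⇑Q)) (x : ι → F) :
    isoEnd Q g x = ((g : GL ι F) : Matrix ι ι F) *ᵥ x := rfl

omit [Fintype F] in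
theorem isoEnd_injective : Function.Injective (isoEnd Q) := by
  intro g h hgh
  apply Subtype.ext
  apply Units.ext
  exact Matrix.toLin'.injective hgh

omit [Fintype F] in
theorem det_of_mem_omega (g : ↥(isometryGroup F ⇑Q)) (hg : g ∈ Omega F ⇑Q) :
    ((g : GL ι F) : Matrix ι ι F).det = 1 := by
  have h1 : g ∈ ((Matrix.GeneralLinearGroup.det (n := ι) (R := F)).comp
      (Subgroup.subtype (isometryGroup F ⇑Q))).ker := Abelianization.commutator_subset_ker _ hg
  rw [MonoidHom.mem_ker] at h1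
  have h3 := congrArg Units.val h1
  simpa using h3

theorem spin_of_mem_omega (c : F) (g : ↥(isometryGroup F ⇑Q)) (hg : g ∈ Omega F ⇑Q) :
    Helper45.spin ⇑Q c g = 1 := by
  have h1 : g ∈ (Helper45.spin ⇑Q c).ker := Abelianization.commutator_subset_ker _ hg
  exact MonoidHom.mem_ker.mp h1

end orth

section main

variable {F : Type u} [Field F] [Fintype F]

set_option maxHeartbeats 1600000 in
/-- No commuting pair `s ∈ Ω`, `u` of orders `q^m + 1` and `p` in `O_{2m+3}(q)`. -/
theorem no_pair_aux (p : ℕ) [Fact p.Prime] [CharP F p] (hodd : Odd (Fintype.card F)) (m : ℕ)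
    (hm : 2 ≤ m) (Q : QuadraticForm F (Unit ⊕ (Fin (m + 1) ⊕ Fin (m + 1)) → F))
    (hQdef : Q = Helper43.oddQF (m + 1) F) (s u : ↥(isometryGroup F ⇑Q))
    (hs : s ∈ Omega F ⇑Q)
    (hsord : orderOf s = Fintype.card F ^ m + 1) (huord : orderOf u = p)
    (hsu : Commute s u) : False := by
  classical
  have hp : p.Prime := Fact.out
  have h2 : (2 : F) ≠ 0 := two_ne_zero' hodd
  have hQnd : (QuadraticMap.polarBilin Q).Nondegenerate := by
    rw [hQdef]
    exact Helper14.oddQF_nondeg (m + 1) h2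
  have hQfun : ∀ v : Unit ⊕ (Fin (m + 1) ⊕ Fin (m + 1)) → F,
      Q v = Cfsg.quadFormOdd (m + 1) F v := by
    intro v
    rw [hQdef]
    rfl
  have hq3 : 3 ≤ Fintype.card F := by
    have h1 : 1 < Fintype.card F := Fintype.one_lt_card
    rcases hodd with ⟨k, hk⟩
    omega
  obtain ⟨A, hA⟩ : ∃ A, A = Fintype.card F ^ m + 1 := ⟨_, rfl⟩
  have hAeven : Even A := by
    rw [hA]
    exact Odd.add_one hodd.pow
  have hcardι : Fintype.card (Unit ⊕ (Fin (m + 1) ⊕ Fin (m + 1))) = 2 * m + 3 := by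
    rw [Fintype.card_sum, Fintype.card_sum, Fintype.card_unit, Fintype.card_fin]
    omega
  obtain ⟨S, hS⟩ : ∃ S : Module.End F (Unit ⊕ (Fin (m + 1) ⊕ Fin (m + 1)) → F),
      S = isoEnd Q s := ⟨_, rfl⟩
  obtain ⟨U, hU⟩ : ∃ U : Module.End F (Unit ⊕ (Fin (m + 1) ⊕ Fin (m + 1)) → F),
      U = isoEnd Q u := ⟨_, rfl⟩
  have hSQ : ∀ x, Q (S x) = Q x := by
    intro x
    rw [hS, isoEnd_apply]
    exact Helper45.mv_quad ⇑Q s x
  have hUQ : ∀ x, Q (U x) = Q x := by
    intro x
    rw [hU, isoEnd_apply]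
    exact Helper45.mv_quad ⇑Q u x
  have hSU : Commute S U := by
    rw [hS, hU]
    show isoEnd Q s * isoEnd Q u = isoEnd Q u * isoEnd Q s
    rw [← map_mul, ← map_mul, hsu.eq]
  have hSA : S ^ (Fintype.card F ^ m + 1) = 1 := by
    rw [hS, ← map_pow, ← hsord, pow_orderOf_eq_one, map_one]
  have hSord : ∀ j : ℕ, S ^ j = 1 → (Fintype.card F ^ m + 1) ∣ j := by
    intro j hj
    rw [← hsord]
    apply orderOf_dvd_of_pow_eq_one
    apply isoEnd_injective Q
    rw [map_pow, ← hS, hj, map_one]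
  have hUp : U ^ p = 1 := by
    rw [hU, ← map_pow, ← huord, pow_orderOf_eq_one, map_one]
  have hU1 : U ≠ 1 := by
    intro h
    have h1 : u = 1 := by
      apply isoEnd_injective Q
      rw [← hU, h, map_one]
    rw [h1, orderOf_one] at huord
    exact hp.one_lt.ne' huord.symm
  have hfix : ∃ v : Unit ⊕ (Fin (m + 1) ⊕ Fin (m + 1)) → F, v ≠ 0 ∧ S v = v := by
    obtain ⟨v, hv, hgv⟩ := exists_fixed_of_det_one Q h2 hQnd
      (by rw [hcardι]; exact ⟨m + 1, by ring⟩) _ (fun x => Helper45.mv_quad ⇑Q s x)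
      (det_of_mem_omega Q s hs)
    exact ⟨v, hv, by rw [hS, isoEnd_apply]; exact hgv⟩
  have hdim : Module.finrank F (Unit ⊕ (Fin (m + 1) ⊕ Fin (m + 1)) → F) = 2 * m + 3 := by
    rw [Module.finrank_fintype_fun_eq_card, hcardι]
  obtain ⟨r, hr, hrdvd, hrprim⟩ := Cfsg.Agent.S2904.result (Fintype.card F) (2 * m) (by omega)
    (by omega) (by
      rintro ⟨h, -⟩
      omega) (by
      rintro ⟨h, -⟩
      omega)
  obtain ⟨V₀, hc, hd, he⟩ := struct p h2 Q (fun x hx => hQnd.1 x hx) m hm hdim r hr hrdvd hrprim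
    S U hSQ hUQ hSU hSA hSord hUp hU1 hfix
  -- the permutation of the level set
  obtain ⟨π, hπ⟩ : ∃ π : Equiv.Perm (Helper45.Lev ⇑Q 1), π = Helper45.levPerm ⇑Q 1 s :=
    ⟨_, rfl⟩
  have hsign : Equiv.Perm.sign π = 1 := by
    rw [hπ, ← Helper45.spin_apply]
    exact spin_of_mem_omega Q 1 s hs
  have hval : ∀ (j : ℕ) (x : Helper45.Lev ⇑Q 1), ((π ^ j) x).val = (S ^ j) x.val := by
    intro j x
    have h1 : π ^ j = Helper45.levPerm ⇑Q 1 (s ^ j) := by
      rw [hπ]
      show (Helper45.levHom ⇑Q 1 s) ^ j = Helper45.levHom ⇑Q 1 (s ^ j)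
      rw [map_pow]
    rw [h1, Helper45.levPerm_val, hS, ← map_pow]
    rfl
  have hval1 : ∀ x : Helper45.Lev ⇑Q 1, (π x).val = S x.val := by
    intro x
    have h1 := hval 1 x
    rw [pow_one, pow_one] at h1
    exact h1
  have hA2 : 2 ≤ Fintype.card F ^ m + 1 := by
    have h1 : 1 ≤ Fintype.card F ^ m := Nat.one_le_pow _ _ (by omega)
    omega
  have hmoved : ∀ x : Helper45.Lev ⇑Q 1, π x ≠ x ↔ x.val ∉ V₀ := by
    intro x
    constructor
    · intro hx h
      apply hx
      apply Helper45.Lev.ext'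
      rw [hval1, hc x.val h]
    · intro hx h
      have h1 := hd x.val hx 1 (by rw [pow_one, ← hval1, h])
      have h3 := Nat.le_of_dvd (by omega) h1
      omega
  obtain ⟨k, hk1, hk2⟩ := sign_semiregular π (Fintype.card F ^ m + 1) (by rw [← hA]; exact hAeven)
    (by
      ext x
      apply Helper45.Lev.ext'
      rw [hval, hSA]
      rfl)
    (by
      intro x hx j hj
      exact hd x.val ((hmoved x).mp hx) j (by rw [← hval, hj]))
  -- counting
  have hcount : π.support.card + Nat.card {v : Unit ⊕ (Fin (m + 1) ⊕ Fin (m + 1)) → F //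
      v ∈ V₀ ∧ Q v = 1} = Fintype.card F ^ (2 * (m + 1)) + Fintype.card F ^ (m + 1) := by
    have h1 : π.support = Finset.univ.filter (fun x : Helper45.Lev ⇑Q 1 => ¬ x.val ∈ V₀) := by
      ext x
      rw [Equiv.Perm.mem_support, Finset.mem_filter, hmoved]
      simp
    have h3 : Nat.card {v : Unit ⊕ (Fin (m + 1) ⊕ Fin (m + 1)) → F // v ∈ V₀ ∧ Q v = 1} =
        (Finset.univ.filter (fun x : Helper45.Lev ⇑Q 1 => x.val ∈ V₀)).card := by
      rw [← Fintype.card_subtype, ← Nat.card_eq_fintype_card]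
      apply Nat.card_congr
      exact
        { toFun := fun v => ⟨⟨v.1, v.2.2⟩, v.2.1⟩
          invFun := fun x => ⟨x.1.val, x.2, x.1.prop⟩
          left_inv := fun v => rfl
          right_inv := fun x => rfl }
    have h4 : Fintype.card (Helper45.Lev ⇑Q 1) =
        Fintype.card F ^ (2 * (m + 1)) + Fintype.card F ^ (m + 1) := by
      rw [← Nat.card_eq_fintype_card, ← card_lev_odd h2 (m + 1) (by omega)]
      apply Nat.card_congr
      exact
        { toFun := fun x => ⟨x.val, (hQfun x.val).symm.trans x.prop⟩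
          invFun := fun v => ⟨v.1, (hQfun v.1).trans v.2⟩
          left_inv := fun x => rfl
          right_inv := fun v => rfl }
    rw [h1, h3, ← h4, add_comm, ← Finset.card_univ]
    exact Finset.card_filter_add_card_filter_not _
  have hodd_k : Odd k := by
    apply arith_odd (Fintype.card F) m k _ hodd hq3 hm _ (he 1 one_ne_zero)
    rw [← hk1]
    exact hcount
  rw [hk2, hodd_k.neg_one_pow] at hsign
  exact absurd hsign (by decide)

/-- No commuting pair `s ∈ Ω`, `u` of orders `q^m + 1` and `p` in `O_{2m+3}(q)`. -/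
theorem no_pair (p : ℕ) [Fact p.Prime] [CharP F p] (hodd : Odd (Fintype.card F)) (m : ℕ)
    (hm : 2 ≤ m) (s u : ↥(isometryGroup F (Cfsg.quadFormOdd (m + 1) F)))
    (hs : s ∈ Omega F (Cfsg.quadFormOdd (m + 1) F))
    (hsord : orderOf s = Fintype.card F ^ m + 1) (huord : orderOf u = p)
    (hsu : Commute s u) : False :=
  no_pair_aux p hodd m hm (Helper43.oddQF (m + 1) F) rfl s u hs hsord huord hsu

/-- The spectra of `Ω_{2n+1}(q)` and `PSp_{2n}(q)` differ (`q` odd, `n ≥ 3`): the number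
`p (q^(n-1) + 1)` is an element order of the second group only. -/
theorem main (hodd : Odd (Fintype.card F)) (n : ℕ) (hn : 3 ≤ n) :
    Set.range (orderOf : Cfsg.POmega F (Cfsg.quadFormOdd n F) → ℕ) ≠
      Set.range (orderOf : Cfsg.PSp n F → ℕ) := by
  classical
  obtain ⟨p, hchar⟩ := CharP.exists F
  haveI := hchar
  have hp : p.Prime := CharP.char_is_prime F p
  haveI : Fact p.Prime := ⟨hp⟩
  have h2 : (2 : F) ≠ 0 := two_ne_zero' hodd
  have hp2 : p ≠ 2 := by
    rintro rfl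
    exact h2 (by exact_mod_cast CharP.cast_eq_zero F 2)
  obtain ⟨m, rfl⟩ : ∃ m, n = m + 1 := ⟨n - 1, by omega⟩
  have hpq : p ∣ Fintype.card F := by
    obtain ⟨e, -, he⟩ := FiniteField.card F p
    rw [he]
    exact dvd_pow_self p e.ne_zero
  have hcop : Nat.Coprime p (Fintype.card F ^ m + 1) := by
    rw [Nat.Prime.coprime_iff_not_dvd hp]
    intro h
    have h3 : p ∣ Fintype.card F ^ m := dvd_pow hpq (by omega)
    exact hp.one_lt.ne' (Nat.dvd_one.mp ((Nat.dvd_add_right h3).mp h))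
  intro heq
  have ha : p * (Fintype.card F ^ m + 1) ∈ Set.range (orderOf : Cfsg.PSp (m + 1) F → ℕ) := by
    obtain ⟨g, hg⟩ := SpModels.exists_mixed_plus (F := F) p h2 hp2 (m + 1) m 0 (by omega)
      (by omega) (by
        rw [pow_zero]
        omega)
    obtain ⟨x, hx⟩ : ∃ x : Cfsg.PSp (m + 1) F, x = QuotientGroup.mk g := ⟨_, rfl⟩
    have h1 : x ^ orderOf x = 1 := pow_orderOf_eq_one x
    rw [hx, SpGroup.mk_pow_eq_one_iff] at h1
    obtain ⟨d1, d2⟩ := hg _ h1
    rw [← hx, zero_add, pow_one] at d2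
    rw [← hx] at d1
    have hdvd : p * (Fintype.card F ^ m + 1) ∣ orderOf x :=
      Nat.Coprime.mul_dvd_of_dvd_of_dvd hcop d2 d1
    exact ⟨x ^ (orderOf x / (p * (Fintype.card F ^ m + 1))),
      orderOf_pow_orderOf_div (orderOf_pos x).ne' hdvd⟩
  rw [← heq] at ha
  obtain ⟨xbar, hxbar⟩ := ha
  have hcen := Helper14.center_omega_odd_eq_bot (F := F) (m + 1) h2 hn
  obtain ⟨g, rfl⟩ := QuotientGroup.mk_surjective xbar
  have hinj : Function.Injective (QuotientGroup.mk'
      (Subgroup.center (Cfsg.Omega F (Cfsg.quadFormOdd (m + 1) F)))) := by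
    rw [injective_iff_map_eq_one]
    intro a ha
    rw [QuotientGroup.mk'_apply, QuotientGroup.eq_one_iff, hcen, Subgroup.mem_bot] at ha
    exact ha
  have hordg : orderOf g = p * (Fintype.card F ^ m + 1) := by
    rw [← hxbar]
    exact (orderOf_injective _ hinj g).symm
  have hordg' : orderOf (g : ↥(Cfsg.isometryGroup F (Cfsg.quadFormOdd (m + 1) F))) =
      p * (Fintype.card F ^ m + 1) := by
    rw [Subgroup.orderOf_coe, hordg]
  have hqm : 0 < Fintype.card F ^ m + 1 := by omega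
  refine no_pair p hodd m (by omega)
    ((g : ↥(Cfsg.isometryGroup F (Cfsg.quadFormOdd (m + 1) F))) ^ p)
    ((g : ↥(Cfsg.isometryGroup F (Cfsg.quadFormOdd (m + 1) F))) ^ (Fintype.card F ^ m + 1))
    ?_ ?_ ?_ ?_
  · exact Subgroup.pow_mem _ g.2 p
  · rw [orderOf_pow' _ hp.ne_zero, hordg', Nat.gcd_eq_right (dvd_mul_right p _),
      Nat.mul_div_cancel_left _ hp.pos]
  · rw [orderOf_pow' _ hqm.ne', hordg', Nat.gcd_eq_right (dvd_mul_left _ p),
      Nat.mul_div_cancel _ hqm]
  · exact (Commute.refl _).pow_pow p _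

end main

end Cfsg.Agent.Helper42.BnCn
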