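import Mathlib
import Cfsg.Agent.Helper42.BCa
import Cfsg.Agent.Helper42.BnCnC
import Cfsg.Agent.Helper14.Forms2

set_option autoImplicit false

/-!
# Prime graphs of `B_n(q)` and `C_n(q)`: orthogonal models (helper42)

* `sim_of_odd` : two nondegenerate symmetric forms of the same odd dimension over a finite field
  of odd order are similar;
* `IsBlk` : blocks (a symmetric form on `F^d` with an isometry of exact order `N`), with
  `blk_minus`, `blk_plus`, `blk_unip`, `blk_sum`;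
* `std_of_block` : a block of dimension `d₀ ≤ 2n + 1` gives an isometry of the standard form
  `x₀² + Σ x_i y_i` of the same order, fixing an orthonormal-like family of `2n + 1 - d₀` vectors.
-/

namespace Cfsg.Agent.Helper42.BC

open Polynomial Matrix SpForm SpGroup SpModels SpStruct PGraphL PGraphL2 PGraphS PGraphS2 PGraphSM

universe u v w

section sim

variable {F : Type u} [Field F] [Fintype F]

/-- Similarity of nondegenerate symmetric forms in odd dimension. -/
theorem sim_of_odd (h2 : (2 : F) ≠ 0) (k : ℕ)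
    {V₁ : Type v} {V₂ : Type w} [AddCommGroup V₁] [Module F V₁] [FiniteDimensional F V₁]
    [AddCommGroup V₂] [Module F V₂] [FiniteDimensional F V₂]
    (B₁ : LinearMap.BilinForm F V₁) (B₂ : LinearMap.BilinForm F V₂)
    (h₁ : B₁.Nondegenerate) (hs₁ : B₁.IsSymm) (h₂ : B₂.Nondegenerate) (hs₂ : B₂.IsSymm)
    (hd₁ : Module.finrank F V₁ = 2 * k + 1) (hd₂ : Module.finrank F V₂ = 2 * k + 1) :
    ∃ (g : V₁ ≃ₗ[F] V₂) (c : F), c ≠ 0 ∧ ∀ x y, B₂ (g x) (g y) = c * B₁ x y := by
  classical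
  obtain ⟨u, huo, hu1, hul⟩ := Helper14.exists_normal_basis h2 (2 * k) _ B₁ h₁ hs₁ hd₁
  obtain ⟨v, hvo, hv1, hvl⟩ := Helper14.exists_normal_basis h2 (2 * k) _ B₂ h₂ hs₂ hd₂
  obtain ⟨a, ha⟩ : ∃ a, a = B₁ (u (Fin.last (2 * k))) (u (Fin.last (2 * k))) := ⟨_, rfl⟩
  obtain ⟨b, hb⟩ : ∃ b, b = B₂ (v (Fin.last (2 * k))) (v (Fin.last (2 * k))) := ⟨_, rfl⟩
  rw [← ha] at hul
  rw [← hb] at hvl
  obtain ⟨c, hcdef⟩ : ∃ c, c = b / a := ⟨_, rfl⟩
  have hc : c ≠ 0 := by rw [hcdef]; exact div_ne_zero hvl hul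
  have hnd' : (c • B₁).Nondegenerate := by
    refine ⟨fun x hx => h₁.1 x (fun y => ?_), fun y hy => h₁.2 y (fun x => ?_)⟩
    · have := hx y
      simpa [hc] using this
    · have := hy x
      simpa [hc] using this
  have hs' : LinearMap.BilinForm.IsSymm (c • B₁) := hs₁.smul c
  obtain ⟨u', hu'o, hu'1, hu'l⟩ := Helper14.exists_normal_basis h2 (2 * k) _ (c • B₁) hnd' hs' hd₁
  obtain ⟨a', ha'⟩ : ∃ a', a' = (c • B₁) (u' (Fin.last (2 * k))) (u' (Fin.last (2 * k))) :=
    ⟨_, rfl⟩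
  have hD1 : Helper14.DiscEq (c • B₁) a' := by
    have := Helper14.discEq_of_basis (c • B₁) u'
    rw [Helper14.det_gram_normal u' hu'o hu'1, ← ha'] at this
    exact this
  have hD2 : Helper14.DiscEq (c • B₁) (c ^ (2 * k + 1) * a) := by
    have := Helper14.discEq_smul B₁ u c
    rw [Helper14.det_gram_normal u huo hu1, ← ha, Fintype.card_fin] at this
    exact this
  obtain ⟨t, ht0, ht⟩ := hD2.unique hD1
  obtain ⟨r, hrdef⟩ : ∃ r, r = t * c ^ k := ⟨_, rfl⟩
  have hr0 : r ≠ 0 := by rw [hrdef]; exact mul_ne_zero ht0 (pow_ne_zero _ hc)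
  have hr : a' = r * r * b := by
    have e1 : c ^ (2 * k + 1) * a = (c ^ k) ^ 2 * b := by
      rw [pow_succ, ← pow_mul, mul_comm k 2, mul_assoc, hcdef, div_mul_cancel₀ _ hul]
    rw [ht, e1, hrdef]
    ring
  let wt : Fin (2 * k + 1) → Fˣ := fun i => if i = Fin.last (2 * k) then Units.mk0 r hr0 else 1
  let v' := v.unitsSMul wt
  let g : V₁ ≃ₗ[F] V₂ := u'.equiv v' (Equiv.refl _)
  have hg : ∀ i, g (u' i) = (wt i : F) • v i := by
    intro i
    simp only [g, Module.Basis.equiv_apply, Equiv.refl_apply, v', Module.Basis.unitsSMul_apply]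
    rfl
  have hform : B₂.compl₁₂ (g : V₁ →ₗ[F] V₂) (g : V₁ →ₗ[F] V₂) = c • B₁ := by
    apply LinearMap.BilinForm.ext_basis u'
    intro i j
    rw [LinearMap.compl₁₂_apply]
    simp only [LinearEquiv.coe_coe, hg, map_smul, LinearMap.smul_apply, smul_eq_mul]
    by_cases hij : i = j
    · subst hij
      by_cases hil : i = Fin.last (2 * k)
      · subst hil
        have hw : ((wt (Fin.last (2 * k)) : Fˣ) : F) = r := by simp [wt]
        rw [hw, ← hb]
        have := ha'
        simp only [LinearMap.smul_apply, smul_eq_mul] at this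
        rw [← this, hr]
        ring
      · have hw : ((wt i : Fˣ) : F) = 1 := by simp [wt, hil]
        rw [hw, hv1 i hil]
        have := hu'1 i hil
        simp only [LinearMap.smul_apply, smul_eq_mul] at this
        rw [this]
        ring
    · rw [hvo i j hij]
      have := hu'o i j hij
      simp only [LinearMap.smul_apply, smul_eq_mul] at this
      rw [this]
      ring
  refine ⟨g, c, hc, fun x y => ?_⟩
  have h := LinearMap.congr_fun₂ hform x y
  rw [LinearMap.compl₁₂_apply] at h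
  simpa using h

end sim

section models

variable (F : Type u) [Field F]

/-- The symmetric hyperbolic form `tr(a d + b c)` on `K × K`. -/
noncomputable def hypFormS (K : Type v) [Field K] [Algebra F K] : LinearMap.BilinForm F (K × K) :=
  (Algebra.traceForm F K).comp (LinearMap.fst F K K) (LinearMap.snd F K K) +
    (Algebra.traceForm F K).comp (LinearMap.snd F K K) (LinearMap.fst F K K)

theorem hypFormS_apply (K : Type v) [Field K] [Algebra F K] (x y : K × K) :
    hypFormS F K x y = Algebra.trace F K (x.1 * y.2) + Algebra.trace F K (x.2 * y.1) := rfl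

theorem hypFormS_symm (K : Type v) [Field K] [Algebra F K] (x y : K × K) :
    hypFormS F K x y = hypFormS F K y x := by
  rw [hypFormS_apply, hypFormS_apply, mul_comm y.1 x.2, mul_comm y.2 x.1, add_comm]

theorem hypFormS_nondeg (K : Type v) [Field K] [Algebra F K] [FiniteDimensional F K]
    [Algebra.IsSeparable F K] (x : K × K) (hx : ∀ y, hypFormS F K x y = 0) : x = 0 := by
  have hnd := (traceForm_nondegenerate F K).1
  apply Prod.ext
  · apply hnd
    intro y
    have := hx (0, y)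
    rw [hypFormS_apply] at this
    simpa using this
  · apply hnd
    intro y
    have := hx (y, 0)
    rw [hypFormS_apply] at this
    simpa using this

theorem preserves_hypMapS (K : Type v) [Field K] [Algebra F K] (k : K) (hk : k ≠ 0) :
    Preserves (hypFormS F K) (hypMap F K k) := by
  intro x y
  rw [hypFormS_apply, hypFormS_apply, hypMap_apply, hypMap_apply]
  have h1 : k * x.1 * (k⁻¹ * y.2) = x.1 * y.2 := by field_simp
  have h2 : k⁻¹ * x.2 * (k * y.1) = x.2 * y.1 := by field_simp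
  simp only [h1, h2]

theorem unitForm_symm (K : Type v) [Field K] [Algebra F K] (σ : K ≃ₐ[F] K)
    (hσ : ∀ x, σ (σ x) = x) (x y : K) : unitForm F K σ 1 x y = unitForm F K σ 1 y x := by
  rw [unitForm_apply, unitForm_apply, one_mul, one_mul]
  have h := Algebra.trace_eq_of_algEquiv σ (x * σ y)
  rw [map_mul, hσ] at h
  rw [← h, mul_comm]

/-- The dot product on `F^d`. -/
noncomputable def dotForm (d : ℕ) : LinearMap.BilinForm F (Fin d → F) :=
  Matrix.toBilin' (1 : Matrix (Fin d) (Fin d) F)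

theorem dotForm_apply (d : ℕ) (x y : Fin d → F) : dotForm F d x y = x ⬝ᵥ y := by
  rw [dotForm, Matrix.toBilin'_apply', Matrix.one_mulVec]

theorem dotForm_symm (d : ℕ) (x y : Fin d → F) : dotForm F d x y = dotForm F d y x := by
  rw [dotForm_apply, dotForm_apply, dotProduct_comm]

theorem dotForm_nondeg (d : ℕ) (x : Fin d → F) (hx : ∀ y, dotForm F d x y = 0) : x = 0 := by
  classical
  funext i
  have h := hx (Pi.single i 1)
  rw [dotForm_apply] at h
  simpa using h

theorem revForm2_symm (v w : Fin (2 + 1) → F) : revForm F 2 v w = revForm F 2 w v := by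
  rw [revForm_apply, revForm_apply, Fin.sum_univ_three, Fin.sum_univ_three]
  have e0 : Fin.rev (0 : Fin (2 + 1)) = 2 := rfl
  have e1 : Fin.rev (1 : Fin (2 + 1)) = 1 := rfl
  have e2 : Fin.rev (2 : Fin (2 + 1)) = 0 := rfl
  rw [e0, e1, e2]
  simp
  ring

end models

section blocks

variable (F : Type u) [Field F]

/-- A block: a symmetric form on `F^d` with an isometry of order exactly `N` (without nonzero
fixed vectors when `fr` holds). -/
def IsBlk (d N : ℕ) (fr : Prop) : Prop :=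
  ∃ (B : LinearMap.BilinForm F (Fin d → F)) (T : Module.End F (Fin d → F)),
    (∀ x y, B x y = B y x) ∧ (∀ v, (∀ w, B v w = 0) → v = 0) ∧ Preserves B T ∧ T ^ N = 1 ∧
    (∀ i : ℕ, T ^ i = 1 → N ∣ i) ∧ (fr → ∀ x, T x = x → x = 0)

variable {F}

theorem IsBlk.mono {d N : ℕ} {fr fr' : Prop} (h : IsBlk F d N fr) (hf : fr' → fr) :
    IsBlk F d N fr' := by
  obtain ⟨B, T, h1, h2, h3, h4, h5, h6⟩ := h
  exact ⟨B, T, h1, h2, h3, h4, h5, fun h => h6 (hf h)⟩

theorem blk_of_model {W : Type v} [AddCommGroup W] [Module F W] [FiniteDimensional F W]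
    (d N : ℕ) (fr : Prop) (B : LinearMap.BilinForm F W) (T : Module.End F W)
    (hdim : Module.finrank F W = d) (hsym : ∀ x y, B x y = B y x)
    (hnd : ∀ v, (∀ w, B v w = 0) → v = 0) (hT : Preserves B T) (hTN : T ^ N = 1)
    (hmin : ∀ i : ℕ, T ^ i = 1 → N ∣ i) (hfr : fr → ∀ x, T x = x → x = 0) : IsBlk F d N fr := by
  obtain ⟨Φ⟩ : Nonempty (W ≃ₗ[F] (Fin d → F)) :=
    ⟨LinearEquiv.ofFinrankEq W (Fin d → F) (by rw [hdim, Module.finrank_fin_fun])⟩
  let B' : LinearMap.BilinForm F (Fin d → F) := B.comp Φ.symm.toLinearMap Φ.symm.toLinearMap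
  have hB' : ∀ x y, B' x y = B (Φ.symm x) (Φ.symm y) := fun x y => rfl
  let G : Module.End F (Fin d → F) := Φ.toLinearMap ∘ₗ T ∘ₗ Φ.symm.toLinearMap
  have hGapp : ∀ x, G x = Φ (T (Φ.symm x)) := fun x => rfl
  have hpow : ∀ (k : ℕ) (x : Fin d → F), (G ^ k) x = Φ ((T ^ k) (Φ.symm x)) := by
    intro k
    induction k with
    | zero => intro x; simp
    | succ k ih =>
      intro x
      rw [pow_succ, Module.End.mul_apply, ih, hGapp, Φ.symm_apply_apply, pow_succ,
        Module.End.mul_apply]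
  have hiff : ∀ k : ℕ, G ^ k = 1 ↔ T ^ k = 1 := by
    intro k
    constructor
    · intro h
      apply LinearMap.ext
      intro x
      have h1 := hpow k (Φ x)
      rw [h, Module.End.one_apply, Φ.symm_apply_apply] at h1
      rw [Module.End.one_apply]
      exact (Φ.injective h1).symm
    · intro h
      apply LinearMap.ext
      intro x
      rw [hpow, h, Module.End.one_apply, Module.End.one_apply, Φ.apply_symm_apply]
  refine ⟨B', G, fun x y => ?_, fun v hv => ?_, fun x y => ?_, (hiff N).mpr hTN,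
    fun i hi => hmin i ((hiff i).mp hi), fun hf x hx => ?_⟩
  · rw [hB', hB', hsym]
  · have h1 : Φ.symm v = 0 := by
      apply hnd
      intro w
      have := hv (Φ w)
      rw [hB', Φ.symm_apply_apply] at this
      exact this
    have := congrArg Φ h1
    rwa [Φ.apply_symm_apply, map_zero] at this
  · rw [hB', hB', hGapp, hGapp, Φ.symm_apply_apply, Φ.symm_apply_apply, hT]
  · have h1 : T (Φ.symm x) = Φ.symm x := by
      have := congrArg Φ.symm hx
      rwa [hGapp, Φ.symm_apply_apply] at this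
    have h3 := hfr hf _ h1
    have := congrArg Φ h3
    rwa [Φ.apply_symm_apply, map_zero] at this

theorem sumForm_symm' {V₁ : Type v} {V₂ : Type w} [AddCommGroup V₁] [Module F V₁]
    [AddCommGroup V₂] [Module F V₂] (B₁ : LinearMap.BilinForm F V₁)
    (B₂ : LinearMap.BilinForm F V₂) (h₁ : ∀ x y, B₁ x y = B₁ y x) (h₂ : ∀ x y, B₂ x y = B₂ y x)
    (x y : V₁ × V₂) : sumForm B₁ B₂ x y = sumForm B₁ B₂ y x := by
  rw [sumForm_apply, sumForm_apply, h₁, h₂]

/-- The orthogonal sum of two blocks of coprime orders. -/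
theorem blk_sum (d₁ d₂ N₁ N₂ : ℕ) (f₁ f₂ : Prop) (hcop : Nat.Coprime N₁ N₂)
    (h₁ : IsBlk F d₁ N₁ f₁) (h₂ : IsBlk F d₂ N₂ f₂) : IsBlk F (d₁ + d₂) (N₁ * N₂) False := by
  obtain ⟨B₁, T₁, a1, a2, a3, a4, a5, -⟩ := h₁
  obtain ⟨B₂, T₂, b1, b2, b3, b4, b5, -⟩ := h₂
  apply blk_of_model (d₁ + d₂) (N₁ * N₂) False (sumForm B₁ B₂) (T₁.prodMap T₂)
    (by rw [Module.finrank_prod, Module.finrank_fin_fun, Module.finrank_fin_fun])
    (sumForm_symm' B₁ B₂ a1 b1) (sumForm_nondeg B₁ B₂ a2 b2) (preserves_prodMap a3 b3)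
  · rw [prodMap_pow', prodMap_eq_one_iff]
    exact ⟨by rw [pow_mul, a4, one_pow], by rw [mul_comm, pow_mul, b4, one_pow]⟩
  · intro i hi
    rw [prodMap_pow', prodMap_eq_one_iff] at hi
    exact Nat.Coprime.mul_dvd_of_dvd_of_dvd hcop (a5 i hi.1) (b5 i hi.2)
  · exact fun h => h.elim

/-- The unipotent block of dimension `3`. -/
theorem blk_unip (p : ℕ) [Fact p.Prime] [CharP F p] (h2 : (2 : F) ≠ 0) : IsBlk F 3 p False := by
  have hp : p.Prime := Fact.out
  have hp3 : 3 ≤ p := by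
    have h1 := hp.two_le
    have hp2 : p ≠ 2 := by
      rintro rfl
      exact h2 (by exact_mod_cast CharP.cast_eq_zero F 2)
    omega
  obtain ⟨U, hUB, hU⟩ := exists_cayley (revForm F 2) (shiftUp F 2) (2 + 1)
    (shiftUp_pow_eq_zero F 2 (2 + 1) le_rfl) (revForm_shift F 2) p h2
  have hU1 : U ^ p = 1 := by
    have := (hU 1).mpr (by rw [pow_one]; exact shiftUp_pow_eq_zero F 2 p (by omega))
    rwa [pow_one] at this
  have hUne : U ≠ 1 := by
    intro h
    have h1 := (hU 0).mp (by rw [pow_zero, pow_one]; exact h)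
    rw [pow_zero] at h1
    exact shiftUp_pow_ne_zero F 2 1 (by norm_num) h1
  apply blk_of_model 3 p False (revForm F 2) U (by rw [Module.finrank_fin_fun])
    (revForm2_symm F) (revForm_nondeg F 2) hUB hU1
  · intro i hi
    by_contra hnd'
    have hcop : Nat.Coprime p i := (Nat.Prime.coprime_iff_not_dvd hp).mpr hnd'
    have h1 : U ^ Nat.gcd p i = 1 := pow_gcd_eq_one.mpr ⟨hU1, hi⟩
    rw [hcop.gcd_eq_one, pow_one] at h1
    exact hUne h1
  · exact fun h => h.elim

variable [Fintype F]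

/-- The split torus block. -/
theorem blk_minus (p : ℕ) [Fact p.Prime] [CharP F p] (e : ℕ) [NeZero e] (m : ℕ)
    (hm : m ∣ Fintype.card F ^ e - 1) : IsBlk F (2 * e) m (m ≠ 1) := by
  obtain ⟨z, hz0, hzm, hzord⟩ := exists_elt_order p e m hm
  apply blk_of_model (2 * e) m (m ≠ 1) (hypFormS F (FiniteField.Extension F p e))
    (hypMap F _ z)
    (by rw [Module.finrank_prod, FiniteField.finrank_extension]; ring)
    (hypFormS_symm F _) (hypFormS_nondeg F _) (preserves_hypMapS F _ z hz0)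
  · rw [hypMap_pow, hzm, hypMap_eq_one_iff]
  · intro i hi
    rw [hypMap_pow, hypMap_eq_one_iff] at hi
    exact hzord i hi
  · intro hm1 x hx
    have hz1 : z ≠ 1 := by
      intro h
      have := hzord 1 (by rw [pow_one]; exact h)
      exact hm1 (Nat.dvd_one.mp this)
    rw [hypMap_apply] at hx
    have h1 : z * x.1 = x.1 := congrArg Prod.fst hx
    have h3 : z⁻¹ * x.2 = x.2 := congrArg Prod.snd hx
    have h4 : (z - 1) * x.1 = 0 := by rw [sub_mul, h1, one_mul, sub_self]
    have h5 : (z - 1) * x.2 = 0 := by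
      have : z * x.2 = x.2 := by
        nth_rewrite 1 [← h3]
        rw [← mul_assoc, mul_inv_cancel₀ hz0, one_mul]
      rw [sub_mul, this, one_mul, sub_self]
    have hz1' : z - 1 ≠ 0 := sub_ne_zero.mpr hz1
    exact Prod.ext ((mul_eq_zero.mp h4).resolve_left hz1') ((mul_eq_zero.mp h5).resolve_left hz1')

/-- The anisotropic torus block. -/
theorem blk_plus (p : ℕ) [Fact p.Prime] [CharP F p] (e : ℕ) (he : 1 ≤ e) (m : ℕ)
    (hm : m ∣ Fintype.card F ^ e + 1) : IsBlk F (2 * e) m (m ≠ 1) := by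
  haveI : NeZero (2 * e) := ⟨by omega⟩
  obtain ⟨σ, c, γ, hσ, hσσ, hc, hc0, hγ, hγm, hγord⟩ := exists_unit_elt (F := F) p e he m hm
  apply blk_of_model (2 * e) m (m ≠ 1) (unitForm F (FiniteField.Extension F p (2 * e)) σ 1)
    (LinearMap.mulLeft F γ) (FiniteField.finrank_extension F p (2 * e))
    (unitForm_symm F _ σ hσσ) (unitForm_nondeg F _ σ 1 hσσ one_ne_zero)
    (preserves_mulLeft F _ σ 1 γ hγ)
  · rw [mulLeft_pow', hγm, mulLeft_eq_one_iff]
  · intro i hi
    rw [mulLeft_pow', mulLeft_eq_one_iff] at hi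
    exact hγord i hi
  · intro hm1 x hx
    have hγ1 : γ ≠ 1 := by
      intro h
      have := hγord 1 (by rw [pow_one]; exact h)
      exact hm1 (Nat.dvd_one.mp this)
    rw [LinearMap.mulLeft_apply] at hx
    have h4 : (γ - 1) * x = 0 := by rw [sub_mul, hx, one_mul, sub_self]
    exact (mul_eq_zero.mp h4).resolve_left (sub_ne_zero.mpr hγ1)

/-- The block of an odd prime `s ≠ p`. -/
theorem blk_prime (p : ℕ) [Fact p.Prime] [CharP F p] (s : ℕ) (hs : s.Prime) (hsp : s ≠ p)
    (k ηk : ℕ) (hk : k = orderOf ((Fintype.card F : ℕ) : ZMod s))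
    (hηk : (Odd k ∧ ηk = k) ∨ (Even k ∧ 2 * ηk = k)) : IsBlk F (2 * ηk) s True := by
  have hk1 : 1 ≤ k := by
    rw [hk]
    exact order_pos p s hs hsp
  have hs1 : s ≠ 1 := hs.one_lt.ne'
  rcases hηk with ⟨hodd, hη⟩ | ⟨heven, hη⟩
  · haveI : NeZero ηk := ⟨by omega⟩
    exact (blk_minus p ηk s (by rw [hη, hk]; exact dvd_pow_order_sub_one s _)).mono
      (fun _ => hs1)
  · have hη1 : 1 ≤ ηk := by omega
    exact (blk_plus p ηk hη1 s (dvd_plus s _ k ηk hs Fintype.card_pos hk hη hη1)).mono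
      (fun _ => hs1)

end blocks

section std

variable {F : Type u} [Field F]

theorem polar_self' {ι : Type} [Fintype ι] (Q : QuadraticForm F (ι → F)) (w : ι → F) :
    QuadraticMap.polar ⇑Q w w = 2 * Q w := by
  have := QuadraticMap.polar_self Q w
  simpa using this

/-- An isometry of a model similar to the standard odd-dimensional form gives an isometry of
the standard form. -/
theorem iso_of_model (h2 : (2 : F) ≠ 0) (n : ℕ) {V' : Type v} [AddCommGroup V'] [Module F V']
    (B' : LinearMap.BilinForm F V') (φ : V' ≃ₗ[F] (Unit ⊕ (Fin n ⊕ Fin n) → F)) (c : F)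
    (hφ : ∀ x y, QuadraticMap.polar ⇑(Helper43.oddQF n F) (φ x) (φ y) = c * B' x y)
    (T' : Module.End F V') (hT' : Preserves B' T') :
    ∃ g : ↥(isometryGroup F ⇑(Helper43.oddQF n F)),
      ∀ x, Helper45.mv ⇑(Helper43.oddQF n F) g (φ x) = φ (T' x) := by
  classical
  obtain ⟨Q, hQdef⟩ : ∃ Q, Q = Helper43.oddQF n F := ⟨_, rfl⟩
  rw [← hQdef] at hφ ⊢
  have hQnd : (QuadraticMap.polarBilin Q).Nondegenerate := by
    rw [hQdef]
    exact Helper14.oddQF_nondeg n h2
  let L : Module.End F (Unit ⊕ (Fin n ⊕ Fin n) → F) :=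
    φ.toLinearMap ∘ₗ T' ∘ₗ φ.symm.toLinearMap
  have hL : ∀ v, L v = φ (T' (φ.symm v)) := fun v => rfl
  obtain ⟨M, hMdef⟩ : ∃ M, M = LinearMap.toMatrix' L := ⟨_, rfl⟩
  have hM : ∀ v, M *ᵥ v = L v := by
    intro v
    rw [hMdef, ← Matrix.toLin'_apply, Matrix.toLin'_toMatrix']
  have hQM : ∀ v, Q (M *ᵥ v) = Q v := by
    intro v
    have h1 : (2 : F) * Q (M *ᵥ v) = 2 * Q v := by
      rw [← polar_self', ← polar_self', hM, hL, hφ, hT']
      have := hφ (φ.symm v) (φ.symm v)
      rw [φ.apply_symm_apply] at this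
      exact this.symm
    exact mul_left_cancel₀ h2 h1
  have hdet : M.det ≠ 0 := by
    rcases Helper13.isometry_det Q hQnd M hQM with h | h
    · rw [h]
      exact one_ne_zero
    · rw [h]
      exact neg_ne_zero.mpr one_ne_zero
  refine ⟨⟨Matrix.GeneralLinearGroup.mkOfDetNeZero M hdet,
    (Helper45.mem_iso_iff _ _).mpr hQM⟩, fun x => ?_⟩
  show M *ᵥ (φ x) = φ (T' x)
  rw [hM, hL, φ.symm_apply_apply]

theorem pow_of_model (n : ℕ) {V' : Type v} [AddCommGroup V'] [Module F V']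
    (φ : V' ≃ₗ[F] (Unit ⊕ (Fin n ⊕ Fin n) → F)) (T' : Module.End F V')
    (g : ↥(isometryGroup F ⇑(Helper43.oddQF n F)))
    (hg : ∀ x, Helper45.mv ⇑(Helper43.oddQF n F) g (φ x) = φ (T' x)) (i : ℕ) :
    (∀ x, Helper45.mv ⇑(Helper43.oddQF n F) (g ^ i) (φ x) = φ ((T' ^ i) x)) ∧
      (g ^ i = 1 ↔ T' ^ i = 1) := by
  have h1 : ∀ (i : ℕ) (x : V'),
      Helper45.mv ⇑(Helper43.oddQF n F) (g ^ i) (φ x) = φ ((T' ^ i) x) := by
    intro i
    induction i with
    | zero =>
      intro x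
      rw [pow_zero, pow_zero, Helper45.mv_one]
      rfl
    | succ i ih =>
      intro x
      rw [pow_succ, Helper45.mv_mul, hg, ih, pow_succ, Module.End.mul_apply]
  refine ⟨h1 i, ?_, ?_⟩
  · intro h
    apply LinearMap.ext
    intro x
    have h3 := h1 i x
    rw [h, Helper45.mv_one] at h3
    exact (φ.injective h3).symm
  · intro h
    apply Helper45.ext_mv (Helper43.oddQF n F)
    intro v
    have h3 := h1 i (φ.symm v)
    rw [φ.apply_symm_apply, h, Module.End.one_apply, φ.apply_symm_apply] at h3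
    rw [h3, Helper45.mv_one]

variable [Fintype F]

/-- A block of dimension `d₀` with `d₀ + d = 2n + 1` gives an isometry of the standard form. -/
theorem std_of_block (h2 : (2 : F) ≠ 0) (n d₀ d N : ℕ) (fr : Prop) (hd : d₀ + d = 2 * n + 1)
    (hblk : IsBlk F d₀ N fr) :
    ∃ (g : ↥(isometryGroup F ⇑(Helper43.oddQF n F)))
      (ψ : (Fin d → F) →ₗ[F] (Unit ⊕ (Fin n ⊕ Fin n) → F)) (c : F), c ≠ 0 ∧
      g ^ N = 1 ∧ (∀ i : ℕ, g ^ i = 1 → N ∣ i) ∧
      (∀ y, Helper45.mv ⇑(Helper43.oddQF n F) g (ψ y) = ψ y) ∧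
      (∀ y y', QuadraticMap.polar ⇑(Helper43.oddQF n F) (ψ y) (ψ y') = c * (y ⬝ᵥ y')) ∧
      (fr → ∀ v, Helper45.mv ⇑(Helper43.oddQF n F) g v = v → ∃ y, v = ψ y) := by
  classical
  obtain ⟨B₀, T₀, a1, a2, a3, a4, a5, a6⟩ := hblk
  obtain ⟨B', hB'⟩ : ∃ B' : LinearMap.BilinForm F ((Fin d₀ → F) × (Fin d → F)),
      B' = sumForm B₀ (dotForm F d) := ⟨_, rfl⟩
  have hsym : ∀ x y, B' x y = B' y x := by
    rw [hB']
    exact sumForm_symm' B₀ (dotForm F d) a1 (dotForm_symm F d)
  have hnd : ∀ v, (∀ w, B' v w = 0) → v = 0 := by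
    rw [hB']
    exact sumForm_nondeg B₀ (dotForm F d) a2 (dotForm_nondeg F d)
  have hdim : Module.finrank F ((Fin d₀ → F) × (Fin d → F)) = 2 * n + 1 := by
    rw [Module.finrank_prod, Module.finrank_fin_fun, Module.finrank_fin_fun, hd]
  have hstd_s : LinearMap.BilinForm.IsSymm (QuadraticMap.polarBilin (Helper43.oddQF n F)) :=
    ⟨fun x y => by
      rw [QuadraticMap.polarBilin_apply_apply, QuadraticMap.polarBilin_apply_apply,
        QuadraticMap.polar_comm]⟩
  have hstd_d : Module.finrank F (Unit ⊕ (Fin n ⊕ Fin n) → F) = 2 * n + 1 := by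
    rw [Module.finrank_fintype_fun_eq_card, Fintype.card_sum, Fintype.card_sum, Fintype.card_unit,
      Fintype.card_fin]
    ring
  obtain ⟨φ, c, hc, hφ⟩ := sim_of_odd h2 n B' (QuadraticMap.polarBilin (Helper43.oddQF n F))
    ⟨fun v hv => hnd v hv, fun v hv => hnd v (fun w => by rw [hsym]; exact hv w)⟩
    ⟨fun x y => hsym x y⟩ (Helper14.oddQF_nondeg n h2) hstd_s hdim hstd_d
  have hφ' : ∀ x y, QuadraticMap.polar ⇑(Helper43.oddQF n F) (φ x) (φ y) = c * B' x y := by
    intro x y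
    rw [← hφ x y, QuadraticMap.polarBilin_apply_apply]
  obtain ⟨T', hT'def⟩ : ∃ T' : Module.End F ((Fin d₀ → F) × (Fin d → F)),
      T' = T₀.prodMap 1 := ⟨_, rfl⟩
  have hT' : Preserves B' T' := by
    rw [hB', hT'def]
    exact preserves_prodMap a3 (preserves_one _)
  obtain ⟨g, hg⟩ := iso_of_model h2 n B' φ c hφ' T' hT'
  have hpow := pow_of_model n φ T' g hg
  have hT'pow : ∀ i : ℕ, T' ^ i = 1 ↔ T₀ ^ i = 1 := by
    intro i
    rw [hT'def, prodMap_pow', prodMap_eq_one_iff, one_pow]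
    exact ⟨fun h => h.1, fun h => ⟨h, rfl⟩⟩
  refine ⟨g, φ.toLinearMap ∘ₗ LinearMap.inr F (Fin d₀ → F) (Fin d → F), c, hc, ?_, ?_, ?_, ?_, ?_⟩
  · rw [(hpow N).2, hT'pow]
    exact a4
  · intro i hi
    rw [(hpow i).2, hT'pow] at hi
    exact a5 i hi
  · intro y
    show Helper45.mv ⇑(Helper43.oddQF n F) g (φ (0, y)) = φ (0, y)
    rw [hg, hT'def]
    simp
  · intro y y'
    show QuadraticMap.polar ⇑(Helper43.oddQF n F) (φ (0, y)) (φ (0, y')) = c * (y ⬝ᵥ y')
    rw [hφ', hB', sumForm_apply, dotForm_apply]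
    simp
  · intro hf v hv
    obtain ⟨x, rfl⟩ := φ.surjective v
    rw [hg] at hv
    have h1 := φ.injective hv
    rw [hT'def] at h1
    have h3 : T₀ x.1 = x.1 := congrArg Prod.fst h1
    have h4 := a6 hf x.1 h3
    refine ⟨x.2, ?_⟩
    show φ x = φ (0, x.2)
    rw [← h4]

end std

end Cfsg.Agent.Helper42.BC
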