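import Mathlib
import Cfsg.Agent.Helper42.BCc
import Cfsg.Agent.Helper45.Spinor
import Cfsg.Agent.Helper14.OddOrthCenter

set_option autoImplicit false

/-!
# Prime graphs of `B_n(q)` and `C_n(q)`: membership in `Ω` (helper42)

* `mem_omega_of_odd` : isometries of odd order lie in `Ω`;
* `mem_omega_of_det_spin` : determinant one and trivial sign on the vectors of norm one give `Ω`;
* `two_refl` : an element of order `2 m` of `Ω` from an isometry of odd order `m` fixing two
  orthogonal vectors of the same norm;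
* `negO`, `spin_negO`, `fix_count`, `spin_tW`, `invol_cases` : the involution `-r_w`.
-/

namespace Cfsg.Agent.Helper42.BC

open Matrix

universe u

section grp

theorem order_two_mul {G : Type*} [Group G] (S t : G) (hcomm : Commute S t) (m : ℕ) (hm : Odd m)
    (hS : S ^ m = 1) (hS' : ∀ i : ℕ, S ^ i = 1 → m ∣ i) (ht : t * t = 1) (ht1 : t ≠ 1) :
    orderOf (S * t) = 2 * m := by
  have ht2 : t ^ 2 = 1 := by rw [pow_two]; exact ht
  have h1 : (S * t) ^ (2 * m) = 1 := by
    rw [hcomm.mul_pow, mul_comm 2 m, pow_mul, hS, one_pow, one_mul, mul_comm m 2, pow_mul, ht2,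
      one_pow]
  apply Nat.dvd_antisymm (orderOf_dvd_of_pow_eq_one h1)
  have h3 : (S * t) ^ orderOf (S * t) = 1 := pow_orderOf_eq_one _
  rw [hcomm.mul_pow] at h3
  have h4 : S ^ (2 * orderOf (S * t)) = 1 := by
    have h5 : (S ^ orderOf (S * t) * t ^ orderOf (S * t)) ^ 2 = 1 := by rw [h3, one_pow]
    rw [(hcomm.pow_pow _ _).mul_pow, ← pow_mul, ← pow_mul, mul_comm (orderOf (S * t)) 2,
      pow_mul t, ht2, one_pow, mul_one] at h5
    exact h5
  have hcop : Nat.Coprime m 2 := Nat.coprime_two_right.mpr hm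
  have h6 : m ∣ orderOf (S * t) := by
    have h7 := hS' _ h4
    exact Nat.Coprime.dvd_of_dvd_mul_left hcop h7
  have hS3 : S ^ orderOf (S * t) = 1 := by
    obtain ⟨c, hc⟩ := h6
    rw [hc, pow_mul, hS, one_pow]
  rw [hS3, one_mul] at h3
  have h8 : 2 ∣ orderOf (S * t) := by
    by_contra hodd
    rw [← even_iff_two_dvd, Nat.not_even_iff_odd] at hodd
    obtain ⟨j, hj⟩ := hodd
    rw [hj, pow_add, pow_mul, ht2, one_pow, one_mul, pow_one] at h3
    exact ht1 h3
  exact Nat.Coprime.mul_dvd_of_dvd_of_dvd hcop.symm h8 h6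

theorem order_of_exact {G : Type*} [Group G] (g : G) (N : ℕ) (h1 : g ^ N = 1)
    (h2 : ∀ i : ℕ, g ^ i = 1 → N ∣ i) : orderOf g = N :=
  Nat.dvd_antisymm (orderOf_dvd_of_pow_eq_one h1) (h2 _ (pow_orderOf_eq_one g))

theorem half_parity (M : ℕ) (hM : Odd M) :
    (Even ((M ^ 2 + M) / 2) ↔ 4 ∣ M + 1) ∧ (Odd ((M ^ 2 + M) / 2) ↔ 4 ∣ M - 1) := by
  obtain ⟨j, rfl⟩ := hM
  have he : ((2 * j + 1) ^ 2 + (2 * j + 1)) / 2 = (2 * j + 1) * (j + 1) := by
    apply Nat.div_eq_of_eq_mul_right (by norm_num)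
    ring
  rw [he]
  have h1 : 2 * j + 1 - 1 = 2 * j := by omega
  rw [h1]
  constructor
  · rw [Nat.even_mul]
    constructor
    · rintro (h | h)
      · exact absurd h (by rw [Nat.not_even_iff_odd]; exact ⟨j, rfl⟩)
      · obtain ⟨c, hc⟩ := h
        exact ⟨c, by omega⟩
    · rintro ⟨c, hc⟩
      right
      exact ⟨c, by omega⟩
  · rw [Nat.odd_mul]
    constructor
    · rintro ⟨-, c, hc⟩
      exact ⟨c, by omega⟩
    · rintro ⟨c, hc⟩
      exact ⟨⟨j, rfl⟩, c, by omega⟩

end grp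

section omega

variable {ι : Type} [Fintype ι] [DecidableEq ι] {F : Type u} [Field F] [Fintype F]
  (Q : QuadraticForm F (ι → F))

/-- An isometry of odd order lies in `Ω`. -/
theorem mem_omega_of_odd (h2 : (2 : F) ≠ 0) (hQ : (QuadraticMap.polarBilin Q).Nondegenerate)
    (hcard : 2 ≤ Fintype.card ι) (g : ↥(isometryGroup F ⇑Q)) (N : ℕ) (hN : Odd N)
    (hg : g ^ N = 1) : g ∈ Omega F ⇑Q := by
  obtain ⟨ε, hε⟩ := FiniteField.exists_nonsquare (Helper45.ringChar_ne_two h2)
  rw [Helper45.mem_omega_iff Q h2 hQ hcard ε hε]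
  have key : ∀ f : ↥(isometryGroup F ⇑Q) →* ℤˣ, f g = 1 := by
    intro f
    have h1 : (f g) ^ N = 1 := by rw [← map_pow, hg, map_one]
    rcases Int.units_eq_one_or (f g) with h | h
    · exact h
    · rw [h, hN.neg_one_pow] at h1
      exact absurd h1 (by decide)
  exact ⟨key _, key _⟩

theorem det_spin_aux (h2 : (2 : F) ≠ 0) (hQ : (QuadraticMap.polarBilin Q).Nondegenerate)
    (ε : F) (hε : ¬ IsSquare ε) (g : ↥(isometryGroup F ⇑Q)) :
    (((g : GL ι F) : Matrix ι ι F).det = 1 ∧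
        Helper45.spin ⇑Q 1 g * Helper45.spin ⇑Q ε g = 1) ∨
      (((g : GL ι F) : Matrix ι ι F).det = -1 ∧
        Helper45.spin ⇑Q 1 g * Helper45.spin ⇑Q ε g = -1) := by
  have hmem : g ∈ Helper45.reflGroup Q := by
    rw [Helper45.reflGroup_eq_top Q h2 hQ]
    exact Subgroup.mem_top g
  unfold Helper45.reflGroup at hmem
  induction hmem using Subgroup.closure_induction with
  | mem x hx =>
    obtain ⟨v, hv, rfl⟩ := hx
    right
    refine ⟨?_, ?_⟩
    · rw [Helper45.reflO_coe]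
      exact Helper13.reflection_det Q v hv
    · by_cases hsq : IsSquare (Q v)
      · rw [Helper45.spin_one_reflO_sq Q h2 v hv hsq,
          Helper45.spin_eps_reflO_sq Q h2 ε hε v hv hsq]
        rfl
      · rw [Helper45.spin_one_reflO_nsq Q h2 v hv hsq,
          Helper45.spin_eps_reflO_nsq Q h2 ε hε v hv hsq]
        rfl
  | one =>
    left
    refine ⟨?_, ?_⟩
    · show ((1 : GL ι F) : Matrix ι ι F).det = 1
      rw [Units.val_one, Matrix.det_one]
    · rw [map_one, map_one, mul_one]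
  | mul x y hx hy ihx ihy =>
    have hdet : (((x * y : ↥(isometryGroup F ⇑Q)) : GL ι F) : Matrix ι ι F).det =
        ((x : GL ι F) : Matrix ι ι F).det * ((y : GL ι F) : Matrix ι ι F).det := by
      show (((x : GL ι F) * (y : GL ι F) : GL ι F) : Matrix ι ι F).det = _
      rw [Units.val_mul, Matrix.det_mul]
    have hsp : Helper45.spin ⇑Q 1 (x * y) * Helper45.spin ⇑Q ε (x * y) =
        (Helper45.spin ⇑Q 1 x * Helper45.spin ⇑Q ε x) *
          (Helper45.spin ⇑Q 1 y * Helper45.spin ⇑Q ε y) := by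
      rw [map_mul, map_mul]
      exact mul_mul_mul_comm _ _ _ _
    rw [hdet, hsp]
    rcases ihx with ⟨a1, a2⟩ | ⟨a1, a2⟩ <;> rcases ihy with ⟨b1, b2⟩ | ⟨b1, b2⟩
    · left
      rw [a1, a2, b1, b2]
      exact ⟨one_mul 1, one_mul 1⟩
    · right
      rw [a1, a2, b1, b2]
      exact ⟨one_mul _, one_mul _⟩
    · right
      rw [a1, a2, b1, b2]
      exact ⟨mul_one _, mul_one _⟩
    · left
      rw [a1, a2, b1, b2]
      exact ⟨by ring, by decide⟩
  | inv x hx ihx =>
    have hdet : (((x⁻¹ : ↥(isometryGroup F ⇑Q)) : GL ι F) : Matrix ι ι F).det *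
        ((x : GL ι F) : Matrix ι ι F).det = 1 := by
      rw [← Matrix.det_mul]
      show ((((x : GL ι F)⁻¹ * (x : GL ι F) : GL ι F)) : Matrix ι ι F).det = 1
      rw [inv_mul_cancel, Units.val_one, Matrix.det_one]
    have hsp : Helper45.spin ⇑Q 1 x⁻¹ * Helper45.spin ⇑Q ε x⁻¹ =
        (Helper45.spin ⇑Q 1 x * Helper45.spin ⇑Q ε x)⁻¹ := by
      rw [map_inv, map_inv, mul_inv]
    rw [hsp]
    rcases ihx with ⟨a1, a2⟩ | ⟨a1, a2⟩
    · left
      rw [a1, mul_one] at hdet
      rw [a2]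
      exact ⟨hdet, inv_one⟩
    · right
      rw [a1] at hdet
      rw [a2]
      exact ⟨by linear_combination -hdet, by decide⟩

/-- Determinant one and trivial sign on the vectors of norm one characterise `Ω`. -/
theorem mem_omega_of_det_spin (h2 : (2 : F) ≠ 0)
    (hQ : (QuadraticMap.polarBilin Q).Nondegenerate) (hcard : 2 ≤ Fintype.card ι)
    (g : ↥(isometryGroup F ⇑Q)) (hdet : ((g : GL ι F) : Matrix ι ι F).det = 1)
    (hspin : Helper45.spin ⇑Q 1 g = 1) : g ∈ Omega F ⇑Q := by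
  obtain ⟨ε, hε⟩ := FiniteField.exists_nonsquare (Helper45.ringChar_ne_two h2)
  rw [Helper45.mem_omega_iff Q h2 hQ hcard ε hε]
  refine ⟨hspin, ?_⟩
  rcases det_spin_aux Q h2 hQ ε hε g with ⟨-, a2⟩ | ⟨a1, -⟩
  · rw [hspin, one_mul] at a2
    exact a2
  · rw [hdet] at a1
    exfalso
    exact h2 (by linear_combination a1)

omit [Fintype F] in
theorem reflO_congr (v w : ι → F) (hv : Q v ≠ 0) (hw : Q w ≠ 0) (h : v = w) :
    Helper45.reflO Q v hv = Helper45.reflO Q w hw := by
  subst h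
  rfl

omit [Fintype F] in
theorem comm_reflO (S : ↥(isometryGroup F ⇑Q)) (a : ι → F) (ha : Q a ≠ 0)
    (hSa : Helper45.mv ⇑Q S a = a) :
    S * Helper45.reflO Q a ha = Helper45.reflO Q a ha * S := by
  have hkv : Q (Helper45.mv ⇑Q S a) ≠ 0 := by rw [hSa]; exact ha
  have h3 := Helper45.conj_reflO Q S a ha hkv
  rw [reflO_congr Q _ a hkv ha hSa] at h3
  calc S * Helper45.reflO Q a ha = S * Helper45.reflO Q a ha * S⁻¹ * S := by group
    _ = Helper45.reflO Q a ha * S := by rw [h3]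

omit [Fintype F] in
theorem mv_neg' (g : ↥(isometryGroup F ⇑Q)) (x : ι → F) :
    Helper45.mv ⇑Q g (-x) = -Helper45.mv ⇑Q g x := Matrix.mulVec_neg _ _

/-- An element of order `2 m` of `Ω` from an isometry of odd order `m` fixing two orthogonal
vectors of the same non-zero norm. -/
theorem two_refl (h2 : (2 : F) ≠ 0) (hQ : (QuadraticMap.polarBilin Q).Nondegenerate)
    (hcard : 2 ≤ Fintype.card ι) (S : ↥(isometryGroup F ⇑Q)) (m : ℕ) (hm : Odd m)
    (hS : S ^ m = 1) (hS' : ∀ i : ℕ, S ^ i = 1 → m ∣ i) (a b : ι → F) (ha : Q a ≠ 0)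
    (hab : Q b = Q a) (hpol : QuadraticMap.polar ⇑Q a b = 0)
    (hSa : Helper45.mv ⇑Q S a = a) (hSb : Helper45.mv ⇑Q S b = b) :
    ∃ y : ↥(isometryGroup F ⇑Q), y ∈ Omega F ⇑Q ∧ orderOf y = 2 * m := by
  have hb : Q b ≠ 0 := by rw [hab]; exact ha
  obtain ⟨ra, hra⟩ : ∃ ra, ra = Helper45.reflO Q a ha := ⟨_, rfl⟩
  obtain ⟨rb, hrb⟩ : ∃ rb, rb = Helper45.reflO Q b hb := ⟨_, rfl⟩
  have hmva : ∀ x, Helper45.mv ⇑Q ra x = x - ((Q a)⁻¹ * QuadraticMap.polar ⇑Q a x) • a := by
    intro x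
    rw [hra]
    exact Helper45.mv_reflO Q a ha x
  have hmvb : ∀ x, Helper45.mv ⇑Q rb x = x - ((Q b)⁻¹ * QuadraticMap.polar ⇑Q b x) • b := by
    intro x
    rw [hrb]
    exact Helper45.mv_reflO Q b hb x
  have hpol' : QuadraticMap.polar ⇑Q b a = 0 := by rw [QuadraticMap.polar_comm]; exact hpol
  have hcomm : ra * rb = rb * ra := by
    apply Helper45.ext_mv Q
    intro x
    rw [Helper45.mv_mul, Helper45.mv_mul, hmva, hmvb, hmva, hmvb, QuadraticMap.polar_sub_right,
      QuadraticMap.polar_sub_right, QuadraticMap.polar_smul_right,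
      QuadraticMap.polar_smul_right, hpol, hpol', smul_zero, smul_zero, sub_zero, sub_zero]
    abel
  have hra2 : ra * ra = 1 := by rw [hra]; exact Helper45.reflO_mul_self Q a ha
  have hrb2 : rb * rb = 1 := by rw [hrb]; exact Helper45.reflO_mul_self Q b hb
  obtain ⟨t, htdef⟩ : ∃ t, t = ra * rb := ⟨_, rfl⟩
  have ht2 : t * t = 1 := by
    rw [htdef]
    calc ra * rb * (ra * rb) = ra * (rb * ra) * rb := by simp only [mul_assoc]
      _ = ra * (ra * rb) * rb := by rw [hcomm]
      _ = (ra * ra) * (rb * rb) := by simp only [mul_assoc]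
      _ = 1 := by rw [hra2, hrb2, one_mul]
  have ht1 : t ≠ 1 := by
    intro h
    have h3 : Helper45.mv ⇑Q t a = a := by rw [h, Helper45.mv_one]
    rw [htdef, Helper45.mv_mul, hmvb, hpol', mul_zero, zero_smul, sub_zero, hmva,
      polar_self'] at h3
    have h4 : (Q a)⁻¹ * (2 * Q a) = 2 := by
      rw [mul_left_comm, inv_mul_cancel₀ ha, mul_one]
    rw [h4] at h3
    have h5 : (2 : F) • a = 0 := sub_eq_self.mp h3
    rcases smul_eq_zero.mp h5 with h | h
    · exact h2 h
    · apply ha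
      rw [h]
      exact QuadraticMap.map_zero Q
  have hSra : S * ra = ra * S := by rw [hra]; exact comm_reflO Q S a ha hSa
  have hSrb : S * rb = rb * S := by rw [hrb]; exact comm_reflO Q S b hb hSb
  have hSt : Commute S t := by
    show S * t = t * S
    rw [htdef, ← mul_assoc, hSra, mul_assoc, hSrb, ← mul_assoc]
  have hSΩ : S ∈ Omega F ⇑Q := mem_omega_of_odd Q h2 hQ hcard S m hm hS
  have htΩ : t ∈ Omega F ⇑Q := by
    rw [Helper45.mem_omega_prod_refl Q h2 hQ hcard [a, b] (by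
      intro v hv
      simp only [List.mem_cons, List.not_mem_nil, or_false] at hv
      rcases hv with rfl | rfl
      · exact ha
      · exact hb) t (by
        rw [htdef, hra, hrb]
        simp only [List.map_cons, List.map_nil, List.prod_cons, List.prod_nil, mul_one]
        show (((Helper45.reflO Q a ha : GL ι F) * (Helper45.reflO Q b hb : GL ι F) : GL ι F) :
          Matrix ι ι F) = _
        rw [Units.val_mul, Helper45.reflO_coe, Helper45.reflO_coe])]
    refine ⟨⟨1, rfl⟩, ?_⟩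
    simp only [List.map_cons, List.map_nil, List.prod_cons, List.prod_nil, mul_one]
    rw [hab]
    exact ⟨Q a, rfl⟩
  exact ⟨S * t, Subgroup.mul_mem _ hSΩ htΩ, order_two_mul S t hSt m hm hS hS' ht2 ht1⟩

/-- `-1` as an isometry. -/
noncomputable def negO : ↥(isometryGroup F ⇑Q) :=
  ⟨-1, (Helper45.mem_iso_iff _ _).mpr (fun v => by
    rw [Units.val_neg, Units.val_one, Matrix.neg_mulVec, Matrix.one_mulVec]
    exact QuadraticMap.map_neg Q v)⟩

omit [Fintype F] in
theorem mv_negO (x : ι → F) : Helper45.mv ⇑Q (negO Q) x = -x := by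
  show ((-1 : GL ι F) : Matrix ι ι F) *ᵥ x = -x
  rw [Units.val_neg, Units.val_one, Matrix.neg_mulVec, Matrix.one_mulVec]

omit [Fintype F] in
theorem det_negO :
    (((negO Q : ↥(isometryGroup F ⇑Q)) : GL ι F) : Matrix ι ι F).det = (-1) ^ Fintype.card ι := by
  show ((-1 : GL ι F) : Matrix ι ι F).det = _
  rw [Units.val_neg, Units.val_one, Matrix.det_neg, Matrix.det_one, mul_one]

omit [Fintype F] in
theorem comm_negO (S : ↥(isometryGroup F ⇑Q)) : S * negO Q = negO Q * S := by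
  apply Helper45.ext_mv Q
  intro x
  rw [Helper45.mv_mul, Helper45.mv_mul, mv_negO, mv_negO, mv_neg']

theorem spin_negO (h2 : (2 : F) ≠ 0) :
    Helper45.spin ⇑Q 1 (negO Q) = (-1) ^ (Nat.card (Helper45.Lev ⇑Q 1) / 2) := by
  rw [Helper45.spin_apply, Nat.card_eq_fintype_card]
  apply Helper45.sign_fpf
  · ext x
    apply Helper45.Lev.ext'
    show Helper45.mv ⇑Q (negO Q) (Helper45.mv ⇑Q (negO Q) x.val) = x.val
    rw [mv_negO, mv_negO, neg_neg]
  · intro x hx
    have h3 := congrArg Helper45.Lev.val hx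
    rw [Helper45.levPerm_val, mv_negO] at h3
    have h4 : (2 : F) • x.val = 0 := by
      rw [two_smul]
      calc x.val + x.val = -x.val + x.val := by rw [h3]
        _ = 0 := neg_add_cancel _
    rcases smul_eq_zero.mp h4 with h | h
    · exact h2 h
    · have h5 := x.prop
      rw [h, QuadraticMap.map_zero] at h5
      exact zero_ne_one h5

/-- The number of vectors of norm one fixed by an isometry of prime order whose fixed space is a
line. -/
theorem fix_count (h2 : (2 : F) ≠ 0) (S : ↥(isometryGroup F ⇑Q)) (s : ℕ) (hs : s.Prime)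
    (hSs : S ^ s = 1) (w₀ : ι → F) (hw₀ : Q w₀ ≠ 0)
    (hfix : ∀ x, Helper45.mv ⇑Q S x = x ↔ ∃ a : F, x = a • w₀) :
    (IsSquare (Q w₀) → 2 ≡ Nat.card (Helper45.Lev ⇑Q 1) [MOD s]) ∧
      (¬ IsSquare (Q w₀) → 0 ≡ Nat.card (Helper45.Lev ⇑Q 1) [MOD s]) := by
  haveI : Fact s.Prime := ⟨hs⟩
  obtain ⟨σ, hσ⟩ : ∃ σ, σ = Helper45.levPerm ⇑Q 1 S := ⟨_, rfl⟩
  have hσs : σ ^ s ^ 1 = 1 := by
    have h1 : Helper45.levHom ⇑Q 1 S = σ := by rw [hσ]; rfl
    rw [pow_one, ← h1, ← map_pow, hSs, map_one]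
  have hmod := Equiv.Perm.card_compl_support_modEq hσs
  rw [← Nat.card_eq_fintype_card] at hmod
  have hmem : ∀ x : Helper45.Lev ⇑Q 1, x ∈ σ.supportᶜ ↔ ∃ a : F, x.val = a • w₀ := by
    intro x
    rw [Finset.mem_compl, Equiv.Perm.notMem_support, ← hfix, hσ]
    constructor
    · intro h
      exact congrArg Helper45.Lev.val h
    · intro h
      exact Helper45.Lev.ext' _ h
  constructor
  · rintro ⟨c, hc⟩
    have hc0 : c ≠ 0 := by
      rintro rfl
      rw [mul_zero] at hc
      exact hw₀ hc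
    have hQ1 : Q (c⁻¹ • w₀) = 1 := by
      rw [QuadraticMap.map_smul, hc, smul_eq_mul]
      field_simp
    have hQ2 : Q (-(c⁻¹ • w₀)) = 1 := by rw [QuadraticMap.map_neg, hQ1]
    have hcard : σ.supportᶜ =
        {(⟨c⁻¹ • w₀, hQ1⟩ : Helper45.Lev ⇑Q 1), ⟨-(c⁻¹ • w₀), hQ2⟩} := by
      ext x
      rw [hmem, Finset.mem_insert, Finset.mem_singleton]
      constructor
      · rintro ⟨a, ha⟩
        have h3 := x.prop
        rw [ha, QuadraticMap.map_smul, hc, smul_eq_mul] at h3
        have h4 : (a * c - 1) * (a * c + 1) = 0 := by linear_combination h3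
        rcases mul_eq_zero.mp h4 with h | h
        · left
          apply Helper45.Lev.ext'
          show x.val = c⁻¹ • w₀
          rw [ha]
          congr 1
          exact eq_inv_of_mul_eq_one_left (by linear_combination h)
        · right
          apply Helper45.Lev.ext'
          show x.val = -(c⁻¹ • w₀)
          rw [ha, ← neg_smul]
          congr 1
          rw [neg_inv]
          exact eq_inv_of_mul_eq_one_left (by linear_combination -h)
      · rintro (h | h)
        · exact ⟨c⁻¹, by rw [h]⟩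
        · exact ⟨-c⁻¹, by rw [h, neg_smul]⟩
    rw [hcard, Finset.card_pair (by
      intro h
      have h3 : c⁻¹ • w₀ = -(c⁻¹ • w₀) := congrArg Helper45.Lev.val h
      have h4 : (2 : F) • (c⁻¹ • w₀) = 0 := by
        rw [two_smul]
        calc c⁻¹ • w₀ + c⁻¹ • w₀ = -(c⁻¹ • w₀) + c⁻¹ • w₀ := by rw [← h3]
          _ = 0 := neg_add_cancel _
      rcases smul_eq_zero.mp h4 with h5 | h5
      · exact h2 h5
      · rcases smul_eq_zero.mp h5 with h6 | h6
        · exact inv_ne_zero hc0 h6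
        · apply hw₀
          rw [h6]
          exact QuadraticMap.map_zero Q)] at hmod
    exact hmod
  · intro hns
    have hcard : σ.supportᶜ = ∅ := by
      apply Finset.eq_empty_of_forall_notMem
      intro x hx
      rw [hmem] at hx
      obtain ⟨a, ha⟩ := hx
      have h3 := x.prop
      rw [ha, QuadraticMap.map_smul, smul_eq_mul] at h3
      apply hns
      have ha0 : a ≠ 0 := by
        rintro rfl
        rw [mul_zero, zero_mul] at h3
        exact zero_ne_one h3
      refine ⟨a⁻¹, ?_⟩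
      field_simp
      linear_combination h3
    rw [hcard, Finset.card_empty] at hmod
    exact hmod

/-- The sign of `-r_w` on the vectors of norm one. -/
theorem spin_tW (h2 : (2 : F) ≠ 0) (S : ↥(isometryGroup F ⇑Q)) (s : ℕ) (hs : s.Prime)
    (hs2 : s ≠ 2) (hSs : S ^ s = 1) (w₀ : ι → F) (hw₀ : Q w₀ ≠ 0)
    (hfix : ∀ x, Helper45.mv ⇑Q S x = x ↔ ∃ a : F, x = a • w₀) (M : ℕ) (hM : Odd M)
    (hcard : Nat.card (Helper45.Lev ⇑Q 1) = M ^ 2 + M) :
    (s ∣ M + 1 →
        (Helper45.spin ⇑Q 1 (negO Q * Helper45.reflO Q w₀ hw₀) = 1 ↔ 4 ∣ M + 1)) ∧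
      (s ∣ M - 1 →
        (Helper45.spin ⇑Q 1 (negO Q * Helper45.reflO Q w₀ hw₀) = 1 ↔ 4 ∣ M - 1)) := by
  obtain ⟨hsq, hnsq⟩ := fix_count Q h2 S s hs hSs w₀ hw₀ hfix
  rw [hcard] at hsq hnsq
  obtain ⟨hpar1, hpar2⟩ := half_parity M hM
  have hneg : Helper45.spin ⇑Q 1 (negO Q) = (-1) ^ ((M ^ 2 + M) / 2) := by
    rw [spin_negO Q h2, hcard]
  have hs_two : s ∣ 2 → s = 2 := by
    intro h
    have h1 := Nat.le_of_dvd (by norm_num) h
    have h3 := hs.two_le
    omega
  constructor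
  · intro hdvd
    have h0 : s ∣ M ^ 2 + M := by
      have : M ^ 2 + M = M * (M + 1) := by ring
      rw [this]
      exact Dvd.dvd.mul_left hdvd M
    have hns : ¬ IsSquare (Q w₀) := by
      intro h
      have h1 := hsq h
      have h4 := Nat.modEq_zero_iff_dvd.mpr h0
      exact hs2 (hs_two (Nat.modEq_zero_iff_dvd.mp (h1.trans h4)))
    rw [map_mul, hneg, Helper45.spin_one_reflO_nsq Q h2 w₀ hw₀ hns, mul_one, ← hpar1]
    constructor
    · intro h
      by_contra hodd
      rw [Nat.not_even_iff_odd] at hodd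
      rw [hodd.neg_one_pow] at h
      exact absurd h (by decide)
    · intro h
      exact h.neg_one_pow
  · intro hdvd
    have hM1 : 1 ≤ M := by
      obtain ⟨j, hj⟩ := hM
      omega
    have hsqr : IsSquare (Q w₀) := by
      by_contra h
      have h1 := hnsq h
      have h3 : s ∣ M ^ 2 + M := Nat.modEq_zero_iff_dvd.mp h1.symm
      have h4 : M ^ 2 + M = (M - 1) * (M + 2) + 2 := by
        obtain ⟨m', rfl⟩ : ∃ m', M = m' + 1 := ⟨M - 1, by omega⟩
        rw [Nat.add_sub_cancel]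
        ring
      rw [h4] at h3
      exact hs2 (hs_two ((Nat.dvd_add_right (Dvd.dvd.mul_right hdvd _)).mp h3))
    rw [map_mul, hneg, Helper45.spin_one_reflO_sq Q h2 w₀ hw₀ hsqr, ← hpar2]
    constructor
    · intro h
      by_contra hodd
      rw [Nat.not_odd_iff_even] at hodd
      rw [hodd.neg_one_pow] at h
      exact absurd h (by decide)
    · intro h
      rw [h.neg_one_pow]
      decide

end omega

end Cfsg.Agent.Helper42.BC
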