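import Mathlib
import Cfsg.Agent.Helper42.BCb
import Cfsg.Agent.Helper42.BCd

set_option autoImplicit false

/-!
# Prime graphs of `B_n(q)` and `C_n(q)` coincide (helper42)

For `q` odd, `n ≥ 3` and distinct primes `r`, `s`: `Ω_{2n+1}(q)` has an element of order `r s`
iff `PSp_{2n}(q)` has one (`main`).
-/

namespace Cfsg.Agent.Helper42.BC

open Matrix SpForm SpGroup SpModels SpStruct PGraphL PGraphL2 PGraphS PGraphS2 PGraphSM

universe u

section invol

variable {ι : Type} [Fintype ι] [DecidableEq ι] {F : Type u} [Field F]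
  (Q : QuadraticForm F (ι → F))

/-- An involution of determinant one acting as `± 1` on a non-singular line and on its
orthogonal complement is `-r_w`. -/
theorem invol_cases (h2 : (2 : F) ≠ 0) (hodd : Odd (Fintype.card ι))
    (t : ↥(isometryGroup F ⇑Q)) (w₀ : ι → F) (hw₀ : Q w₀ ≠ 0) (ht1 : t ≠ 1)
    (hdet : ((t : GL ι F) : Matrix ι ι F).det = 1)
    (hw : Helper45.mv ⇑Q t w₀ = w₀ ∨ Helper45.mv ⇑Q t w₀ = -w₀)
    (hperp : (∀ x, QuadraticMap.polar ⇑Q w₀ x = 0 → Helper45.mv ⇑Q t x = x) ∨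
      (∀ x, QuadraticMap.polar ⇑Q w₀ x = 0 → Helper45.mv ⇑Q t x = -x)) :
    t = negO Q * Helper45.reflO Q w₀ hw₀ := by
  have h20 : (2 * Q w₀) ≠ 0 := mul_ne_zero h2 hw₀
  obtain ⟨c, hc⟩ : ∃ c : (ι → F) → F, ∀ x, c x = (2 * Q w₀)⁻¹ * QuadraticMap.polar ⇑Q w₀ x :=
    ⟨_, fun _ => rfl⟩
  have hc2 : ∀ x, (Q w₀)⁻¹ * QuadraticMap.polar ⇑Q w₀ x = 2 * c x := by
    intro x
    rw [hc]
    field_simp
  have hdecomp : ∀ x, QuadraticMap.polar ⇑Q w₀ (x - c x • w₀) = 0 := by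
    intro x
    rw [QuadraticMap.polar_sub_right, QuadraticMap.polar_smul_right, polar_self', smul_eq_mul, hc,
      mul_comm ((2 * Q w₀)⁻¹) _, mul_assoc, inv_mul_cancel₀ h20, mul_one, sub_self]
  have hform : ∀ e₁ e₂ : F, Helper45.mv ⇑Q t w₀ = e₁ • w₀ →
      (∀ x, QuadraticMap.polar ⇑Q w₀ x = 0 → Helper45.mv ⇑Q t x = e₂ • x) →
      ∀ x, Helper45.mv ⇑Q t x = e₂ • x + (c x * (e₁ - e₂)) • w₀ := by
    intro e₁ e₂ h1 h3 x
    have h4 : x = (x - c x • w₀) + c x • w₀ := (sub_add_cancel _ _).symm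
    have h5 : Helper45.mv ⇑Q t x = Helper45.mv ⇑Q t ((x - c x • w₀) + c x • w₀) := by rw [← h4]
    rw [h5, Helper45.mv_add, Helper45.mv_smul, h1, h3 _ (hdecomp x)]
    module
  have hrefl : ∀ x, Helper45.mv ⇑Q (Helper45.reflO Q w₀ hw₀) x = x - (2 * c x) • w₀ := by
    intro x
    rw [Helper45.mv_reflO, hc2]
  have e1 : Helper45.mv ⇑Q t w₀ = w₀ → Helper45.mv ⇑Q t w₀ = (1 : F) • w₀ := by
    intro h
    rw [h, one_smul]
  have e2 : Helper45.mv ⇑Q t w₀ = -w₀ → Helper45.mv ⇑Q t w₀ = (-1 : F) • w₀ := by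
    intro h
    rw [h, neg_smul, one_smul]
  have p1 : (∀ x, QuadraticMap.polar ⇑Q w₀ x = 0 → Helper45.mv ⇑Q t x = x) →
      (∀ x, QuadraticMap.polar ⇑Q w₀ x = 0 → Helper45.mv ⇑Q t x = (1 : F) • x) := by
    intro h x hx
    rw [h x hx, one_smul]
  have p2 : (∀ x, QuadraticMap.polar ⇑Q w₀ x = 0 → Helper45.mv ⇑Q t x = -x) →
      (∀ x, QuadraticMap.polar ⇑Q w₀ x = 0 → Helper45.mv ⇑Q t x = (-1 : F) • x) := by
    intro h x hx
    rw [h x hx, neg_smul, one_smul]
  have hneg1 : (1 : F) ≠ -1 := by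
    intro h
    exact h2 (by linear_combination h)
  rcases hw with hw | hw <;> rcases hperp with hp | hp
  · exfalso
    apply ht1
    apply Helper45.ext_mv Q
    intro x
    rw [hform 1 1 (e1 hw) (p1 hp) x, Helper45.mv_one]
    module
  · apply Helper45.ext_mv Q
    intro x
    rw [hform 1 (-1) (e1 hw) (p2 hp) x, Helper45.mv_mul, mv_negO, hrefl]
    module
  · exfalso
    have h3 : t = Helper45.reflO Q w₀ hw₀ := by
      apply Helper45.ext_mv Q
      intro x
      rw [hform (-1) 1 (e2 hw) (p1 hp) x, hrefl]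
      module
    rw [h3, Helper45.reflO_coe, Helper13.reflection_det Q w₀ hw₀] at hdet
    exact hneg1 hdet.symm
  · exfalso
    have h3 : t = negO Q := by
      apply Helper45.ext_mv Q
      intro x
      rw [hform (-1) (-1) (e2 hw) (p2 hp) x, mv_negO]
      module
    rw [h3, det_negO, hodd.neg_one_pow] at hdet
    exact hneg1 hdet.symm

theorem isoEnd_pow_eq_one (g : ↥(isometryGroup F ⇑Q)) (i : ℕ) :
    (BnCn.isoEnd Q g) ^ i = 1 ↔ g ^ i = 1 := by
  rw [← map_pow]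
  constructor
  · intro h
    apply BnCn.isoEnd_injective Q
    rw [h, map_one]
  · intro h
    rw [h, map_one]

end invol

section std

variable {F : Type u} [Field F] [Fintype F]

theorem std_card (n : ℕ) : Fintype.card (Unit ⊕ (Fin n ⊕ Fin n)) = 2 * n + 1 := by
  rw [Fintype.card_sum, Fintype.card_sum, Fintype.card_unit, Fintype.card_fin]
  ring

omit [Fintype F] in
theorem std_finrank (n : ℕ) : Module.finrank F (Unit ⊕ (Fin n ⊕ Fin n) → F) = 2 * n + 1 := by
  rw [Module.finrank_fintype_fun_eq_card, std_card]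

theorem card_lev_std (h2 : (2 : F) ≠ 0) (n : ℕ) (hn : 1 ≤ n) :
    Nat.card (Helper45.Lev ⇑(Helper43.oddQF n F) 1) =
      (Fintype.card F ^ n) ^ 2 + Fintype.card F ^ n := by
  rw [← pow_mul', ← BnCn.card_lev_odd h2 n hn]
  exact Nat.card_congr ⟨fun x => ⟨x.val, x.prop⟩, fun v => ⟨v.1, v.2⟩,
    fun x => by cases x; rfl, fun v => rfl⟩

omit [Fintype F] in
/-- Element orders of `PΩ_{2n+1}(q)` are element orders of `Ω_{2n+1}(q)`. -/
theorem om_range_iff (h2 : (2 : F) ≠ 0) (n : ℕ) (hn : 3 ≤ n) (N : ℕ) :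
    (N ∈ Set.range (orderOf : Cfsg.POmega F (Cfsg.quadFormOdd n F) → ℕ)) ↔
      ∃ g : ↥(isometryGroup F ⇑(Helper43.oddQF n F)),
        g ∈ Omega F ⇑(Helper43.oddQF n F) ∧ orderOf g = N := by
  have hcen := Helper14.center_omega_odd_eq_bot (F := F) n h2 hn
  have hinj : Function.Injective (QuotientGroup.mk'
      (Subgroup.center (Cfsg.Omega F (Cfsg.quadFormOdd n F)))) := by
    rw [injective_iff_map_eq_one]
    intro a ha
    rw [QuotientGroup.mk'_apply, QuotientGroup.eq_one_iff, hcen, Subgroup.mem_bot] at ha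
    exact ha
  constructor
  · rintro ⟨xbar, hxbar⟩
    obtain ⟨g, rfl⟩ := QuotientGroup.mk_surjective xbar
    have hordg : orderOf g = N := by
      rw [← hxbar]
      exact (orderOf_injective _ hinj g).symm
    refine ⟨(g : ↥(Cfsg.isometryGroup F (Cfsg.quadFormOdd n F))), g.2, ?_⟩
    rw [← hordg]
    exact Subgroup.orderOf_coe g
  · rintro ⟨g, hg, hord⟩
    refine ⟨QuotientGroup.mk' (Subgroup.center (Cfsg.Omega F (Cfsg.quadFormOdd n F))) ⟨g, hg⟩, ?_⟩
    rw [orderOf_injective _ hinj, ← hord]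
    exact (Subgroup.orderOf_coe (⟨g, hg⟩ : ↥(Cfsg.Omega F (Cfsg.quadFormOdd n F)))).symm

/-- Elements of odd order of `Ω` from blocks. -/
theorem om_of_block (h2 : (2 : F) ≠ 0) (n d₀ N : ℕ) (fr : Prop) (hd : d₀ ≤ 2 * n + 1)
    (hn : 1 ≤ n) (hN : Odd N) (hblk : IsBlk F d₀ N fr) :
    ∃ g : ↥(isometryGroup F ⇑(Helper43.oddQF n F)),
      g ∈ Omega F ⇑(Helper43.oddQF n F) ∧ orderOf g = N := by
  obtain ⟨g, -, -, -, hgN, hgmin, -, -, -⟩ :=
    std_of_block h2 n d₀ (2 * n + 1 - d₀) N fr (by omega) hblk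
  exact ⟨g, mem_omega_of_odd (Helper43.oddQF n F) h2 (Helper14.oddQF_nondeg n h2)
    (by rw [std_card]; omega) g N hN hgN, order_of_exact g N hgN hgmin⟩

/-- Elements of order `2 N` of `Ω` from blocks of odd order `N` and codimension at least two. -/
theorem om_two_mul_of_block (h2 : (2 : F) ≠ 0) (n d₀ d N : ℕ) (fr : Prop)
    (hd : d₀ + d = 2 * n + 1) (hd2 : 2 ≤ d) (hn : 1 ≤ n) (hN : Odd N)
    (hblk : IsBlk F d₀ N fr) :
    ∃ g : ↥(isometryGroup F ⇑(Helper43.oddQF n F)),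
      g ∈ Omega F ⇑(Helper43.oddQF n F) ∧ orderOf g = 2 * N := by
  classical
  have hstd := std_of_block h2 n d₀ d N fr hd hblk
  have hQnd := Helper14.oddQF_nondeg (F := F) n h2
  obtain ⟨Q, hQdef⟩ : ∃ Q, Q = Helper43.oddQF n F := ⟨_, rfl⟩
  rw [← hQdef] at hstd hQnd ⊢
  obtain ⟨g, ψ, c, hc, hgN, hgmin, hfix, hpol, -⟩ := hstd
  obtain ⟨i0, hi0⟩ : ∃ i : Fin d, i.val = 0 := ⟨⟨0, by omega⟩, rfl⟩
  obtain ⟨i1, hi1⟩ : ∃ i : Fin d, i.val = 1 := ⟨⟨1, by omega⟩, rfl⟩
  have h01 : i0 ≠ i1 := by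
    intro h
    rw [h] at hi0
    omega
  obtain ⟨a, hadef⟩ : ∃ a, a = ψ (Pi.single i0 1) := ⟨_, rfl⟩
  obtain ⟨b, hbdef⟩ : ∃ b, b = ψ (Pi.single i1 1) := ⟨_, rfl⟩
  have haa : QuadraticMap.polar ⇑Q a a = c := by
    rw [hadef, hpol]
    simp
  have hbb : QuadraticMap.polar ⇑Q b b = c := by
    rw [hbdef, hpol]
    simp
  have hab0 : QuadraticMap.polar ⇑Q a b = 0 := by
    rw [hadef, hbdef, hpol]
    simp [h01]
  have hQa : 2 * Q a = c := by rw [← polar_self', haa]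
  have hQb : 2 * Q b = c := by rw [← polar_self', hbb]
  have ha : Q a ≠ 0 := by
    intro h
    rw [h, mul_zero] at hQa
    exact hc hQa.symm
  have hab : Q b = Q a := mul_left_cancel₀ h2 (hQb.trans hQa.symm)
  exact two_refl Q h2 hQnd (by rw [std_card]; omega) g N hN hgN hgmin a b ha hab hab0
    (by rw [hadef]; exact hfix _) (by rw [hbdef]; exact hfix _)

omit [Fintype F] in
/-- The form data of the standard odd-dimensional orthogonal space. -/
theorem std_bil_facts (h2 : (2 : F) ≠ 0) (n : ℕ) :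
    (∀ x y, QuadraticMap.polarBilin (Helper43.oddQF n F) x y =
        QuadraticMap.polarBilin (Helper43.oddQF n F) y x) ∧
      (∀ v, (∀ w, QuadraticMap.polarBilin (Helper43.oddQF n F) v w = 0) → v = 0) ∧
      (∀ g : ↥(isometryGroup F ⇑(Helper43.oddQF n F)),
        Preserves (QuadraticMap.polarBilin (Helper43.oddQF n F))
          (BnCn.isoEnd (Helper43.oddQF n F) g)) := by
  refine ⟨fun x y => QuadraticMap.polar_comm _ x y,
    fun v hv => (Helper14.oddQF_nondeg n h2).1 v hv,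
    fun g x y => Helper45.mv_polar (Helper43.oddQF n F) g x y⟩

/-- Two odd primes different from the characteristic in `Ω_{2n+1}(q)`. -/
theorem om_rs_iff (p : ℕ) [Fact p.Prime] [CharP F p] (h2 : (2 : F) ≠ 0) (n : ℕ) (hn : 1 ≤ n)
    (r s : ℕ) (hr : r.Prime) (hs : s.Prime) (hr2 : r ≠ 2) (hs2 : s ≠ 2) (hrp : r ≠ p)
    (hsp : s ≠ p) (hrs : r ≠ s) (k l ηk ηl : ℕ)
    (hk : k = orderOf ((Fintype.card F : ℕ) : ZMod r))
    (hl : l = orderOf ((Fintype.card F : ℕ) : ZMod s))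
    (hηk : (Odd k ∧ ηk = k) ∨ (Even k ∧ 2 * ηk = k))
    (hηl : (Odd l ∧ ηl = l) ∨ (Even l ∧ 2 * ηl = l)) (hkl : ηk ≤ ηl) :
    (∃ g : ↥(isometryGroup F ⇑(Helper43.oddQF n F)),
        g ∈ Omega F ⇑(Helper43.oddQF n F) ∧ orderOf g = r * s) ↔
      (ηl ≤ n ∧ (ηk + ηl ≤ n ∨ ∃ t, Odd t ∧ l = k * t)) := by
  classical
  have hpp : p.Prime := Fact.out
  have hq1 : 1 ≤ Fintype.card F := Fintype.card_pos
  have hk1 : 1 ≤ k := by
    rw [hk]
    exact order_pos p r hr hrp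
  have hl1 : 1 ≤ l := by
    rw [hl]
    exact order_pos p s hs hsp
  have hcop : Nat.Coprime r s := (Nat.coprime_primes hr hs).mpr hrs
  have hrs_odd : Odd (r * s) := (hr.odd_of_ne_two hr2).mul (hs.odd_of_ne_two hs2)
  obtain ⟨hsym, hnd, hpres⟩ := std_bil_facts (F := F) h2 n
  constructor
  · rintro ⟨g, -, hord⟩
    have hg : g ^ (r * s) = 1 := by
      rw [← hord]
      exact pow_orderOf_eq_one g
    have hTrs : (BnCn.isoEnd (Helper43.oddQF n F) g) ^ (r * s) = 1 :=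
      (isoEnd_pow_eq_one _ g _).mpr hg
    have hTs : (BnCn.isoEnd (Helper43.oddQF n F) g) ^ s ≠ 1 := by
      intro h
      have h3 := orderOf_dvd_of_pow_eq_one ((isoEnd_pow_eq_one _ g _).mp h)
      rw [hord] at h3
      have h4 := Nat.le_of_dvd hs.pos h3
      have h5 : 2 * s ≤ r * s := Nat.mul_le_mul_right s hr.two_le
      have h6 := hs.pos
      omega
    have hTr : (BnCn.isoEnd (Helper43.oddQF n F) g) ^ r ≠ 1 := by
      intro h
      have h3 := orderOf_dvd_of_pow_eq_one ((isoEnd_pow_eq_one _ g _).mp h)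
      rw [hord] at h3
      have h4 := Nat.le_of_dvd hr.pos h3
      have h5 : r * 2 ≤ r * s := Nat.mul_le_mul_left r hs.two_le
      have h6 := hr.pos
      omega
    obtain ⟨-, b2, b3⟩ := o_bound_rs p h2 r s hr hs hr2 hs2 hrp hsp hrs k l ηk ηl hk hl hηk hηl
      hkl n (QuadraticMap.polarBilin (Helper43.oddQF n F)) hsym hnd (std_finrank n) _ (hpres g)
      hTrs
    exact ⟨b2 hTr, b3 hTs hTr⟩
  · rintro ⟨hln, hor⟩
    by_cases hodd : ∃ t : ℕ, Odd t ∧ l = k * t
    · obtain ⟨t, ht, hlk⟩ := hodd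
      rcases hηl with ⟨hlodd, hηl'⟩ | ⟨hleven, hηl'⟩
      · have hrl : r ∣ Fintype.card F ^ l - 1 :=
          dvd_pow_sub_one_of_order_dvd r _ l (by rw [← hk, hlk]; exact dvd_mul_right k t)
        have hsl : s ∣ Fintype.card F ^ l - 1 := by
          have := dvd_pow_order_sub_one s (Fintype.card F)
          rwa [← hl] at this
        haveI : NeZero l := ⟨by omega⟩
        exact om_of_block h2 n (2 * l) (r * s) _ (by omega) hn hrs_odd
          (blk_minus p l (r * s) (hcop.mul_dvd_of_dvd_of_dvd hrl hsl))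
      · have hkeven : Even k := by
          rw [hlk] at hleven
          rcases Nat.even_mul.mp hleven with h | h
          · exact h
          · exact absurd h (Nat.not_even_iff_odd.mpr ht)
        rcases hηk with ⟨hkodd, -⟩ | ⟨-, hηk'⟩
        · exact absurd hkeven (Nat.not_even_iff_odd.mpr hkodd)
        · have hηlt : ηl = ηk * t := by
            have h2 : 2 * ηl = 2 * (ηk * t) := by
              rw [hηl', hlk, ← hηk']
              ring
            omega
          have hηk1 : 1 ≤ ηk := by omega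
          have hηl1 : 1 ≤ ηl := by omega
          have hr1 : r ∣ Fintype.card F ^ ηk + 1 := dvd_plus r _ k ηk hr hq1 hk hηk' hηk1
          have hrl : r ∣ Fintype.card F ^ ηl + 1 := by
            rw [hηlt, pow_mul]
            have h := Odd.nat_add_dvd_pow_add_pow (Fintype.card F ^ ηk) 1 ht
            rw [one_pow] at h
            exact hr1.trans h
          have hsl : s ∣ Fintype.card F ^ ηl + 1 := dvd_plus s _ l ηl hs hq1 hl hηl' hηl1
          exact om_of_block h2 n (2 * ηl) (r * s) _ (by omega) hn hrs_odd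
            (blk_plus p ηl hηl1 (r * s) (hcop.mul_dvd_of_dvd_of_dvd hrl hsl))
    · have hn' : ηk + ηl ≤ n := by
        rcases hor with h | h
        · exact h
        · exact absurd h hodd
      exact om_of_block h2 n (2 * ηk + 2 * ηl) (r * s) _ (by omega) hn hrs_odd
        (blk_sum (2 * ηk) (2 * ηl) r s True True hcop (blk_prime p r hr hrp k ηk hk hηk)
          (blk_prime p s hs hsp l ηl hl hηl))

/-- An odd prime and the characteristic in `Ω_{2n+1}(q)`. -/
theorem om_rp_iff (p : ℕ) [Fact p.Prime] [CharP F p] (h2 : (2 : F) ≠ 0) (n : ℕ) (hn : 1 ≤ n)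
    (r : ℕ) (hr : r.Prime) (hr2 : r ≠ 2) (hrp : r ≠ p) (k ηk : ℕ)
    (hk : k = orderOf ((Fintype.card F : ℕ) : ZMod r))
    (hηk : (Odd k ∧ ηk = k) ∨ (Even k ∧ 2 * ηk = k)) :
    (∃ g : ↥(isometryGroup F ⇑(Helper43.oddQF n F)),
        g ∈ Omega F ⇑(Helper43.oddQF n F) ∧ orderOf g = r * p) ↔ ηk + 1 ≤ n := by
  classical
  have hpp : p.Prime := Fact.out
  have hp2 : p ≠ 2 := by
    rintro rfl
    exact h2 (by exact_mod_cast CharP.cast_eq_zero F 2)
  have hcop : Nat.Coprime r p := (Nat.coprime_primes hr hpp).mpr hrp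
  have hrp_odd : Odd (r * p) := (hr.odd_of_ne_two hr2).mul (hpp.odd_of_ne_two hp2)
  obtain ⟨hsym, hnd, hpres⟩ := std_bil_facts (F := F) h2 n
  constructor
  · rintro ⟨g, -, hord⟩
    have hg : g ^ (r * p) = 1 := by
      rw [← hord]
      exact pow_orderOf_eq_one g
    have hTrp : (BnCn.isoEnd (Helper43.oddQF n F) g) ^ (r * p) = 1 :=
      (isoEnd_pow_eq_one _ g _).mpr hg
    have hTp : (BnCn.isoEnd (Helper43.oddQF n F) g) ^ p ≠ 1 := by
      intro h
      have h3 := orderOf_dvd_of_pow_eq_one ((isoEnd_pow_eq_one _ g _).mp h)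
      rw [hord] at h3
      have h4 := Nat.le_of_dvd hpp.pos h3
      have h5 : 2 * p ≤ r * p := Nat.mul_le_mul_right p hr.two_le
      have h6 := hpp.pos
      omega
    have hTr : (BnCn.isoEnd (Helper43.oddQF n F) g) ^ r ≠ 1 := by
      intro h
      have h3 := orderOf_dvd_of_pow_eq_one ((isoEnd_pow_eq_one _ g _).mp h)
      rw [hord] at h3
      have h4 := Nat.le_of_dvd hr.pos h3
      have h5 : r * 2 ≤ r * p := Nat.mul_le_mul_left r hpp.two_le
      have h6 := hr.pos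
      omega
    exact (o_bound_rp p h2 r hr hr2 hrp k ηk hk hηk n
      (QuadraticMap.polarBilin (Helper43.oddQF n F)) hsym hnd (std_finrank n) _ (hpres g)
      hTrp).2 hTp hTr
  · intro hn'
    exact om_of_block h2 n (2 * ηk + 3) (r * p) _ (by omega) hn hrp_odd
      (blk_sum (2 * ηk) 3 r p True False hcop (blk_prime p r hr hrp k ηk hk hηk)
        (blk_unip p h2))

/-- The prime `2` and the characteristic in `Ω_{2n+1}(q)`. -/
theorem om_2p (p : ℕ) [Fact p.Prime] [CharP F p] (h2 : (2 : F) ≠ 0) (n : ℕ) (hn : 2 ≤ n) :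
    ∃ g : ↥(isometryGroup F ⇑(Helper43.oddQF n F)),
      g ∈ Omega F ⇑(Helper43.oddQF n F) ∧ orderOf g = 2 * p := by
  have hpp : p.Prime := Fact.out
  have hp2 : p ≠ 2 := by
    rintro rfl
    exact h2 (by exact_mod_cast CharP.cast_eq_zero F 2)
  exact om_two_mul_of_block h2 n 3 (2 * n - 2) p False (by omega) (by omega) (by omega)
    (hpp.odd_of_ne_two hp2) (blk_unip p h2)

/-- The prime `2` and an odd prime different from the characteristic in `Ω_{2n+1}(q)`. -/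
theorem om_2s_iff (p : ℕ) [Fact p.Prime] [CharP F p] (hqodd : Odd (Fintype.card F))
    (h2 : (2 : F) ≠ 0) (n : ℕ) (hn : 1 ≤ n) (s : ℕ) (hs : s.Prime) (hs2 : s ≠ 2) (hsp : s ≠ p)
    (k ηk : ℕ) (hk : k = orderOf ((Fintype.card F : ℕ) : ZMod s))
    (hηk : (Odd k ∧ ηk = k) ∨ (Even k ∧ 2 * ηk = k)) :
    (∃ g : ↥(isometryGroup F ⇑(Helper43.oddQF n F)),
        g ∈ Omega F ⇑(Helper43.oddQF n F) ∧ orderOf g = 2 * s) ↔
      (ηk + 1 ≤ n ∨ (ηk = n ∧ ((Even k ∧ 4 ∣ Fintype.card F ^ n + 1) ∨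
        (Odd k ∧ 4 ∣ Fintype.card F ^ n - 1)))) := by
  classical
  have hp : p.Prime := Fact.out
  have hq1 : 1 ≤ Fintype.card F := Fintype.card_pos
  have hk1 : 1 ≤ k := by
    rw [hk]
    exact order_pos p s hs hsp
  have hη1 : 1 ≤ ηk := by
    rcases hηk with ⟨-, h⟩ | ⟨-, h⟩ <;> omega
  have hs3 : 3 ≤ s := by
    have := hs.two_le
    omega
  have hsodd : Odd s := hs.odd_of_ne_two hs2
  have hModd : Odd (Fintype.card F ^ n) := hqodd.pow
  obtain ⟨hsym, hnd, hpres⟩ := std_bil_facts (F := F) h2 n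
  have hQnd := Helper14.oddQF_nondeg (F := F) n h2
  have hlev := card_lev_std (F := F) h2 n hn
  have hstd := std_of_block h2 n (2 * ηk) 1 s True
  obtain ⟨Q, hQdef⟩ : ∃ Q, Q = Helper43.oddQF n F := ⟨_, rfl⟩
  rw [← hQdef] at hsym hnd hpres hQnd hlev hstd ⊢
  have hcardι : 2 ≤ Fintype.card (Unit ⊕ (Fin n ⊕ Fin n)) := by
    rw [std_card]
    omega
  have hoddι : Odd (Fintype.card (Unit ⊕ (Fin n ⊕ Fin n))) := by
    rw [std_card]
    exact ⟨n, rfl⟩
  have hdvd_even : 2 * ηk = k → ηk = n → s ∣ Fintype.card F ^ n + 1 := by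
    intro hη hηn
    rw [← hηn]
    exact dvd_plus s _ k ηk hs hq1 hk hη hη1
  have hdvd_odd : ηk = k → ηk = n → s ∣ Fintype.card F ^ n - 1 := by
    intro hη hηn
    rw [← hηn, hη, hk]
    exact dvd_pow_order_sub_one s _
  constructor
  · rintro ⟨g, hgΩ, hord⟩
    by_cases hsmall : ηk + 1 ≤ n
    · exact Or.inl hsmall
    right
    obtain ⟨S, hSdef⟩ : ∃ S, S = g ^ 2 := ⟨_, rfl⟩
    obtain ⟨t, htdef⟩ : ∃ t, t = g ^ s := ⟨_, rfl⟩
    have hg2s : g ^ (2 * s) = 1 := by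
      rw [← hord]
      exact pow_orderOf_eq_one g
    have hSs : S ^ s = 1 := by rw [hSdef, ← pow_mul, hg2s]
    have hS1 : S ≠ 1 := by
      intro h
      rw [hSdef] at h
      have h3 := orderOf_dvd_of_pow_eq_one h
      rw [hord] at h3
      have h4 := Nat.le_of_dvd (by norm_num) h3
      omega
    have ht2 : t * t = 1 := by rw [htdef, ← pow_add, ← two_mul, hg2s]
    have ht1 : t ≠ 1 := by
      intro h
      rw [htdef] at h
      have h3 := orderOf_dvd_of_pow_eq_one h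
      rw [hord] at h3
      have h4 := Nat.le_of_dvd hs.pos h3
      omega
    have hcomm : Commute t S := by
      rw [htdef, hSdef]
      exact (Commute.refl g).pow_pow s 2
    have htΩ : t ∈ Omega F ⇑Q := by
      rw [htdef]
      exact Subgroup.pow_mem _ hgΩ s
    have hSs' : (BnCn.isoEnd Q S) ^ s = 1 := (isoEnd_pow_eq_one Q S s).mpr hSs
    have hS1' : BnCn.isoEnd Q S ≠ 1 := by
      intro h
      apply hS1
      apply BnCn.isoEnd_injective Q
      rw [h, map_one]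
    have hSp : (BnCn.isoEnd Q S) ^ (s * p) = 1 := by rw [pow_mul, hSs', one_pow]
    have hSp1 : (BnCn.isoEnd Q S) ^ p ≠ 1 := by
      intro h
      have h4 : (BnCn.isoEnd Q S) ^ Nat.gcd s p = 1 := pow_gcd_eq_one.mpr ⟨hSs', h⟩
      have hcop : Nat.Coprime s p := (Nat.coprime_primes hs hp).mpr hsp
      rw [hcop.gcd_eq_one, pow_one] at h4
      exact hS1' h4
    have hηn : ηk ≤ n := (o_bound_rp p h2 s hs hs2 hsp k ηk hk hηk n
      (QuadraticMap.polarBilin Q) hsym hnd (std_finrank n) _ (hpres S) hSp).1 hSp1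
    have hηeq : ηk = n := by omega
    have hcomm' : Commute (BnCn.isoEnd Q t) (BnCn.isoEnd Q S) := hcomm.map (BnCn.isoEnd Q)
    have ht2' : BnCn.isoEnd Q t * BnCn.isoEnd Q t = 1 := by rw [← map_mul, ht2, map_one]
    obtain ⟨w₀, hw₀B, hfixB, htw, htperp⟩ := o_two_s p h2 s hs hs2 hsp k ηk hk hηk n (by omega)
      (QuadraticMap.polarBilin Q) hsym hnd (std_finrank n) (BnCn.isoEnd Q S) (BnCn.isoEnd Q t)
      (hpres S) (hpres t) hSs' hS1' hcomm' ht2'
    have hw₀ : Q w₀ ≠ 0 := by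
      intro h
      apply hw₀B
      show QuadraticMap.polar ⇑Q w₀ w₀ = 0
      rw [polar_self', h, mul_zero]
    have hfix : ∀ x, Helper45.mv ⇑Q S x = x ↔ ∃ a : F, x = a • w₀ := hfixB
    have hdet : ((t : GL (Unit ⊕ (Fin n ⊕ Fin n)) F) :
        Matrix (Unit ⊕ (Fin n ⊕ Fin n)) (Unit ⊕ (Fin n ⊕ Fin n)) F).det = 1 :=
      BnCn.det_of_mem_omega Q t htΩ
    have hteq : t = negO Q * Helper45.reflO Q w₀ hw₀ :=
      invol_cases Q h2 hoddι t w₀ hw₀ ht1 hdet htw htperp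
    have hspin : Helper45.spin ⇑Q 1 (negO Q * Helper45.reflO Q w₀ hw₀) = 1 := by
      rw [← hteq]
      exact BnCn.spin_of_mem_omega Q 1 t htΩ
    obtain ⟨hplus, hminus⟩ := spin_tW Q h2 S s hs hs2 hSs w₀ hw₀ hfix (Fintype.card F ^ n)
      hModd hlev
    refine ⟨hηeq, ?_⟩
    rcases hηk with ⟨hodd, hη⟩ | ⟨heven, hη⟩
    · exact Or.inr ⟨hodd, (hminus (hdvd_odd hη hηeq)).mp hspin⟩
    · exact Or.inl ⟨heven, (hplus (hdvd_even hη hηeq)).mp hspin⟩
  · rintro (hsmall | ⟨hηn, harith⟩)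
    · have h := om_two_mul_of_block h2 n (2 * ηk) (2 * n + 1 - 2 * ηk) s True (by omega)
        (by omega) hn hsodd (blk_prime p s hs hsp k ηk hk hηk)
      rw [← hQdef] at h
      exact h
    · obtain ⟨S, ψ, c, hc, hSs, hSmin, hSfix, hpol, hfr⟩ :=
        hstd (by omega) (blk_prime p s hs hsp k ηk hk hηk)
      obtain ⟨w₀, hw₀def⟩ : ∃ w₀, w₀ = ψ (Pi.single 0 1) := ⟨_, rfl⟩
      have hww : QuadraticMap.polar ⇑Q w₀ w₀ = c := by
        rw [hw₀def, hpol]
        simp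
      have hw₀ : Q w₀ ≠ 0 := by
        intro h
        rw [polar_self', h, mul_zero] at hww
        exact hc hww.symm
      have hSw : Helper45.mv ⇑Q S w₀ = w₀ := by
        rw [hw₀def]
        exact hSfix _
      have hfix : ∀ x, Helper45.mv ⇑Q S x = x ↔ ∃ a : F, x = a • w₀ := by
        intro x
        constructor
        · intro hx
          obtain ⟨y, hy⟩ := hfr trivial x hx
          refine ⟨y 0, ?_⟩
          rw [hy, hw₀def, ← map_smul]
          congr 1
          ext i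
          have hi : i = 0 := Subsingleton.elim _ _
          subst hi
          simp
        · rintro ⟨a, rfl⟩
          rw [Helper45.mv_smul, hSw]
      obtain ⟨hplus, hminus⟩ := spin_tW Q h2 S s hs hs2 hSs w₀ hw₀ hfix (Fintype.card F ^ n)
        hModd hlev
      obtain ⟨t, htdef⟩ : ∃ t, t = negO Q * Helper45.reflO Q w₀ hw₀ := ⟨_, rfl⟩
      have hspin : Helper45.spin ⇑Q 1 t = 1 := by
        rw [htdef]
        rcases harith with ⟨heven, h4⟩ | ⟨hodd, h4⟩
        · rcases hηk with ⟨hodd', -⟩ | ⟨-, hη⟩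
          · exact absurd heven (Nat.not_even_iff_odd.mpr hodd')
          · exact (hplus (hdvd_even hη hηn)).mpr h4
        · rcases hηk with ⟨-, hη⟩ | ⟨heven', -⟩
          · exact (hminus (hdvd_odd hη hηn)).mpr h4
          · exact absurd heven' (Nat.not_even_iff_odd.mpr hodd)
      have hdet : ((t : GL (Unit ⊕ (Fin n ⊕ Fin n)) F) :
          Matrix (Unit ⊕ (Fin n ⊕ Fin n)) (Unit ⊕ (Fin n ⊕ Fin n)) F).det = 1 := by
        rw [htdef]
        show (((negO Q : GL (Unit ⊕ (Fin n ⊕ Fin n)) F) *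
          (Helper45.reflO Q w₀ hw₀ : GL (Unit ⊕ (Fin n ⊕ Fin n)) F) :
          GL (Unit ⊕ (Fin n ⊕ Fin n)) F) :
          Matrix (Unit ⊕ (Fin n ⊕ Fin n)) (Unit ⊕ (Fin n ⊕ Fin n)) F).det = 1
        rw [Units.val_mul, Matrix.det_mul, det_negO, Helper45.reflO_coe,
          Helper13.reflection_det Q w₀ hw₀, hoddι.neg_one_pow]
        ring
      have htΩ : t ∈ Omega F ⇑Q := mem_omega_of_det_spin Q h2 hQnd hcardι t hdet hspin
      have ht2 : t * t = 1 := by
        rw [htdef]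
        apply Helper45.ext_mv Q
        intro x
        rw [Helper45.mv_mul, Helper45.mv_mul, Helper45.mv_mul, mv_negO, mv_negO, mv_neg',
          neg_neg, ← Helper45.mv_mul, Helper45.reflO_mul_self, Helper45.mv_one]
      have hSt : Commute S t := by
        show S * t = t * S
        rw [htdef, ← mul_assoc, comm_negO Q S, mul_assoc, comm_reflO Q S w₀ hw₀ hSw, ← mul_assoc]
      have ht1 : t ≠ 1 := by
        intro h
        have hall : ∀ x, Helper45.mv ⇑Q S x = x := by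
          intro x
          rw [hfix]
          have h3 : Helper45.mv ⇑Q t x = x := by rw [h, Helper45.mv_one]
          rw [htdef, Helper45.mv_mul, mv_negO, Helper45.mv_reflO] at h3
          obtain ⟨d, hd⟩ : ∃ d, d = (Q w₀)⁻¹ * QuadraticMap.polar ⇑Q w₀ x := ⟨_, rfl⟩
          rw [← hd] at h3
          have h4 : (2 : F) • x = d • w₀ := by
            rw [two_smul]
            calc x + x = -(x - d • w₀) + x := by rw [h3]
              _ = d • w₀ := by abel
          refine ⟨2⁻¹ * d, ?_⟩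
          rw [mul_smul, ← h4, smul_smul, inv_mul_cancel₀ h2, one_smul]
        have hS1 : S = 1 := by
          apply Helper45.ext_mv Q
          intro x
          rw [hall, Helper45.mv_one]
        have h5 := hSmin 1 (by rw [pow_one]; exact hS1)
        have h6 := Nat.le_of_dvd one_pos h5
        omega
      have hSΩ := mem_omega_of_odd Q h2 hQnd hcardι S s hsodd hSs
      exact ⟨S * t, Subgroup.mul_mem _ hSΩ htΩ, order_two_mul S t hSt s hsodd hSs hSmin ht2 ht1⟩

/-- **Prime graphs of `B_n(q)` and `C_n(q)`** (`q` odd, `n ≥ 3`): for distinct primes `r`, `s`,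
`Ω_{2n+1}(q)` has an element of order `r s` iff `PSp_{2n}(q)` has one. -/
theorem main (hodd : Odd (Fintype.card F)) (n : ℕ) (hn : 3 ≤ n) (r s : ℕ) (hr : r.Prime)
    (hs : s.Prime) (hrs : r ≠ s) :
    (r * s ∈ Set.range (orderOf : Cfsg.POmega F (Cfsg.quadFormOdd n F) → ℕ)) ↔
      (r * s ∈ Set.range (orderOf : Cfsg.PSp n F → ℕ)) := by
  classical
  obtain ⟨p, hchar⟩ := CharP.exists F
  haveI := hchar
  have hp : p.Prime := CharP.char_is_prime F p
  haveI : Fact p.Prime := ⟨hp⟩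
  have h2 : (2 : F) ≠ 0 := BnCn.two_ne_zero' hodd
  have hp2 : p ≠ 2 := by
    rintro rfl
    exact h2 (by exact_mod_cast CharP.cast_eq_zero F 2)
  rw [om_range_iff h2 n hn]
  have hη : ∀ k : ℕ, ∃ η, (Odd k ∧ η = k) ∨ (Even k ∧ 2 * η = k) := by
    intro k
    rcases Nat.even_or_odd k with h | h
    · obtain ⟨c, hc⟩ := h
      exact ⟨c, Or.inr ⟨⟨c, hc⟩, by omega⟩⟩
    · exact ⟨k, Or.inl ⟨h, rfl⟩⟩
  have c2p : (∃ g : ↥(isometryGroup F ⇑(Helper43.oddQF n F)),
      g ∈ Omega F ⇑(Helper43.oddQF n F) ∧ orderOf g = 2 * p) ↔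
      (2 * p ∈ Set.range (orderOf : Cfsg.PSp n F → ℕ)) :=
    ⟨fun _ => sp_2p p h2 n (by omega), fun _ => om_2p p h2 n (by omega)⟩
  have c2s : ∀ s : ℕ, s.Prime → s ≠ 2 → s ≠ p →
      ((∃ g : ↥(isometryGroup F ⇑(Helper43.oddQF n F)),
        g ∈ Omega F ⇑(Helper43.oddQF n F) ∧ orderOf g = 2 * s) ↔
      (2 * s ∈ Set.range (orderOf : Cfsg.PSp n F → ℕ))) := by
    intro s hs hs2 hsp
    obtain ⟨η, hη'⟩ := hη (orderOf ((Fintype.card F : ℕ) : ZMod s))
    exact (om_2s_iff p hodd h2 n (by omega) s hs hs2 hsp _ η rfl hη').trans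
      (sp_2s_iff p h2 n (by omega) s hs hs2 hsp _ η rfl hη').symm
  have crp : ∀ r : ℕ, r.Prime → r ≠ 2 → r ≠ p →
      ((∃ g : ↥(isometryGroup F ⇑(Helper43.oddQF n F)),
        g ∈ Omega F ⇑(Helper43.oddQF n F) ∧ orderOf g = r * p) ↔
      (r * p ∈ Set.range (orderOf : Cfsg.PSp n F → ℕ))) := by
    intro r hr hr2 hrp
    obtain ⟨η, hη'⟩ := hη (orderOf ((Fintype.card F : ℕ) : ZMod r))
    exact (om_rp_iff p h2 n (by omega) r hr hr2 hrp _ η rfl hη').trans
      (sp_rp_iff p n r hr hr2 hrp _ η rfl hη').symm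
  have crs : ∀ r s : ℕ, r.Prime → s.Prime → r ≠ 2 → s ≠ 2 → r ≠ p → s ≠ p → r ≠ s →
      ((∃ g : ↥(isometryGroup F ⇑(Helper43.oddQF n F)),
        g ∈ Omega F ⇑(Helper43.oddQF n F) ∧ orderOf g = r * s) ↔
      (r * s ∈ Set.range (orderOf : Cfsg.PSp n F → ℕ))) := by
    intro r s hr hs hr2 hs2 hrp hsp hrs
    obtain ⟨ηk, hηk⟩ := hη (orderOf ((Fintype.card F : ℕ) : ZMod r))
    obtain ⟨ηl, hηl⟩ := hη (orderOf ((Fintype.card F : ℕ) : ZMod s))
    rcases le_total ηk ηl with h | h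
    · exact (om_rs_iff p h2 n (by omega) r s hr hs hr2 hs2 hrp hsp hrs _ _ ηk ηl rfl rfl hηk hηl
        h).trans (sp_rs_iff p n r s hr hs hr2 hs2 hrp hsp hrs _ _ ηk ηl rfl rfl hηk hηl h).symm
    · rw [mul_comm r s]
      exact (om_rs_iff p h2 n (by omega) s r hs hr hs2 hr2 hsp hrp (Ne.symm hrs) _ _ ηl ηk rfl
        rfl hηl hηk h).trans
        (sp_rs_iff p n s r hs hr hs2 hr2 hsp hrp (Ne.symm hrs) _ _ ηl ηk rfl rfl hηl hηk h).symm
  by_cases hr2 : r = 2
  · rw [hr2]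
    by_cases hsp : s = p
    · rw [hsp]
      exact c2p
    · exact c2s s hs (fun h => hrs (hr2.trans h.symm)) hsp
  by_cases hs2 : s = 2
  · rw [hs2, mul_comm r 2]
    by_cases hrp : r = p
    · rw [hrp]
      exact c2p
    · exact c2s r hr hr2 hrp
  by_cases hrp : r = p
  · rw [hrp, mul_comm p s]
    exact crp s hs hs2 (fun h => hrs (hrp.trans h.symm))
  by_cases hsp : s = p
  · rw [hsp]
    exact crp r hr hr2 hrp
  exact crs r s hr hs hr2 hs2 hrp hsp hrs

end std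

end Cfsg.Agent.Helper42.BC
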