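import Mathlib
import Cfsg.Prelude.Def_OddOrderLocal
import Cfsg.Agent.Helper54.BG14T3

/-!
# CALL S1356 (helper99), piece KSIG: a Hall `κ(M)`-subgroup meets `M_σ` trivially.
-/

set_option autoImplicit false

namespace Cfsg.Agent.Helper42

open Cfsg Subgroup

universe u

variable {G : Type u} [Group G] [Finite G]

/-- KSIG [S]. `K ∩ M_σ = 1` for a Hall `κ(M)`-subgroup. -/
theorem bg56_K_inf_sigma {M K : Subgroup G} (hK : IsPiHallOf (kappa M) K M) :
    K ⊓ sigmaCore M = ⊥ := by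
  rw [Subgroup.eq_bot_iff_forall]
  intro x hx
  by_contra hx1
  have hox1 : orderOf x ≠ 1 := fun e => hx1 (orderOf_eq_one_iff.mp e)
  obtain ⟨q, hq, hqx⟩ := Nat.exists_prime_and_dvd hox1
  have hqK : q ∣ Nat.card K := by
    have h' := orderOf_dvd_natCard (⟨x, hx.1⟩ : K)
    rw [Subgroup.orderOf_mk] at h'
    exact hqx.trans h'
  have hκ : q ∈ kappa M := hK.2.1 q hq hqK
  exact hκ.2.2.1 (Cfsg.Agent.Helper54.bg14t_mem_sigma_of_dvd hx.2 hq hqx)

end Cfsg.Agent.Helper42
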