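import Mathlib
import Cfsg.Prelude.Def_OddOrderLocal

/-!
# CALL S1356 (helper99), piece T2K: `τ₂(M) ∩ κ(M) = ∅` (cyclic Sylow subgroups give `p`-rank
at most 1).
-/

set_option autoImplicit false

namespace Cfsg.Agent.Helper42

open Cfsg Subgroup

universe u

variable {G : Type u} [Group G] [Finite G]

/-- T2K [S]. `τ₂(M) ∩ κ(M) = ∅`. -/
theorem bg56_tau2_not_kappa {M : Subgroup G} {p : ℕ} (hp : p ∈ tau2 M) : p ∉ kappa M := by
  intro hκ
  apply hp.2.2.2
  haveI : Fact p.Prime := ⟨hp.1⟩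
  intro A hA hexp
  have hpA : IsPGroup p A := by
    intro a
    refine ⟨1, ?_⟩
    rw [pow_one]
    apply Subtype.ext
    rw [Subgroup.coe_pow]
    exact hexp a.1 a.2
  obtain ⟨P, hAP⟩ := hpA.exists_le_sylow
  haveI : IsCyclic ↥(P : Subgroup ↥M) := (hκ.2.2.2 P).1
  haveI : IsCyclic ↥A :=
    isCyclic_of_injective (Subgroup.inclusion hAP) (Subgroup.inclusion_injective hAP)
  rw [pow_one, ← IsCyclic.exponent_eq_card]
  apply Nat.le_of_dvd hp.1.pos
  apply Monoid.exponent_dvd_of_forall_pow_eq_one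
  intro a
  apply Subtype.ext
  rw [Subgroup.coe_pow]
  exact hexp a.1 a.2

end Cfsg.Agent.Helper42
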