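import Mathlib
import Cfsg.Prelude.Def_OddOrderLocal
import Cfsg.Agent.Helper23.Trans
import Cfsg.Agent.Helper23.FittingHall
import Cfsg.Agent.Helper22.BG10b
import Cfsg.Agent.S1403

/-!
# CALL BGC, piece FHb: a nilpotent `N_σ` lies in `N_F`
-/

set_option autoImplicit false

namespace Cfsg.Agent.Helper42

open Cfsg Subgroup

universe u

variable {G : Type u} [Group G] [Finite G]

/-- FHb. If `N_σ` is nilpotent it lies in `N_F` (it is a normal Hall subgroup of `N`). -/
theorem bgc_sigmaCore_le_fittingHall (hG : IsMinSimpleOddOrder G) {N : Subgroup G}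
    (hN : IsCoatom N) (hnil : Group.IsNilpotent ↥(sigmaCore N)) :
    sigmaCore N ≤ fittingHallOf N := by
  have hU : Cfsg.Agent.Helper22.BGUniq G :=
    fun K hK h1 h2 => Cfsg.Agent.S1403.result hG K hK h1 h2
  obtain ⟨hhall, -, -⟩ := Cfsg.Agent.Helper22.bg10_sigma_hall hG hU hN
  refine Cfsg.Agent.Helper23.le_fittingHallOf N (sigmaCore N) hhall.1
    (Cfsg.Agent.Helper23.le_normalizer_piCoreOf (sigma N) N) hnil ?_
  apply Nat.coprime_of_dvd
  intro p hp h1 h2
  exact hhall.2.2 p hp (hhall.2.1 p hp h1) h2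

end Cfsg.Agent.Helper42
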