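import Mathlib
import Cfsg.Prelude.Def_OddOrderLocal
import Cfsg.Agent.Helper23.Trans

/-!
# CALL BGC, piece OR: elements of `N_σ` have order prime to `|M_σ|` when `σ(M) ∩ σ(N) = ∅`
-/

set_option autoImplicit false

namespace Cfsg.Agent.Helper42

open Cfsg Subgroup

universe u

variable {G : Type u} [Group G] [Finite G]

/-- OR. Elements of `N_σ` have order prime to `|M_σ|` when `σ(M) ∩ σ(N) = ∅`. -/
theorem bgc_coprime_order {M N : Subgroup G} (h : ∀ q : ℕ, q ∈ sigma M → q ∉ sigma N) {r : G}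
    (hr : r ∈ sigmaCore N) : (orderOf r).Coprime (Nat.card ↥(sigmaCore M)) := by
  rw [Nat.coprime_iff_gcd_eq_one]
  by_contra hne
  obtain ⟨q, hq, hqd⟩ := Nat.exists_prime_and_dvd hne
  have h1 : q ∣ orderOf r := hqd.trans (Nat.gcd_dvd_left _ _)
  have h2 : q ∣ Nat.card ↥(sigmaCore M) := hqd.trans (Nat.gcd_dvd_right _ _)
  have h3 : q ∣ Nat.card ↥(sigmaCore N) := h1.trans (Subgroup.orderOf_dvd_natCard _ hr)
  have hM : q ∈ sigma M :=
    Cfsg.Agent.Helper23.mem_of_dvd_card_piCoreOf (sigma M) M hq h2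
  have hN : q ∈ sigma N :=
    Cfsg.Agent.Helper23.mem_of_dvd_card_piCoreOf (sigma N) N hq h3
  exact h q hM hN

end Cfsg.Agent.Helper42
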