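import Mathlib
import Cfsg.Prelude.Def_OddOrderLocal

/-!
# CALL BGC, piece SR: unfolding of `supportR`
-/

set_option autoImplicit false

namespace Cfsg.Agent.Helper42

open Cfsg Subgroup

universe u

variable {G : Type u} [Group G] [Finite G]

/-- SR (PURE, definitional unfolding of `supportR`). -/
theorem bgc_supportR_eq {M N : Subgroup G} {x : G} (hxM : ¬ centralizer ({x} : Set G) ≤ M)
    (hN : IsCoatom N) (hxN : centralizer ({x} : Set G) ≤ N)
    (huniq : ∀ L : Subgroup G, IsCoatom L → centralizer ({x} : Set G) ≤ L → L = N) :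
    supportR M x = fittingHallOf N ⊓ centralizer ({x} : Set G) := by
  have hex : ∃! L : Subgroup G, IsCoatom L ∧ Subgroup.centralizer ({x} : Set G) ≤ L :=
    ⟨N, ⟨hN, hxN⟩, fun L hL => huniq L hL.1 hL.2⟩
  have hcond : ¬ Subgroup.centralizer ({x} : Set G) ≤ M ∧
      ∃! L : Subgroup G, IsCoatom L ∧ Subgroup.centralizer ({x} : Set G) ≤ L := ⟨hxM, hex⟩
  unfold supportR
  rw [dif_pos hcond]
  have hspec := Classical.choose_spec hcond.2.exists
  rw [huniq _ hspec.1 hspec.2]

end Cfsg.Agent.Helper42
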