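import Mathlib
import Cfsg.Agent.Helper90.HTDefs
import Cfsg.Agent.Helper44.Unitary
import Cfsg.Agent.Helper34.HTHFIX
import Cfsg.Agent.Helper5.HTHGUORD

/-!
# CALL S5953 (helper90), piece FPF: no fixed vectors
-/

set_option autoImplicit false

namespace Cfsg.Agent.Helper42.HT5953

open Module Polynomial Cfsg.Agent.Helper90.HT

section models

variable {F : Type*} [Field F] [Fintype F] (q : ℕ) (hq : Fintype.card F = q ^ 2)

include hq

theorem fpf_cast_ne_zero (r : ℕ) [Fact r.Prime] (hrq : ¬ r ∣ q) : (r : F) ≠ 0 := by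
  intro hr0
  obtain ⟨p, hp⟩ := CharP.exists F
  haveI := hp
  have hpp : p.Prime := by
    rcases CharP.char_is_prime_or_zero F p with h | h
    · exact h
    · exfalso
      haveI : CharP F 0 := h ▸ hp
      haveI : CharZero F := CharP.charP_to_charZero F
      exact not_finite F
  have h1 : p ∣ r := (CharP.cast_eq_zero_iff F p r).mp hr0
  have h2 : p = r := (Nat.prime_dvd_prime_iff_eq hpp (Fact.out : r.Prime)).mp h1
  have h3 : ((Fintype.card F : ℕ) : F) = 0 := FiniteField.cast_card_eq_zero F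
  rw [hq] at h3
  have h4 : p ∣ q ^ 2 := (CharP.cast_eq_zero_iff F p (q ^ 2)).mp h3
  have h5 : p ∣ q := hpp.dvd_of_dvd_pow h4
  rw [h2] at h5
  exact hrq h5

/-- FPF (uses HFIX, HGUORD on the range of `T - 1`): no fixed vectors. -/
theorem ht_fpf (c : ℕ) (hc2 : 2 ≤ c) (r : ℕ) [Fact r.Prime] (hr2 : 2 < r) (hrq : ¬ r ∣ q)
    (hcmin : ∀ j, 1 ≤ j → j < c → ¬ r ∣ (if Even j then q ^ j - 1 else q ^ j + 1))
    (g : Matrix.SpecialLinearGroup (Fin c) F) (hg : g ∈ Cfsg.SU c F q) (hgr : g ^ r = 1)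
    (hg1 : g ≠ 1) :
    LinearMap.ker (Matrix.toLin' (g : Matrix (Fin c) (Fin c) F) - 1) = ⊥ := by
  classical
  obtain ⟨σ, hσ⟩ := Cfsg.Agent.Helper44.exists_conj hq
  have hh : IsHerm σ (Cfsg.hermForm c F q) := isHerm_hermForm hq σ hσ c
  have hnd : ∀ v, (∀ w, Cfsg.hermForm c F q v w = 0) → v = 0 := hermForm_nondeg hq c
  obtain ⟨T, hTdef⟩ : ∃ T : Module.End F (Fin c → F),
      T = Matrix.toLin' (g : Matrix (Fin c) (Fin c) F) := ⟨_, rfl⟩
  rw [← hTdef]
  have hT : HPres (Cfsg.hermForm c F q) T := by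
    rw [hTdef]
    exact hpres_of_mem_SU c g hg
  have hTr : T ^ r = 1 := by
    have h1 : T ^ r = Matrix.toLin' ((g : Matrix (Fin c) (Fin c) F) ^ r) := by
      rw [hTdef]
      exact (map_pow Matrix.toLinAlgEquiv' (g : Matrix (Fin c) (Fin c) F) r).symm
    rw [h1, ← Matrix.SpecialLinearGroup.coe_pow, hgr, Matrix.SpecialLinearGroup.coe_one,
      Matrix.toLin'_one]
    rfl
  have hrF : (r : F) ≠ 0 := fpf_cast_ne_zero q hq r hrq
  obtain ⟨hDT, hcompl, -, -, -, hDnd⟩ :=
    Cfsg.Agent.Helper34.HT5953.ht_fix σ (Cfsg.hermForm c F q) hh hnd T hT r hrF hTr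
  obtain ⟨D, hD⟩ : ∃ D : Submodule F (Fin c → F), D = LinearMap.range (T - 1) := ⟨_, rfl⟩
  rw [← hD] at hDT hcompl hDnd
  have hDT' : ∀ x ∈ D, T x ∈ D := fun x hx => hDT (Submodule.mem_map_of_mem hx)
  have hmemk : ∀ u, u ∈ LinearMap.ker (T - 1) ↔ T u = u := by
    intro u
    rw [LinearMap.mem_ker, LinearMap.sub_apply, Module.End.one_apply, sub_eq_zero]
  have hD0 : D ≠ ⊥ := by
    intro h0
    apply hg1
    have h1 : T - 1 = 0 := by
      rw [← LinearMap.range_eq_bot, ← hD, h0]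
    have h2 : T = 1 := sub_eq_zero.mp h1
    apply Subtype.ext
    rw [Matrix.SpecialLinearGroup.coe_one]
    apply Matrix.toLin'.injective
    rw [← hTdef, h2, Matrix.toLin'_one]
    rfl
  -- the restriction of `T` to `D`
  have hT'r : (T.restrict hDT') ^ r = 1 := by
    rw [Module.End.pow_restrict r hDT']
    apply LinearMap.ext
    intro x
    apply Subtype.ext
    rw [LinearMap.coe_restrict_apply, hTr]
    rfl
  have hT'1 : T.restrict hDT' ≠ 1 := by
    intro h1
    apply hD0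
    rw [eq_bot_iff]
    intro d hd
    have h2 : T d = d := by
      have h3 := congrArg (fun f : Module.End F D => ((f ⟨d, hd⟩ : D) : Fin c → F)) h1
      exact h3
    have h4 : d ∈ LinearMap.ker (T - 1) ⊓ D := ⟨(hmemk d).mpr h2, hd⟩
    rw [hcompl.inf_eq_bot] at h4
    exact h4
  have hnd' : ∀ v : D, (∀ w : D, Cfsg.hermForm c F q (v : Fin c → F) (w : Fin c → F) = 0) →
      v = 0 := fun v hv => Subtype.ext (hDnd v.1 v.2 (fun w hw => hv ⟨w, hw⟩))
  have hT' : HPres (fun u v : D => Cfsg.hermForm c F q (u : Fin c → F) (v : Fin c → F))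
      (T.restrict hDT') := by
    intro u v
    exact hT u v
  obtain ⟨j, hj1, hjD, hjr⟩ := Cfsg.Agent.Helper5.HT5953.ht_guord σ
    (fun u v : D => Cfsg.hermForm c F q (u : Fin c → F) (v : Fin c → F)) q hq hσ
    (hh.restrict D) hnd' (T.restrict hDT') hT' r hrq hT'r hT'1
  have hjc : c ≤ j := by
    by_contra hlt
    exact hcmin j hj1 (by omega) hjr
  have hfV : finrank F (Fin c → F) = c := by
    rw [Module.finrank_fintype_fun_eq_card, Fintype.card_fin]
  have hfD : finrank F D = finrank F (Fin c → F) := by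
    have := Submodule.finrank_le D
    omega
  have hDtop : D = ⊤ := Submodule.eq_top_of_finrank_eq hfD
  have h5 := hcompl.inf_eq_bot
  rw [hDtop, inf_top_eq] at h5
  exact h5

end models

end Cfsg.Agent.Helper42.HT5953
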