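import Mathlib
import Cfsg.Prelude.Def_Classical

/-!
# CALL S5953 (helper90): the type `HFam` of the skeleton (linearly independent totally isotropic
`m`-families of the standard Hermitian space), copied verbatim so that pieces CNTA / CNTB can
state their theorems.
-/

set_option autoImplicit false

namespace Cfsg.Agent.Helper42.HT5953

/-- Linearly independent totally isotropic `m`-families of the standard Hermitian space. -/
def HFam (F : Type*) [Field F] (n q m : ℕ) : Type _ :=
  {v : Fin m → (Fin n → F) // LinearIndependent F v ∧
    ∀ a b, Cfsg.hermForm n F q (v a) (v b) = 0}

end Cfsg.Agent.Helper42.HT5953
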