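import Mathlib
import Cfsg.Agent.Helper42.ProjOrd

set_option autoImplicit false

/-!
# Singer fields and endomorphisms with irreducible minimal polynomial (helper42)

* `exists_equiv_of_irreducible_minpoly` : an endomorphism `S` of `F^n` (`F` finite) with irreducible
  minimal polynomial is, up to an `F`-linear identification `K ≃ F^n` with the degree `n` extension
  `K` of `F`, the multiplication by an element `k ∈ K`.
-/

namespace Cfsg.Agent.Helper42.Singer

open Polynomial

variable {F : Type*} [Field F] [Finite F] {n : ℕ}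

theorem exists_equiv_of_irreducible_minpoly (p : ℕ) [Fact p.Prime] [CharP F p] [NeZero n]
    (S : Module.End F (Fin n → F)) (hS : Irreducible (minpoly F S)) :
    ∃ (k : FiniteField.Extension F p n) (Φ : FiniteField.Extension F p n ≃ₗ[F] (Fin n → F)),
      ∀ y, Φ (k * y) = S (Φ y) := by
  classical
  obtain ⟨f, hf⟩ : ∃ f, f = minpoly F S := ⟨_, rfl⟩
  rw [← hf] at hS
  haveI : Fact (Irreducible f) := ⟨hS⟩
  have htors : Module.IsTorsionBySet F[X] (Module.AEval' S) (Ideal.span {f}) := by
    rw [Module.isTorsionBySet_span_singleton_iff]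
    intro m
    obtain ⟨v, rfl⟩ := (Module.AEval'.of S).surjective m
    rw [← Module.AEval.of_aeval_smul, hf, minpoly.aeval, zero_smul, map_zero]
  letI instM : Module (AdjoinRoot f) (Module.AEval' S) := htors.module
  haveI : IsScalarTower F (AdjoinRoot f) (Module.AEval' S) := htors.isScalarTower
  have hfinE : Module.finrank F (AdjoinRoot f) = f.natDegree := finrank_quotient_span_eq_natDegree
  have hfinM : Module.finrank F (Module.AEval' S) = n := by
    rw [← (Module.AEval'.of S).finrank_eq]
    simp
  have hdpos : 0 < f.natDegree := hS.natDegree_pos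
  have htower := Module.finrank_mul_finrank F (AdjoinRoot f) (Module.AEval' S)
  have hdvd : f.natDegree ∣ n := ⟨Module.finrank (AdjoinRoot f) (Module.AEval' S), by
    calc n = Module.finrank F (Module.AEval' S) := hfinM.symm
      _ = Module.finrank F (AdjoinRoot f) * Module.finrank (AdjoinRoot f) (Module.AEval' S) :=
        htower.symm
      _ = f.natDegree * Module.finrank (AdjoinRoot f) (Module.AEval' S) := by rw [hfinE]⟩
  have hsplit : f ∣ X ^ (Nat.card F) ^ n - X :=
    hS.natDegree_dvd_iff_dvd_X_pow_card_pow_sub_X.mp hdvd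
  have hne : (X ^ (Nat.card F) ^ n - X : F[X]) ≠ 0 :=
    FiniteField.X_pow_card_pow_sub_X_ne_zero F (NeZero.ne n) Finite.one_lt_card
  have hsp : (f.map (algebraMap F (FiniteField.Extension F p n))).Splits :=
    Splits.of_dvd (IsSplittingField.splits (FiniteField.Extension F p n) (X ^ (Nat.card F) ^ n - X))
      (Polynomial.map_ne_zero hne) (Polynomial.map_dvd _ hsplit)
  obtain ⟨k, hk⟩ := hsp.exists_eval_eq_zero (by
    rw [degree_map]
    exact (degree_pos_of_irreducible hS).ne')
  have hk' : f.eval₂ (Algebra.ofId F (FiniteField.Extension F p n)) k = 0 := by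
    rw [← hk, eval_map]
    rfl
  let ι : AdjoinRoot f →ₐ[F] FiniteField.Extension F p n :=
    AdjoinRoot.liftAlgHom f (Algebra.ofId F (FiniteField.Extension F p n)) k hk'
  letI instK : Algebra (AdjoinRoot f) (FiniteField.Extension F p n) := ι.toRingHom.toAlgebra
  haveI : IsScalarTower F (AdjoinRoot f) (FiniteField.Extension F p n) :=
    IsScalarTower.of_algebraMap_eq (fun c => (ι.commutes c).symm)
  have htowerK := Module.finrank_mul_finrank F (AdjoinRoot f) (FiniteField.Extension F p n)
  have hfinK : Module.finrank F (FiniteField.Extension F p n) = n :=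
    FiniteField.finrank_extension F p n
  have heq : Module.finrank (AdjoinRoot f) (FiniteField.Extension F p n)
      = Module.finrank (AdjoinRoot f) (Module.AEval' S) := by
    have h1 : Module.finrank F (AdjoinRoot f) * Module.finrank (AdjoinRoot f) (FiniteField.Extension F p n)
        = Module.finrank F (AdjoinRoot f) * Module.finrank (AdjoinRoot f) (Module.AEval' S) := by
      rw [htowerK, htower, hfinK, hfinM]
    exact Nat.eq_of_mul_eq_mul_left (by rw [hfinE]; exact hdpos) h1
  haveI : Finite (Module.AEval' S) := Finite.of_equiv _ (Module.AEval'.of S).toEquiv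
  haveI : Module.Finite (AdjoinRoot f) (Module.AEval' S) := Module.Finite.of_finite
  haveI : Module.Finite (AdjoinRoot f) (FiniteField.Extension F p n) := Module.Finite.of_finite
  let ΦE : FiniteField.Extension F p n ≃ₗ[AdjoinRoot f] Module.AEval' S :=
    LinearEquiv.ofFinrankEq _ _ heq
  let Φ : FiniteField.Extension F p n ≃ₗ[F] (Fin n → F) :=
    (ΦE.restrictScalars F).trans (Module.AEval'.of S).symm
  refine ⟨k, Φ, fun y => ?_⟩
  have h1 : k * y = (AdjoinRoot.root f) • y := by
    rw [Algebra.smul_def]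
    congr 1
    exact (AdjoinRoot.liftAlgHom_root f _ k hk').symm
  have h2 : ΦE ((AdjoinRoot.root f) • y) = (AdjoinRoot.root f) • ΦE y := map_smul _ _ _
  have h3 : ∀ m : Module.AEval' S, (AdjoinRoot.root f) • m = (X : F[X]) • m := fun m => rfl
  show (Module.AEval'.of S).symm (ΦE (k * y)) = S ((Module.AEval'.of S).symm (ΦE y))
  rw [h1, h2, h3, Module.AEval'.of_symm_X_smul]

omit [Finite F] in
/-- Powers of an endomorphism which is "multiplication by `k`" in a coordinate system. -/
theorem pow_eq_smul_one_iff {K : Type*} [Field K] [Algebra F K]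
    (Φ : K ≃ₗ[F] (Fin n → F)) (k : K) (T : Module.End F (Fin n → F))
    (h : ∀ y, Φ (k * y) = T (Φ y)) (i : ℕ) (c : F) :
    T ^ i = c • (1 : Module.End F (Fin n → F)) ↔ k ^ i = algebraMap F K c := by
  have hpow : ∀ (i : ℕ) (y : K), (T ^ i) (Φ y) = Φ (k ^ i * y) := by
    intro i
    induction i with
    | zero => intro y; simp
    | succ i ih =>
      intro y
      rw [pow_succ, Module.End.mul_apply, ← h, ih, pow_succ, mul_assoc]
  constructor
  · intro hT
    have h1 := hpow i 1
    rw [hT, LinearMap.smul_apply, Module.End.one_apply, mul_one, ← map_smul] at h1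
    rw [← Φ.injective h1, Algebra.algebraMap_eq_smul_one]
  · intro hk
    apply LinearMap.ext
    intro v
    have h1 := hpow i (Φ.symm v)
    rw [Φ.apply_symm_apply, hk, ← Algebra.smul_def, map_smul, Φ.apply_symm_apply] at h1
    rw [h1, LinearMap.smul_apply, Module.End.one_apply]

omit [Finite F] in
theorem det_eq_norm {K : Type*} [Field K] [Algebra F K]
    (Φ : K ≃ₗ[F] (Fin n → F)) (k : K) (T : Module.End F (Fin n → F))
    (h : ∀ y, Φ (k * y) = T (Φ y)) : LinearMap.det T = Algebra.norm F k := by
  have hT : T = Φ.toLinearMap ∘ₗ (LinearMap.mul F K k) ∘ₗ Φ.symm.toLinearMap := by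
    apply LinearMap.ext
    intro v
    have := h (Φ.symm v)
    rw [Φ.apply_symm_apply] at this
    simp [← this]
  rw [hT, LinearMap.det_conj, Algebra.norm_apply]
  rfl

/-- There is an element `g*` of `SL_n(F)` whose projective order is a multiple of the projective
order of every element with irreducible minimal polynomial. -/
theorem exists_singer_bound (p : ℕ) [Fact p.Prime] [CharP F p] [NeZero n] :
    ∃ gstar : Matrix.SpecialLinearGroup (Fin n) F, ∀ s : Matrix.SpecialLinearGroup (Fin n) F,
      Irreducible (minpoly F (ProjOrd.toEnd s)) →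
      orderOf (QuotientGroup.mk s : Matrix.ProjectiveSpecialLinearGroup (Fin n) F) ∣
        orderOf (QuotientGroup.mk gstar : Matrix.ProjectiveSpecialLinearGroup (Fin n) F) := by
  classical
  have hrank : Module.finrank F (FiniteField.Extension F p n) = Module.finrank F (Fin n → F) := by
    rw [FiniteField.finrank_extension, Module.finrank_fin_fun]
  let Φ₀ : FiniteField.Extension F p n ≃ₗ[F] (Fin n → F) := LinearEquiv.ofFinrankEq _ _ hrank
  let N : (FiniteField.Extension F p n)ˣ →* Fˣ := Units.map (Algebra.norm F)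
  obtain ⟨γ, hγ⟩ := IsCyclic.exists_generator (α := N.ker)
  let T₀ : Module.End F (Fin n → F) :=
    Φ₀.toLinearMap ∘ₗ (LinearMap.mul F (FiniteField.Extension F p n) ((γ : (FiniteField.Extension F p n)ˣ) : FiniteField.Extension F p n)) ∘ₗ Φ₀.symm.toLinearMap
  have hT₀ : ∀ y, Φ₀ (((γ : (FiniteField.Extension F p n)ˣ) : FiniteField.Extension F p n) * y) = T₀ (Φ₀ y) := by
    intro y
    simp [T₀]
  have hγN : Algebra.norm F ((γ : (FiniteField.Extension F p n)ˣ) : FiniteField.Extension F p n) = 1 := by
    have := γ.2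
    rw [MonoidHom.mem_ker] at this
    have h2 := congrArg Units.val this
    simpa [N] using h2
  have hdet₀ : LinearMap.det T₀ = 1 := by
    rw [det_eq_norm Φ₀ _ T₀ hT₀, hγN]
  refine ⟨ProjOrd.ofEnd T₀ hdet₀, fun s hs => ?_⟩
  obtain ⟨k, Φ, hΦ⟩ := exists_equiv_of_irreducible_minpoly p (ProjOrd.toEnd s) hs
  have hkN : Algebra.norm F k = 1 := by
    rw [← det_eq_norm Φ k _ hΦ, ProjOrd.det_toEnd]
  have hk0 : k ≠ 0 := by
    rintro rfl
    rw [Algebra.norm_zero] at hkN
    exact zero_ne_one hkN
  have hmem : Units.mk0 k hk0 ∈ N.ker := by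
    rw [MonoidHom.mem_ker]
    apply Units.ext
    simpa [N] using hkN
  obtain ⟨j, hj⟩ := Subgroup.mem_zpowers_iff.mp (hγ ⟨Units.mk0 k hk0, hmem⟩)
  have hj' : (((γ : (FiniteField.Extension F p n)ˣ) : FiniteField.Extension F p n)) ^ j = k := by
    have h1 := congrArg (fun x : N.ker => ((x : (FiniteField.Extension F p n)ˣ) : FiniteField.Extension F p n)) hj
    simpa using h1
  apply orderOf_dvd_of_pow_eq_one
  have h1 := pow_orderOf_eq_one
    (QuotientGroup.mk (ProjOrd.ofEnd T₀ hdet₀) : Matrix.ProjectiveSpecialLinearGroup (Fin n) F)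
  rw [ProjOrd.mk_pow_eq_one_iff, ProjOrd.toEnd_ofEnd] at h1
  obtain ⟨c, hc⟩ := h1
  rw [pow_eq_smul_one_iff Φ₀ _ T₀ hT₀] at hc
  rw [ProjOrd.mk_pow_eq_one_iff]
  refine ⟨c ^ j, ?_⟩
  rw [pow_eq_smul_one_iff Φ k _ hΦ, ← hj', ← zpow_natCast, ← zpow_mul, mul_comm, zpow_mul,
    zpow_natCast, hc, map_zpow₀]

end Cfsg.Agent.Helper42.Singer
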