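import Mathlib
import Cfsg.Agent.Helper42.ProjOrd
import Cfsg.Agent.Helper42.Singer

set_option autoImplicit false

/-!
# Covering element orders of `PSL_n(F)` (helper42)

Tools for the spectrum of direct powers of `PSL_n(q)`:

* `irreducible_minpoly_of_not_decomposable` : the `p'`-part of an indecomposable element has
  irreducible minimal polynomial;
* `coordDecomp` : the coordinate decomposition `F^(m+1) = F^m ⊕ F`;
* `shiftEnd`, `exists_unipotent` : a decomposable unipotent element with large order;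
* `pow_lt_of_orderOf` : a `p`-element of order `p^e` in `SL_n(F)` has `p^(e-1) < n`.
-/

namespace Cfsg.Agent.Helper42.SpecPSL

open Polynomial ProjOrd

variable {F : Type*} [Field F] {n : ℕ}

theorem commute_aeval {A : Type*} [Ring A] [Algebra F A] (T S : A) (h : Commute T S) (a : F[X]) :
    Commute T (aeval S a) := by
  induction a using Polynomial.induction_on' with
  | add p q hp hq =>
    rw [map_add]
    exact hp.add_right hq
  | monomial k c =>
    rw [aeval_monomial]
    exact (Algebra.commute_algebraMap_right c T).mul_right (h.pow_right k)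

/-- The `p'`-part of an indecomposable element of `SL_n(F)` has irreducible minimal polynomial. -/
theorem irreducible_minpoly_of_not_decomposable [Fintype F] (p : ℕ) [Fact p.Prime] [CharP F p]
    (hn : 0 < n) (g : Matrix.SpecialLinearGroup (Fin n) F) (hnd : ¬ Decomposable (toEnd g)) :
    Irreducible (minpoly F (toEnd (g ^ (ordProj[p] (orderOf
      (QuotientGroup.mk g : Matrix.ProjectiveSpecialLinearGroup (Fin n) F)))))) := by
  classical
  have hp : p.Prime := Fact.out
  haveI hne : Nonempty (Fin n) := ⟨⟨0, hn⟩⟩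
  obtain ⟨a, ha⟩ : ∃ a, a = orderOf
      (QuotientGroup.mk g : Matrix.ProjectiveSpecialLinearGroup (Fin n) F) := ⟨_, rfl⟩
  rw [← ha]
  have ha0 : a ≠ 0 := by rw [ha]; exact (orderOf_pos _).ne'
  obtain ⟨s, hs⟩ : ∃ s, s = g ^ (ordProj[p] a) := ⟨_, rfl⟩
  rw [← hs]
  have hsC : (QuotientGroup.mk s : Matrix.ProjectiveSpecialLinearGroup (Fin n) F) ^ (ordCompl[p] a)
      = 1 := by
    rw [hs, QuotientGroup.mk_pow, ← pow_mul, Nat.ordProj_mul_ordCompl_eq_self, ha, pow_orderOf_eq_one]
  obtain ⟨c, hc⟩ := (mk_pow_eq_one_iff s _).mp hsC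
  have hc0 : c ≠ 0 := by
    rintro rfl
    have h1 : LinearMap.det (toEnd s ^ (ordCompl[p] a)) = 1 := by
      rw [map_pow, det_toEnd, one_pow]
    rw [hc, zero_smul] at h1
    rw [LinearMap.det_zero' (Pi.basisFun F (Fin n))] at h1
    exact zero_ne_one h1
  have hCF : ((ordCompl[p] a : ℕ) : F) ≠ 0 := by
    rw [Ne, CharP.cast_eq_zero_iff F p]
    exact Nat.not_dvd_ordCompl hp ha0
  have hsep : (X ^ (ordCompl[p] a) - C c : F[X]).Separable := separable_X_pow_sub_C c hCF hc0
  have haeval : aeval (toEnd s) (X ^ (ordCompl[p] a) - C c : F[X]) = 0 := by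
    rw [map_sub, map_pow, aeval_X, aeval_C, hc, Algebra.algebraMap_eq_smul_one, sub_self]
  have hμsep : (minpoly F (toEnd s)).Separable := hsep.of_dvd (minpoly.dvd F _ haeval)
  have hTS : Commute (toEnd g) (toEnd s) := by
    rw [hs, toEnd_pow]
    exact (Commute.refl _).pow_right _
  rw [irreducible_iff]
  refine ⟨minpoly.not_isUnit F _, fun a' b' hab => ?_⟩
  by_contra hcon
  push Not at hcon
  have hcop : IsCoprime a' b' := (hab ▸ hμsep).isCoprime
  have hμ0 : a' * b' ≠ 0 := by
    rw [← hab]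
    exact minpoly.ne_zero (Algebra.IsIntegral.isIntegral _)
  have ha'0 : a' ≠ 0 := left_ne_zero_of_mul hμ0
  have hb'0 : b' ≠ 0 := right_ne_zero_of_mul hμ0
  have hmul0 : aeval (toEnd s) a' * aeval (toEnd s) b' = 0 := by
    rw [← map_mul, ← hab, minpoly.aeval]
  have hmul0' : aeval (toEnd s) b' * aeval (toEnd s) a' = 0 := by
    rw [← map_mul, mul_comm, ← hab, minpoly.aeval]
  have hinv : ∀ q : F[X], LinearMap.ker (aeval (toEnd s) q) ∈ Module.End.invtSubmodule (toEnd g) := by
    intro q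
    rw [Module.End.mem_invtSubmodule]
    intro v hv
    rw [Submodule.mem_comap, LinearMap.mem_ker] at *
    have := (commute_aeval (toEnd g) (toEnd s) hTS q).eq
    have h2 := congrArg (fun f => f v) this
    simp only [Module.End.mul_apply] at h2
    rw [← h2, hv, map_zero]
  apply hnd
  refine ⟨LinearMap.ker (aeval (toEnd s) a'), LinearMap.ker (aeval (toEnd s) b'),
    ⟨disjoint_ker_aeval_of_isCoprime (toEnd s) hcop, ?_⟩, ?_, ?_, hinv a', hinv b'⟩
  · rw [codisjoint_iff, sup_ker_aeval_eq_ker_aeval_mul_of_coprime (toEnd s) hcop, ← hab,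
      minpoly.aeval, LinearMap.ker_zero]
  · intro hbot
    have hinj : Function.Injective (aeval (toEnd s) a') := LinearMap.ker_eq_bot.mp hbot
    have hb0 : aeval (toEnd s) b' = 0 := by
      apply LinearMap.ext
      intro v
      apply hinj
      rw [← Module.End.mul_apply, hmul0]
      simp
    have h3 := minpoly.dvd F _ hb0
    rw [hab] at h3
    have h4 : a' * b' ∣ 1 * b' := by rwa [one_mul]
    exact hcon.1 (isUnit_of_dvd_one ((mul_dvd_mul_iff_right hb'0).mp h4))
  · intro hbot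
    have hinj : Function.Injective (aeval (toEnd s) b') := LinearMap.ker_eq_bot.mp hbot
    have ha0' : aeval (toEnd s) a' = 0 := by
      apply LinearMap.ext
      intro v
      apply hinj
      rw [← Module.End.mul_apply, hmul0']
      simp
    have h3 := minpoly.dvd F _ ha0'
    rw [hab] at h3
    have h4 : a' * b' ∣ a' * 1 := by rwa [mul_one]
    exact hcon.2 (isUnit_of_dvd_one ((mul_dvd_mul_iff_left ha'0).mp h4))

section coord

variable (F) (m : ℕ)

/-- Vectors with vanishing last coordinate. -/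
def coordV₁ : Submodule F (Fin (m + 1) → F) where
  carrier := {v | v (Fin.last m) = 0}
  add_mem' := by
    intro a b ha hb
    simp only [Set.mem_ofPred_eq, Pi.add_apply] at *
    rw [ha, hb, add_zero]
  zero_mem' := rfl
  smul_mem' := by
    intro c v hv
    simp only [Set.mem_ofPred_eq, Pi.smul_apply] at *
    rw [hv, smul_zero]

/-- Vectors supported on the last coordinate. -/
def coordV₂ : Submodule F (Fin (m + 1) → F) where
  carrier := {v | ∀ i, i ≠ Fin.last m → v i = 0}
  add_mem' := by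
    intro a b ha hb i hi
    simp only [Pi.add_apply]
    rw [ha i hi, hb i hi, add_zero]
  zero_mem' := fun _ _ => rfl
  smul_mem' := by
    intro c v hv i hi
    simp only [Pi.smul_apply]
    rw [hv i hi, smul_zero]

theorem mem_coordV₁ (v : Fin (m + 1) → F) : v ∈ coordV₁ F m ↔ v (Fin.last m) = 0 := Iff.rfl

theorem mem_coordV₂ (v : Fin (m + 1) → F) :
    v ∈ coordV₂ F m ↔ ∀ i, i ≠ Fin.last m → v i = 0 := Iff.rfl

theorem coord_isCompl : IsCompl (coordV₁ F m) (coordV₂ F m) := by
  constructor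
  · rw [Submodule.disjoint_def]
    intro v h1 h2
    funext i
    by_cases hi : i = Fin.last m
    · rw [hi]
      exact h1
    · exact h2 i hi
  · rw [codisjoint_iff, Submodule.eq_top_iff']
    intro v
    rw [Submodule.mem_sup]
    refine ⟨v - Pi.single (Fin.last m) (v (Fin.last m)), ?_, Pi.single (Fin.last m) (v (Fin.last m)),
      ?_, by simp⟩
    · rw [mem_coordV₁]
      simp
    · rw [mem_coordV₂]
      intro i hi
      simp [Pi.single_apply, hi]

theorem coordV₁_ne_bot (hm : 1 ≤ m) : coordV₁ F m ≠ ⊥ := by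
  intro h
  have h1 : (Pi.single (0 : Fin (m + 1)) (1 : F)) ∈ coordV₁ F m := by
    rw [mem_coordV₁]
    have : (Fin.last m) ≠ (0 : Fin (m + 1)) := by
      intro h0
      have := congrArg Fin.val h0
      simp at this
      omega
    simp [Pi.single_apply, this]
  rw [h, Submodule.mem_bot] at h1
  have := congrFun h1 0
  simp at this

theorem coordV₂_ne_bot : coordV₂ F m ≠ ⊥ := by
  intro h
  have h1 : (Pi.single (Fin.last m) (1 : F)) ∈ coordV₂ F m := by
    rw [mem_coordV₂]
    intro i hi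
    simp [Pi.single_apply, hi]
  rw [h, Submodule.mem_bot] at h1
  have := congrFun h1 (Fin.last m)
  simp at this

/-- The identity is decomposable in dimension at least two. -/
theorem decomposable_one (hm : 1 ≤ m) : Decomposable (1 : Module.End F (Fin (m + 1) → F)) :=
  ⟨coordV₁ F m, coordV₂ F m, coord_isCompl F m, coordV₁_ne_bot F m hm, coordV₂_ne_bot F m,
    by rw [Module.End.mem_invtSubmodule]; intro v hv; exact hv,
    by rw [Module.End.mem_invtSubmodule]; intro v hv; exact hv⟩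

/-- The shift `e_{j} ↦ e_{j-1}` for `1 ≤ j < m`, killing `e_0` and `e_m`. -/
def shiftEnd : Module.End F (Fin (m + 1) → F) where
  toFun v := fun i => if h : i.val + 1 < m then v ⟨i.val + 1, by omega⟩ else 0
  map_add' v w := by
    funext i
    simp only [Pi.add_apply]
    split_ifs <;> simp
  map_smul' c v := by
    funext i
    simp only [Pi.smul_apply, RingHom.id_apply]
    split_ifs <;> simp

theorem shiftEnd_apply (v : Fin (m + 1) → F) (i : Fin (m + 1)) :
    shiftEnd F m v i = if h : i.val + 1 < m then v ⟨i.val + 1, by omega⟩ else 0 := rfl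

theorem shiftEnd_pow_apply (k : ℕ) : ∀ (v : Fin (m + 1) → F) (i j : Fin (m + 1)),
    j.val = i.val + k → j.val < m → ((shiftEnd F m) ^ k) v i = v j := by
  induction k with
  | zero =>
    intro v i j hj _
    have : j = i := Fin.ext (by omega)
    rw [this, pow_zero, Module.End.one_apply]
  | succ k ih =>
    intro v i j hj hjm
    rw [pow_succ, Module.End.mul_apply, ih (shiftEnd F m v) i ⟨i.val + k, by omega⟩ rfl
      (by simp only; omega), shiftEnd_apply, dif_pos (by simp only; omega)]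
    congr 1
    exact Fin.ext (by simp only; omega)

theorem shiftEnd_pow_eq_zero (k : ℕ) (hk : m ≤ k) (hk0 : 0 < k) : (shiftEnd F m) ^ k = 0 := by
  have key : ∀ (k : ℕ) (v : Fin (m + 1) → F) (i : Fin (m + 1)), m ≤ i.val + k → 0 < k →
      ((shiftEnd F m) ^ k) v i = 0 := by
    intro k
    induction k with
    | zero => intro v i _ h0; omega
    | succ k ih =>
      intro v i hik _
      rw [pow_succ', Module.End.mul_apply, shiftEnd_apply]
      split_ifs with h
      · rcases Nat.eq_zero_or_pos k with rfl | hkpos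
        · omega
        · exact ih v _ (by simp only; omega) hkpos
      · rfl
  apply LinearMap.ext
  intro v
  funext i
  rw [key k v i (by omega) hk0]
  rfl

end coord

section unip

theorem charP_end (p : ℕ) [CharP F p] (hn : 0 < n) : CharP (Module.End F (Fin n → F)) p := by
  have hinj : Function.Injective (algebraMap F (Module.End F (Fin n → F))) := by
    intro c c' h
    have h1 := congrArg (fun f : Module.End F (Fin n → F) => f (Pi.single ⟨0, hn⟩ 1) ⟨0, hn⟩) h
    simpa [Algebra.algebraMap_eq_smul_one] using h1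
  exact charP_of_injective_algebraMap hinj p

/-- A `p`-element of order `p^e` in `SL_n(F)` has `p^(e-1) < n`. -/
theorem pow_lt_of_orderOf (p : ℕ) [Fact p.Prime] [CharP F p] (hn : 0 < n)
    (u : Matrix.SpecialLinearGroup (Fin n) F) (e : ℕ)
    (he : 1 ≤ e) (hu : orderOf u = p ^ e) : p ^ (e - 1) < n := by
  have hp : p.Prime := Fact.out
  by_contra hcon
  push Not at hcon
  haveI := charP_end (F := F) (n := n) p hn
  obtain ⟨U, hUdef⟩ : ∃ U, U = toEnd u := ⟨_, rfl⟩
  have hU : U ^ (p ^ e) = 1 := by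
    rw [hUdef, ← toEnd_pow, ← hu, pow_orderOf_eq_one, toEnd_one]
  have hN : (U - 1) ^ (p ^ e) = 0 := by
    rw [sub_pow_char_pow_of_commute p e (Commute.one_right U), hU, one_pow, sub_self]
  have hnil : IsNilpotent (U - 1) := ⟨_, hN⟩
  have hchar := hnil.charpoly_eq_X_pow_finrank
  have hCH := LinearMap.aeval_self_charpoly (U - 1)
  rw [hchar, map_pow, aeval_X, Module.finrank_fin_fun] at hCH
  have h2 : (U - 1) ^ (p ^ (e - 1)) = 0 := by
    obtain ⟨d, hd⟩ := Nat.exists_eq_add_of_le hcon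
    rw [hd, pow_add, hCH, zero_mul]
  rw [sub_pow_char_pow_of_commute p (e - 1) (Commute.one_right U), one_pow, sub_eq_zero] at h2
  have h3 : u ^ (p ^ (e - 1)) = 1 := toEnd_injective (by rw [toEnd_pow, ← hUdef, h2, toEnd_one])
  have h4 := orderOf_dvd_of_pow_eq_one h3
  rw [hu] at h4
  have h5 := Nat.le_of_dvd (pow_pos hp.pos _) h4
  have h6 : p ^ (e - 1) < p ^ e := Nat.pow_lt_pow_right hp.one_lt (by omega)
  omega

theorem one_add_shift_pow (p : ℕ) [Fact p.Prime] [CharP F p] (m : ℕ) (j : ℕ) :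
    (1 + shiftEnd F m) ^ (p ^ j) = 1 + (shiftEnd F m) ^ (p ^ j) := by
  haveI := charP_end (F := F) (n := m + 1) p (Nat.succ_pos m)
  rw [add_pow_char_pow_of_commute p j (Commute.one_left _), one_pow]

theorem one_add_shift_pow_top (p : ℕ) [Fact p.Prime] [CharP F p] (m : ℕ) :
    (1 + shiftEnd F m) ^ (p ^ m) = 1 := by
  have hp : p.Prime := Fact.out
  rw [one_add_shift_pow, shiftEnd_pow_eq_zero F m (p ^ m) (Nat.lt_pow_self hp.one_lt).le
    (pow_pos hp.pos _), add_zero]

theorem det_one_add_shift (p : ℕ) [Fact p.Prime] [CharP F p] (m : ℕ) :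
    LinearMap.det (1 + shiftEnd F m) = 1 := by
  have hp : p.Prime := Fact.out
  have h2 := congrArg LinearMap.det (one_add_shift_pow_top (F := F) p m)
  rw [map_pow, map_one] at h2
  have h3 : (LinearMap.det (1 + shiftEnd F m) - 1) ^ (p ^ m) = 0 := by
    rw [sub_pow_char_pow, h2, one_pow, sub_self]
  exact sub_eq_zero.mp ((pow_eq_zero_iff (pow_pos hp.pos _).ne').mp h3)

theorem decomposable_one_add_shift (m : ℕ) (hm : 1 ≤ m) : Decomposable (1 + shiftEnd F m) := by
  refine ⟨coordV₁ F m, coordV₂ F m, coord_isCompl F m, coordV₁_ne_bot F m hm, coordV₂_ne_bot F m,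
    ?_, ?_⟩
  · rw [Module.End.mem_invtSubmodule]
    intro v hv
    rw [Submodule.mem_comap, mem_coordV₁] at *
    rw [LinearMap.add_apply, Module.End.one_apply, Pi.add_apply, hv, shiftEnd_apply,
      dif_neg (by simp), add_zero]
  · rw [Module.End.mem_invtSubmodule]
    intro v hv
    rw [Submodule.mem_comap, mem_coordV₂] at *
    intro i hi
    rw [LinearMap.add_apply, Module.End.one_apply, Pi.add_apply, hv i hi, shiftEnd_apply, zero_add]
    split_ifs with h
    · apply hv
      intro h0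
      have := congrArg Fin.val h0
      simp at this
      omega
    · rfl

/-- A decomposable unipotent element whose projective order is a large power of `p`. -/
theorem exists_decomposable_unipotent (p : ℕ) [Fact p.Prime] [CharP F p] (m : ℕ) (hm : 1 ≤ m) :
    ∃ u : Matrix.SpecialLinearGroup (Fin (m + 1)) F, Decomposable (toEnd u) ∧
      (∃ e, orderOf (QuotientGroup.mk u : Matrix.ProjectiveSpecialLinearGroup (Fin (m + 1)) F)
        = p ^ e) ∧
      ∀ β, 1 ≤ β → p ^ (β - 1) < m →
        p ^ β ∣ orderOf (QuotientGroup.mk u : Matrix.ProjectiveSpecialLinearGroup (Fin (m + 1)) F) := by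
  have hp : p.Prime := Fact.out
  refine ⟨ofEnd (1 + shiftEnd F m) (det_one_add_shift p m), ?_, ?_⟩
  · rw [toEnd_ofEnd]
    exact decomposable_one_add_shift m hm
  have hpm : (QuotientGroup.mk (ofEnd (1 + shiftEnd F m) (det_one_add_shift p m)) :
      Matrix.ProjectiveSpecialLinearGroup (Fin (m + 1)) F) ^ (p ^ m) = 1 := by
    rw [mk_pow_eq_one_iff, toEnd_ofEnd]
    exact ⟨1, by rw [one_add_shift_pow_top p m, one_smul]⟩
  obtain ⟨e, -, he⟩ := (Nat.dvd_prime_pow hp).mp (orderOf_dvd_of_pow_eq_one hpm)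
  refine ⟨⟨e, he⟩, fun β hβ hβm => ?_⟩
  rw [he]
  apply Nat.pow_dvd_pow
  by_contra hlt
  push Not at hlt
  have h1 : (QuotientGroup.mk (ofEnd (1 + shiftEnd F m) (det_one_add_shift p m)) :
      Matrix.ProjectiveSpecialLinearGroup (Fin (m + 1)) F) ^ (p ^ (β - 1)) = 1 := by
    rw [← orderOf_dvd_iff_pow_eq_one, he]
    exact Nat.pow_dvd_pow p (by omega)
  rw [mk_pow_eq_one_iff, toEnd_ofEnd, one_add_shift_pow p m] at h1
  obtain ⟨c, hc⟩ := h1
  have hK1 : 1 ≤ p ^ (β - 1) := Nat.one_le_pow _ _ hp.pos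
  have h2 := congrArg (fun f : Module.End F (Fin (m + 1) → F) =>
    f (Pi.single (⟨p ^ (β - 1), by omega⟩ : Fin (m + 1)) (1 : F)) (0 : Fin (m + 1))) hc
  have hne : (0 : Fin (m + 1)) ≠ ⟨p ^ (β - 1), by omega⟩ := by
    intro h0
    have := congrArg Fin.val h0
    simp at this
    omega
  simp only [LinearMap.add_apply, Module.End.one_apply, Pi.add_apply, LinearMap.smul_apply,
    Pi.smul_apply] at h2
  rw [shiftEnd_pow_apply F m (p ^ (β - 1)) _ 0 ⟨p ^ (β - 1), by omega⟩ (by simp) hβm] at h2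
  simp [Pi.single_apply, hne] at h2

end unip

section cover

variable [Fintype F]

/-- Absorbing the prime `r` into a decomposable element. -/
theorem absorb (r : ℕ) (hr : r.Prime) (hrq : r ∣ Fintype.card F - 1) (hrn : ¬ r ∣ n)
    (g : Matrix.SpecialLinearGroup (Fin n) F) (hdec : Decomposable (toEnd g)) :
    ∃ x' : Matrix.ProjectiveSpecialLinearGroup (Fin n) F, ∀ k : ℕ, x' ^ k = 1 →
      (QuotientGroup.mk g : Matrix.ProjectiveSpecialLinearGroup (Fin n) F) ^ k = 1 ∧ r ∣ k := by
  obtain ⟨h, hcomm, hord⟩ := exists_commute_orderOf_eq r hr hrq hrn g hdec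
  by_cases hdiv : r ∣ orderOf (QuotientGroup.mk g : Matrix.ProjectiveSpecialLinearGroup (Fin n) F)
  · exact ⟨QuotientGroup.mk g, fun k hk => ⟨hk, hdiv.trans (orderOf_dvd_of_pow_eq_one hk)⟩⟩
  · have hcop : Nat.Coprime (orderOf (QuotientGroup.mk g : Matrix.ProjectiveSpecialLinearGroup (Fin n) F))
        (orderOf (QuotientGroup.mk h : Matrix.ProjectiveSpecialLinearGroup (Fin n) F)) := by
      rw [hord]
      exact Nat.Coprime.symm ((Nat.Prime.coprime_iff_not_dvd hr).mpr hdiv)
    have hc' : Commute (QuotientGroup.mk g : Matrix.ProjectiveSpecialLinearGroup (Fin n) F)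
        (QuotientGroup.mk h) := hcomm.map (QuotientGroup.mk' _)
    have hmul := hc'.orderOf_mul_eq_mul_orderOf_of_coprime hcop
    refine ⟨QuotientGroup.mk g * QuotientGroup.mk h, fun k hk => ?_⟩
    have hd := orderOf_dvd_of_pow_eq_one hk
    rw [hmul, hord] at hd
    exact ⟨orderOf_dvd_iff_pow_eq_one.mp ((dvd_mul_right _ _).trans hd), (dvd_mul_left _ _).trans hd⟩

theorem exists_orderOf_eq (m r : ℕ) (hm : 1 ≤ m) (hr : r.Prime) (hrq : r ∣ Fintype.card F - 1)
    (hrn : ¬ r ∣ m + 1) :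
    ∃ w : Matrix.ProjectiveSpecialLinearGroup (Fin (m + 1)) F, orderOf w = r := by
  obtain ⟨h, -, hord⟩ := exists_commute_orderOf_eq r hr hrq hrn
    (1 : Matrix.SpecialLinearGroup (Fin (m + 1)) F) (by rw [toEnd_one]; exact decomposable_one F m hm)
  exact ⟨_, hord⟩

omit [Field F] [Fintype F] in
theorem exists_max3 {α : Type*} (v : α → ℕ) (a b c : α) :
    ∃ t, v a ≤ v t ∧ v b ≤ v t ∧ v c ≤ v t := by
  by_cases hab : v a ≤ v b
  · by_cases hbc : v b ≤ v c
    · exact ⟨c, hab.trans hbc, hbc, le_rfl⟩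
    · exact ⟨b, hab, le_rfl, (not_le.mp hbc).le⟩
  · by_cases hac : v a ≤ v c
    · exact ⟨c, hac, ((not_le.mp hab).le).trans hac, le_rfl⟩
    · exact ⟨a, le_rfl, (not_le.mp hab).le, (not_le.mp hac).le⟩

/-- The `p'`-part of the order of an indecomposable element divides the Singer order. -/
theorem ordCompl_dvd (p : ℕ) [Fact p.Prime] [CharP F p] (hn : 0 < n)
    (gs : Matrix.SpecialLinearGroup (Fin n) F)
    (hgs : ∀ s : Matrix.SpecialLinearGroup (Fin n) F, Irreducible (minpoly F (toEnd s)) →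
      orderOf (QuotientGroup.mk s : Matrix.ProjectiveSpecialLinearGroup (Fin n) F) ∣
        orderOf (QuotientGroup.mk gs : Matrix.ProjectiveSpecialLinearGroup (Fin n) F))
    (g : Matrix.SpecialLinearGroup (Fin n) F) (hg : ¬ Decomposable (toEnd g)) :
    ordCompl[p] (orderOf (QuotientGroup.mk g : Matrix.ProjectiveSpecialLinearGroup (Fin n) F)) ∣
      orderOf (QuotientGroup.mk gs : Matrix.ProjectiveSpecialLinearGroup (Fin n) F) := by
  have hp : p.Prime := Fact.out
  have hirr := irreducible_minpoly_of_not_decomposable p hn g hg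
  have h1 := hgs _ hirr
  have h0 : orderOf (QuotientGroup.mk g : Matrix.ProjectiveSpecialLinearGroup (Fin n) F) ≠ 0 :=
    (orderOf_pos _).ne'
  rw [QuotientGroup.mk_pow, orderOf_pow' _ (pow_pos hp.pos _).ne',
    Nat.gcd_eq_right (Nat.ordProj_dvd _ _)] at h1
  exact h1

theorem pow_eq_one_of_parts (p : ℕ) [Fact p.Prime]
    (g : Matrix.SpecialLinearGroup (Fin n) F) (k : ℕ)
    (h1 : ordProj[p] (orderOf (QuotientGroup.mk g : Matrix.ProjectiveSpecialLinearGroup (Fin n) F)) ∣ k)
    (h2 : ordCompl[p] (orderOf (QuotientGroup.mk g : Matrix.ProjectiveSpecialLinearGroup (Fin n) F)) ∣ k) :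
    (QuotientGroup.mk g : Matrix.ProjectiveSpecialLinearGroup (Fin n) F) ^ k = 1 := by
  have hp : p.Prime := Fact.out
  have h0 : orderOf (QuotientGroup.mk g : Matrix.ProjectiveSpecialLinearGroup (Fin n) F) ≠ 0 :=
    (orderOf_pos _).ne'
  rw [← orderOf_dvd_iff_pow_eq_one,
    ← Nat.ordProj_mul_ordCompl_eq_self (orderOf (QuotientGroup.mk g : Matrix.ProjectiveSpecialLinearGroup (Fin n) F)) p]
  exact Nat.Coprime.mul_dvd_of_dvd_of_dvd ((Nat.coprime_ordCompl hp h0).pow_left _) h1 h2

/-- Three elements of `PSL_n(F)` can be replaced by three elements covering their orders and `r`. -/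
theorem cover3 (p : ℕ) [Fact p.Prime] [CharP F p] (m r : ℕ) (hm : 1 ≤ m) (hr : r.Prime) (hrq : r ∣ Fintype.card F - 1) (hrn : ¬ r ∣ m + 1)
    (x y z : Matrix.ProjectiveSpecialLinearGroup (Fin (m + 1)) F) :
    ∃ x' y' z' : Matrix.ProjectiveSpecialLinearGroup (Fin (m + 1)) F,
      ∀ k : ℕ, x' ^ k = 1 → y' ^ k = 1 → z' ^ k = 1 → (x ^ k = 1 ∧ y ^ k = 1 ∧ z ^ k = 1 ∧ r ∣ k) := by
  have hp : p.Prime := Fact.out
  obtain ⟨g₁, rfl⟩ := QuotientGroup.mk_surjective x
  obtain ⟨g₂, rfl⟩ := QuotientGroup.mk_surjective y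
  obtain ⟨g₃, rfl⟩ := QuotientGroup.mk_surjective z
  by_cases h1 : Decomposable (toEnd g₁)
  · obtain ⟨x', hx'⟩ := absorb r hr hrq hrn g₁ h1
    exact ⟨x', _, _, fun k hx hy hz => ⟨(hx' k hx).1, hy, hz, (hx' k hx).2⟩⟩
  by_cases h2 : Decomposable (toEnd g₂)
  · obtain ⟨y', hy'⟩ := absorb r hr hrq hrn g₂ h2
    exact ⟨_, y', _, fun k hx hy hz => ⟨hx, (hy' k hy).1, hz, (hy' k hy).2⟩⟩
  by_cases h3 : Decomposable (toEnd g₃)
  · obtain ⟨z', hz'⟩ := absorb r hr hrq hrn g₃ h3
    exact ⟨_, _, z', fun k hx hy hz => ⟨hx, hy, (hz' k hz).1, (hz' k hz).2⟩⟩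
  obtain ⟨gs, hgs⟩ := Singer.exists_singer_bound (F := F) (n := m + 1) p
  obtain ⟨w, hw⟩ := exists_orderOf_eq m r hm hr hrq hrn
  obtain ⟨t, ht1, ht2, ht3⟩ := exists_max3
    (fun g : Matrix.SpecialLinearGroup (Fin (m + 1)) F =>
      (orderOf (QuotientGroup.mk g : Matrix.ProjectiveSpecialLinearGroup (Fin (m + 1)) F)).factorization p)
    g₁ g₂ g₃
  refine ⟨QuotientGroup.mk gs, QuotientGroup.mk t, w, fun k hk1 hk2 hk3 => ?_⟩
  have d1 := orderOf_dvd_of_pow_eq_one hk1
  have d2 := orderOf_dvd_of_pow_eq_one hk2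
  have d3 := orderOf_dvd_of_pow_eq_one hk3
  rw [hw] at d3
  have key : ∀ g : Matrix.SpecialLinearGroup (Fin (m + 1)) F, ¬ Decomposable (toEnd g) →
      (orderOf (QuotientGroup.mk g : Matrix.ProjectiveSpecialLinearGroup (Fin (m + 1)) F)).factorization p
        ≤ (orderOf (QuotientGroup.mk t : Matrix.ProjectiveSpecialLinearGroup (Fin (m + 1)) F)).factorization p →
      (QuotientGroup.mk g : Matrix.ProjectiveSpecialLinearGroup (Fin (m + 1)) F) ^ k = 1 := by
    intro g hg hle
    apply pow_eq_one_of_parts p g k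
    · exact ((Nat.pow_dvd_pow p hle).trans (Nat.ordProj_dvd _ _)).trans d2
    · exact (ordCompl_dvd p (Nat.succ_pos m) gs hgs g hg).trans d1
  exact ⟨key g₁ h1 ht1, key g₂ h2 ht2, key g₃ h3 ht3, d3⟩

/-- Two elements of `PSL_n(F)` can be replaced by two elements covering their orders and `r`,
provided `n - 1` is not a power of `p`. -/
theorem cover2 (p : ℕ) [Fact p.Prime] [CharP F p] (m r : ℕ) (hm : 1 ≤ m) (hr : r.Prime)
    (hrq : r ∣ Fintype.card F - 1) (hrn : ¬ r ∣ m + 1) (hrp : r ≠ p) (hnp : ¬ ∃ j : ℕ, m = p ^ j)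
    (x y : Matrix.ProjectiveSpecialLinearGroup (Fin (m + 1)) F) :
    ∃ x' y' : Matrix.ProjectiveSpecialLinearGroup (Fin (m + 1)) F,
      ∀ k : ℕ, x' ^ k = 1 → y' ^ k = 1 → (x ^ k = 1 ∧ y ^ k = 1 ∧ r ∣ k) := by
  have hp : p.Prime := Fact.out
  obtain ⟨g₁, rfl⟩ := QuotientGroup.mk_surjective x
  obtain ⟨g₂, rfl⟩ := QuotientGroup.mk_surjective y
  by_cases h1 : Decomposable (toEnd g₁)
  · obtain ⟨x', hx'⟩ := absorb r hr hrq hrn g₁ h1
    exact ⟨x', _, fun k hx hy => ⟨(hx' k hx).1, hy, (hx' k hx).2⟩⟩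
  by_cases h2 : Decomposable (toEnd g₂)
  · obtain ⟨y', hy'⟩ := absorb r hr hrq hrn g₂ h2
    exact ⟨_, y', fun k hx hy => ⟨hx, (hy' k hy).1, (hy' k hy).2⟩⟩
  obtain ⟨gs, hgs⟩ := Singer.exists_singer_bound (F := F) (n := m + 1) p
  obtain ⟨t, ht1, ht2, -⟩ := exists_max3
    (fun g : Matrix.SpecialLinearGroup (Fin (m + 1)) F =>
      (orderOf (QuotientGroup.mk g : Matrix.ProjectiveSpecialLinearGroup (Fin (m + 1)) F)).factorization p)
    g₁ g₂ g₂
  obtain ⟨β, hβ⟩ : ∃ β, β = (orderOf (QuotientGroup.mk t :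
      Matrix.ProjectiveSpecialLinearGroup (Fin (m + 1)) F)).factorization p := ⟨_, rfl⟩
  simp only [← hβ] at ht1 ht2
  have hy' : ∃ y' : Matrix.ProjectiveSpecialLinearGroup (Fin (m + 1)) F,
      p ^ β ∣ orderOf y' ∧ r ∣ orderOf y' := by
    rcases Nat.eq_zero_or_pos β with h0 | hpos
    · obtain ⟨w, hw⟩ := exists_orderOf_eq m r hm hr hrq hrn
      exact ⟨w, by rw [h0, pow_zero]; exact one_dvd _, hw ▸ dvd_rfl⟩
    · have h3 : p ^ β ∣ orderOf t := by
        rw [hβ]
        refine (Nat.ordProj_dvd _ p).trans (orderOf_dvd_of_pow_eq_one ?_)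
        rw [← QuotientGroup.mk_pow, pow_orderOf_eq_one]
        rfl
      have ht0 : orderOf t ≠ 0 := (orderOf_pos t).ne'
      obtain ⟨e, he⟩ : ∃ e, e = (orderOf t).factorization p := ⟨_, rfl⟩
      have hβe : β ≤ e := by
        rw [he]
        exact (hp.pow_dvd_iff_le_factorization ht0).mp h3
      have hu : orderOf (t ^ (ordCompl[p] (orderOf t))) = p ^ e := by
        rw [orderOf_pow' _ (Nat.ordCompl_pos p ht0).ne', Nat.gcd_eq_right (Nat.ordCompl_dvd _ _), he]
        exact Nat.div_eq_of_eq_mul_left (Nat.ordCompl_pos p ht0)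
          (Nat.ordProj_mul_ordCompl_eq_self _ _).symm
      have hlt := pow_lt_of_orderOf p (Nat.succ_pos m) _ e (by omega) hu
      have hlt' : p ^ (β - 1) < m := by
        have h4 : p ^ (β - 1) ≤ p ^ (e - 1) := Nat.pow_le_pow_right hp.pos (by omega)
        have h5 : p ^ (β - 1) ≠ m := fun h => hnp ⟨β - 1, h.symm⟩
        omega
      obtain ⟨u, hdec, ⟨e', he'⟩, hu'⟩ := exists_decomposable_unipotent (F := F) p m hm
      obtain ⟨h, hcomm, hord⟩ := exists_commute_orderOf_eq r hr hrq hrn u hdec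
      have hcop : Nat.Coprime
          (orderOf (QuotientGroup.mk u : Matrix.ProjectiveSpecialLinearGroup (Fin (m + 1)) F))
          (orderOf (QuotientGroup.mk h : Matrix.ProjectiveSpecialLinearGroup (Fin (m + 1)) F)) := by
        rw [he', hord]
        exact Nat.Coprime.pow_left _ ((Nat.coprime_primes hp hr).mpr (Ne.symm hrp))
      have hc' : Commute (QuotientGroup.mk u : Matrix.ProjectiveSpecialLinearGroup (Fin (m + 1)) F)
          (QuotientGroup.mk h) := hcomm.map (QuotientGroup.mk' _)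
      have hmul := hc'.orderOf_mul_eq_mul_orderOf_of_coprime hcop
      refine ⟨QuotientGroup.mk u * QuotientGroup.mk h, ?_, ?_⟩
      · rw [hmul]
        exact (hu' β hpos hlt').trans (dvd_mul_right _ _)
      · rw [hmul, hord]
        exact dvd_mul_left _ _
  obtain ⟨y', hy'1, hy'2⟩ := hy'
  refine ⟨QuotientGroup.mk gs, y', fun k hk1 hk2 => ?_⟩
  have d1 := orderOf_dvd_of_pow_eq_one hk1
  have d2 := orderOf_dvd_of_pow_eq_one hk2
  have key : ∀ g : Matrix.SpecialLinearGroup (Fin (m + 1)) F, ¬ Decomposable (toEnd g) →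
      (orderOf (QuotientGroup.mk g : Matrix.ProjectiveSpecialLinearGroup (Fin (m + 1)) F)).factorization p
        ≤ β →
      (QuotientGroup.mk g : Matrix.ProjectiveSpecialLinearGroup (Fin (m + 1)) F) ^ k = 1 := by
    intro g hg hle
    apply pow_eq_one_of_parts p g k
    · exact ((Nat.pow_dvd_pow p hle).trans hy'1).trans d2
    · exact (ordCompl_dvd p (Nat.succ_pos m) gs hgs g hg).trans d1
  exact ⟨key g₁ h1 ht1, key g₂ h2 ht2, hy'2.trans d2⟩

end cover

end Cfsg.Agent.Helper42.SpecPSL
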