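import Mathlib
import Cfsg.Agent.Helper42.SpGroup

set_option autoImplicit false

/-!
# Structure of orthogonally indecomposable isometries of symplectic spaces (helper42)

* `kmod` : a finite dimensional space on which `S` acts with irreducible annihilating polynomial `f`
  has dimension divisible by `deg f`, and nilpotent endomorphisms commuting with `S` have
  nilpotency index at most `dim / deg f`;
* `galois_dichotomy` : if `k` and `k⁻¹` are roots of the same irreducible polynomial `f` over a
  finite field with `q` elements then `k^2 = 1` or `deg f = 2 e` and `k^(q^e+1) = 1`;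
* `zero_or_injective_of_not_orthDec` : self-adjoint semisimple elements of the centraliser of an
  orthogonally indecomposable isometry are zero or injective;
* `struct` : the semisimple part of an orthogonally indecomposable isometry.
-/

namespace Cfsg.Agent.Helper42.SpStruct

open Polynomial SpForm SpGroup

universe u v

variable {F : Type u} [Field F]

theorem commute_aeval' {A : Type*} [Ring A] [Algebra F A] (T S : A) (h : Commute T S) (a : F[X]) :
    Commute T (aeval S a) := by
  induction a using Polynomial.induction_on' with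
  | add p q hp hq =>
    rw [map_add]
    exact hp.add_right hq
  | monomial k c =>
    rw [aeval_monomial]
    exact (Algebra.commute_algebraMap_right c T).mul_right (h.pow_right k)

section kmod

variable {M : Type v} [AddCommGroup M] [Module F M] [FiniteDimensional F M]

/-- Modules over `F[X]/(f)`: dimension and nilpotent endomorphisms. -/
theorem kmod (S : Module.End F M) (f : F[X]) (hf : Irreducible f) (hfS : aeval S f = 0) :
    f.natDegree ∣ Module.finrank F M ∧ ∀ N' : Module.End F M, Commute N' S → IsNilpotent N' →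
      ∀ j : ℕ, Module.finrank F M ≤ j * f.natDegree → N' ^ j = 0 := by
  classical
  have : Fact (Irreducible f) := ⟨hf⟩
  have htors : Module.IsTorsionBySet F[X] (Module.AEval' S) (Ideal.span {f}) := by
    rw [Module.isTorsionBySet_span_singleton_iff]
    intro m
    obtain ⟨v, rfl⟩ := (Module.AEval'.of S).surjective m
    rw [← Module.AEval.of_aeval_smul, hfS, zero_smul, map_zero]
  let instM : Module (AdjoinRoot f) (Module.AEval' S) := htors.module
  have : IsScalarTower F (AdjoinRoot f) (Module.AEval' S) := htors.isScalarTower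
  have hfinE : Module.finrank F (AdjoinRoot f) = f.natDegree := finrank_quotient_span_eq_natDegree
  have hfinM : Module.finrank F (Module.AEval' S) = Module.finrank F M :=
    ((Module.AEval'.of S).finrank_eq).symm
  have hdpos : 0 < f.natDegree := hf.natDegree_pos
  have : Module.Finite F (Module.AEval' S) := Module.Finite.equiv (Module.AEval'.of S)
  have : Module.Finite F (AdjoinRoot f) := Module.finite_of_finrank_pos (by rw [hfinE]; exact hdpos)
  have : Module.Finite (AdjoinRoot f) (Module.AEval' S) := Module.Finite.of_restrictScalars_finite F _ _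
  have htower := Module.finrank_mul_finrank F (AdjoinRoot f) (Module.AEval' S)
  rw [hfinE, hfinM] at htower
  refine ⟨⟨_, htower.symm⟩, fun N' hN'S hN'nil j hj => ?_⟩
  have hsmul : ∀ (a : F[X]) (m : Module.AEval' S), (AdjoinRoot.mk f a) • m = a • m := fun a m => rfl
  let NK : Module.AEval' S →ₗ[AdjoinRoot f] Module.AEval' S :=
    { toFun := fun m => Module.AEval'.of S (N' ((Module.AEval'.of S).symm m))
      map_add' := by
        intro x y
        simp
      map_smul' := by
        intro r m
        induction r using AdjoinRoot.induction_on with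
        | ih a =>
          obtain ⟨x, rfl⟩ := (Module.AEval'.of S).surjective m
          rw [hsmul, RingHom.id_apply, hsmul, ← Module.AEval.of_aeval_smul,
            LinearEquiv.symm_apply_apply, LinearEquiv.symm_apply_apply,
            ← Module.AEval.of_aeval_smul]
          congr 1
          have := (commute_aeval' N' S hN'S a).eq
          have h2 := congrArg (fun g : Module.End F M => g x) this
          simpa [Module.End.mul_apply] using h2 }
  have hNKpow : ∀ (i : ℕ) (x : M),
      (NK ^ i) (Module.AEval'.of S x) = Module.AEval'.of S ((N' ^ i) x) := by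
    intro i
    induction i with
    | zero => intro x; simp
    | succ i ih =>
      intro x
      rw [pow_succ, Module.End.mul_apply, pow_succ, Module.End.mul_apply, ← ih]
      congr 1
  have hNKnil : IsNilpotent NK := by
    obtain ⟨i, hi⟩ := hN'nil
    refine ⟨i, ?_⟩
    apply LinearMap.ext
    intro m
    obtain ⟨x, rfl⟩ := (Module.AEval'.of S).surjective m
    rw [hNKpow, hi]
    simp
  have hchar := hNKnil.charpoly_eq_X_pow_finrank
  have hCH := LinearMap.aeval_self_charpoly NK
  rw [hchar, map_pow, aeval_X] at hCH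
  have hle : Module.finrank (AdjoinRoot f) (Module.AEval' S) ≤ j := by
    rw [← htower] at hj
    rw [mul_comm] at hj
    exact Nat.le_of_mul_le_mul_right hj hdpos
  have hNKj : NK ^ j = 0 := by
    obtain ⟨d, hd⟩ := Nat.exists_eq_add_of_le hle
    rw [hd, pow_add, hCH, zero_mul]
  apply LinearMap.ext
  intro x
  have h1 := hNKpow j x
  rw [hNKj] at h1
  simp only [LinearMap.zero_apply] at h1
  have h2 : Module.AEval'.of S ((N' ^ j) x) = Module.AEval'.of S 0 := by rw [← h1, map_zero]
  rw [(Module.AEval'.of S).injective h2]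
  rfl

end kmod

section sub

variable {V : Type v} [AddCommGroup V] [Module F V] [FiniteDimensional F V]

theorem aeval_restrict (S : Module.End F V) (W : Submodule F V) (hW : ∀ w ∈ W, S w ∈ W) (a : F[X])
    (w : W) : ((aeval (S.restrict hW) a) w : V) = aeval S a (w : V) := by
  induction a using Polynomial.induction_on' with
  | add p q hp hq =>
    rw [map_add, map_add, LinearMap.add_apply, LinearMap.add_apply, Submodule.coe_add, hp, hq]
  | monomial k c =>
    rw [aeval_monomial, aeval_monomial, Module.End.mul_apply, Module.End.mul_apply,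
      Module.End.pow_restrict, LinearMap.restrict_apply]
    simp [Module.algebraMap_end_apply]

/-- The version of `kmod` for an invariant subspace. -/
theorem kmod_sub (S : Module.End F V) (f : F[X]) (hf : Irreducible f) (W : Submodule F V)
    (hW : ∀ w ∈ W, S w ∈ W) (hfW : ∀ w ∈ W, aeval S f w = 0) :
    f.natDegree ∣ Module.finrank F W ∧ ∀ N' : Module.End F V, Commute N' S → IsNilpotent N' →
      (∀ w ∈ W, N' w ∈ W) → ∀ j : ℕ, Module.finrank F W ≤ j * f.natDegree →
      ∀ w ∈ W, (N' ^ j) w = 0 := by
  have hfS : aeval (S.restrict hW) f = 0 := by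
    apply LinearMap.ext
    intro w
    apply Subtype.ext
    rw [aeval_restrict, hfW w w.2]
    rfl
  obtain ⟨h1, h2⟩ := kmod (S.restrict hW) f hf hfS
  refine ⟨h1, fun N' hN'S hN'nil hN'W j hj w hw => ?_⟩
  have hcomm : Commute (N'.restrict hN'W) (S.restrict hW) := by
    apply LinearMap.ext
    intro x
    apply Subtype.ext
    have := congrArg (fun g : Module.End F V => g (x : V)) hN'S.eq
    simpa [Module.End.mul_apply, LinearMap.restrict_apply] using this
  have hnil : IsNilpotent (N'.restrict hN'W) := by
    obtain ⟨i, hi⟩ := hN'nil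
    refine ⟨i, ?_⟩
    rw [Module.End.pow_restrict]
    apply LinearMap.ext
    intro x
    apply Subtype.ext
    rw [LinearMap.restrict_apply]
    simp [hi]
  have h3 := h2 (N'.restrict hN'W) hcomm hnil j hj
  rw [Module.End.pow_restrict] at h3
  have h4 := congrArg (fun g : Module.End F W => ((g ⟨w, hw⟩ : W) : V)) h3
  simpa [LinearMap.restrict_apply] using h4

end sub

section galois

/-- If `k` and `k⁻¹` are conjugate over a finite field then `k^2 = 1` or `k^(q^e + 1) = 1` where
`2 e` is the degree of `k`. -/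
theorem galois_dichotomy [Fintype F] (f : F[X]) [Fact (Irreducible f)]
    (hk0 : AdjoinRoot.root f ≠ 0) (hinv : aeval (AdjoinRoot.root f)⁻¹ f = 0) :
    (AdjoinRoot.root f) ^ 2 = 1 ∨
      ∃ e : ℕ, f.natDegree = 2 * e ∧ (AdjoinRoot.root f) ^ (Fintype.card F ^ e + 1) = 1 := by
  have hf : Irreducible f := Fact.out
  have hfin : Module.finrank F (AdjoinRoot f) = f.natDegree := finrank_quotient_span_eq_natDegree
  have hdpos : 0 < f.natDegree := hf.natDegree_pos
  haveI : Module.Finite F (AdjoinRoot f) := Module.finite_of_finrank_pos (by rw [hfin]; exact hdpos)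
  haveI : Finite (AdjoinRoot f) := Module.finite_of_finite F
  let τ : AdjoinRoot f →ₐ[F] AdjoinRoot f :=
    AdjoinRoot.liftAlgHom f (Algebra.ofId F (AdjoinRoot f)) (AdjoinRoot.root f)⁻¹ hinv
  have hτ : τ (AdjoinRoot.root f) = (AdjoinRoot.root f)⁻¹ := AdjoinRoot.liftAlgHom_root f _ _ hinv
  obtain ⟨⟨j, hj⟩, hjτ⟩ := (FiniteField.bijective_frobeniusAlgHom_pow F (AdjoinRoot f)).2 τ
  simp only at hjτ
  rw [hfin] at hj
  have hfrob : ∀ (i : ℕ) (x : AdjoinRoot f),
      ((FiniteField.frobeniusAlgHom F (AdjoinRoot f)) ^ i) x = x ^ (Fintype.card F ^ i) := by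
    intro i x
    rw [AlgHom.coe_pow, FiniteField.coe_frobeniusAlgHom, pow_iterate]
  have h1 : (AdjoinRoot.root f) ^ (Fintype.card F ^ j) = (AdjoinRoot.root f)⁻¹ := by
    rw [← hfrob, hjτ, hτ]
  rcases Nat.eq_zero_or_pos j with hj0 | hjpos
  · left
    rw [hj0, pow_zero, pow_one] at h1
    rw [pow_two]
    nth_rewrite 1 [h1]
    exact inv_mul_cancel₀ hk0
  · right
    have h2 : (AdjoinRoot.root f) ^ (Fintype.card F ^ j + 1) = 1 := by
      rw [pow_succ, h1, inv_mul_cancel₀ hk0]
    have h3 : ((FiniteField.frobeniusAlgHom F (AdjoinRoot f)) ^ (2 * j)) = 1 := by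
      apply AdjoinRoot.algHom_ext
      rw [hfrob, AlgHom.one_apply, two_mul, pow_add, pow_mul, h1, inv_pow, h1, inv_inv]
    have h4 := orderOf_dvd_of_pow_eq_one h3
    rw [FiniteField.orderOf_frobeniusAlgHom, hfin] at h4
    obtain ⟨c, hc⟩ := h4
    have hc1 : c = 1 := by
      have hc0 : c ≠ 0 := by
        rintro rfl
        omega
      have hc2 : c < 2 := by
        by_contra hge
        push Not at hge
        have : f.natDegree * 2 ≤ f.natDegree * c := Nat.mul_le_mul_left _ hge
        omega
      omega
    rw [hc1, mul_one] at hc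
    exact ⟨j, hc.symm, h2⟩

end galois

section forms

variable {V : Type v} [AddCommGroup V] [Module F V] [FiniteDimensional F V]

theorem isCompl_ker_range (Z : Module.End F V) (hZ : Z.IsSemisimple) :
    IsCompl (LinearMap.ker Z) (LinearMap.range Z) := by
  have hker : LinearMap.ker Z ∈ Module.End.invtSubmodule Z := by
    rw [Module.End.mem_invtSubmodule]
    intro v hv
    rw [Submodule.mem_comap, LinearMap.mem_ker] at *
    rw [hv, map_zero]
  obtain ⟨C, hC, hcompl⟩ := (Module.End.isSemisimple_iff.mp hZ) _ hker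
  rw [Module.End.mem_invtSubmodule] at hC
  have hle : LinearMap.range Z ≤ C := by
    rintro _ ⟨v, rfl⟩
    have hv : v ∈ LinearMap.ker Z ⊔ C := by rw [hcompl.sup_eq_top]; trivial
    obtain ⟨k, hk, c, hc, rfl⟩ := Submodule.mem_sup.mp hv
    rw [map_add, LinearMap.mem_ker.mp hk, zero_add]
    exact hC hc
  have h1 := LinearMap.finrank_range_add_finrank_ker Z
  have h2 := Submodule.finrank_add_eq_of_isCompl hcompl
  have h3 : LinearMap.range Z = C :=
    Submodule.eq_of_le_of_finrank_eq hle (by omega)
  rw [h3]
  exact hcompl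

/-- Orthogonal decomposability of an endomorphism with respect to a bilinear form. -/
def OrthDec (B : LinearMap.BilinForm F V) (T : Module.End F V) : Prop :=
  ∃ V₁ V₂ : Submodule F V, IsCompl V₁ V₂ ∧ V₁ ≠ ⊥ ∧ V₂ ≠ ⊥ ∧ (∀ v ∈ V₁, T v ∈ V₁) ∧
    (∀ v ∈ V₂, T v ∈ V₂) ∧ (∀ x ∈ V₁, ∀ y ∈ V₂, B x y = 0)

theorem zero_or_injective_of_not_orthDec (B : LinearMap.BilinForm F V) (T : Module.End F V)
    (hT : ¬ OrthDec B T) (Z : Module.End F V) (hZ : Z.IsSemisimple) (hZT : Commute Z T)
    (hadj : ∀ x y, B (Z x) y = B x (Z y)) : Z = 0 ∨ LinearMap.ker Z = ⊥ := by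
  by_contra hcon
  push Not at hcon
  apply hT
  have hcomm : ∀ v, Z (T v) = T (Z v) := fun v => by
    have := congrArg (fun g : Module.End F V => g v) hZT.eq
    simpa [Module.End.mul_apply] using this
  refine ⟨LinearMap.ker Z, LinearMap.range Z, isCompl_ker_range Z hZ, hcon.2, ?_, ?_, ?_, ?_⟩
  · intro h
    exact hcon.1 (LinearMap.range_eq_bot.mp h)
  · intro v hv
    rw [LinearMap.mem_ker] at *
    rw [hcomm, hv, map_zero]
  · rintro _ ⟨w, rfl⟩
    exact ⟨T w, hcomm w⟩
  · rintro x hx _ ⟨w, rfl⟩
    rw [← hadj, LinearMap.mem_ker.mp hx, map_zero, LinearMap.zero_apply]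

/-- Adjoint pairs with respect to a bilinear form. -/
def IsAdj (B : LinearMap.BilinForm F V) (A A' : Module.End F V) : Prop :=
  ∀ x y, B (A x) y = B x (A' y)

theorem IsAdj.pow {B : LinearMap.BilinForm F V} {A A' : Module.End F V} (h : IsAdj B A A')
    (k : ℕ) : IsAdj B (A ^ k) (A' ^ k) := by
  induction k with
  | zero => intro x y; rfl
  | succ k ih =>
    intro x y
    rw [pow_succ, pow_succ', Module.End.mul_apply, Module.End.mul_apply, ih, h]

theorem IsAdj.aeval {B : LinearMap.BilinForm F V} {A A' : Module.End F V} (h : IsAdj B A A')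
    (a : F[X]) : IsAdj B (aeval A a) (aeval A' a) := by
  induction a using Polynomial.induction_on' with
  | add p q hp hq =>
    intro x y
    rw [map_add, map_add, LinearMap.add_apply, LinearMap.add_apply, map_add, map_add,
      LinearMap.add_apply, hp, hq]
  | monomial k c =>
    intro x y
    rw [aeval_monomial, aeval_monomial, Module.End.mul_apply, Module.End.mul_apply,
      Module.algebraMap_end_apply, Module.algebraMap_end_apply, map_smul, map_smul,
      LinearMap.smul_apply, h.pow k]

end forms

section main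

variable {V : Type v} [AddCommGroup V] [Module F V]

theorem charP_end' (p : ℕ) [CharP F p] [Nontrivial V] : CharP (Module.End F V) p := by
  have hinj : Function.Injective (algebraMap F (Module.End F V)) := by
    intro c c' h
    obtain ⟨v, hv⟩ := exists_ne (0 : V)
    have h1 := congrArg (fun g : Module.End F V => g v) h
    simp only [Module.algebraMap_end_apply] at h1
    exact smul_left_injective F hv h1
  exact charP_of_injective_algebraMap hinj p

theorem nilpotent_sub_one (p : ℕ) [Fact p.Prime] [CharP F p] [Nontrivial V] (u : Module.End F V)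
    (b : ℕ) (hu : u ^ (p ^ b) = 1) : IsNilpotent (u - 1) := by
  haveI := charP_end' (F := F) (V := V) p
  exact ⟨p ^ b, by rw [sub_pow_char_pow_of_commute p b (Commute.one_right u), hu, one_pow, sub_self]⟩

theorem pow_eq_one_of_sub_pow (p : ℕ) [Fact p.Prime] [CharP F p] [Nontrivial V]
    (u : Module.End F V) (j : ℕ) (h : (u - 1) ^ (p ^ j) = 0) : u ^ (p ^ j) = 1 := by
  haveI := charP_end' (F := F) (V := V) p
  rw [sub_pow_char_pow_of_commute p j (Commute.one_right u), one_pow] at h
  exact sub_eq_zero.mp h

variable [FiniteDimensional F V]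

/-- A unipotent endomorphism of a space of dimension at most `p^j` has order dividing `p^j`. -/
theorem unipotent_pow (p : ℕ) [Fact p.Prime] [CharP F p] [Nontrivial V] (u : Module.End F V)
    (b : ℕ) (hu : u ^ (p ^ b) = 1) (j : ℕ) (hj : Module.finrank F V ≤ p ^ j) :
    u ^ (p ^ j) = 1 := by
  have hnil := nilpotent_sub_one p u b hu
  have hchar := hnil.charpoly_eq_X_pow_finrank
  have hCH := LinearMap.aeval_self_charpoly (u - 1)
  rw [hchar, map_pow, aeval_X] at hCH
  apply pow_eq_one_of_sub_pow p u j
  obtain ⟨d, hd⟩ := Nat.exists_eq_add_of_le hj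
  rw [hd, pow_add, hCH, zero_mul]

/-- **Structure of the semisimple part of an orthogonally indecomposable isometry.** -/
theorem struct [Fintype F] (p : ℕ) [Fact p.Prime] [CharP F p] (B : LinearMap.BilinForm F V)
    (n : ℕ) (hn : 1 ≤ n) (hnd : ∀ v, (∀ w, B v w = 0) → v = 0)
    (hdim : Module.finrank F V = 2 * n) (T : Module.End F V) (hT : ¬ OrthDec B T)
    (s : Module.End F V) (hsT : Commute s T) (hsB : Preserves B s) (M : ℕ) (hM : 0 < M)
    (hsM : s ^ M = 1) (hss : s.IsSemisimple) (u : Module.End F V) (hus : Commute u s) (b : ℕ)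
    (hu : u ^ (p ^ b) = 1) :
    s ^ 2 = 1 ∨
    (∃ e, 1 ≤ e ∧ e ∣ n ∧ s ^ (Fintype.card F ^ e + 1) = 1 ∧
      ∀ j, n ≤ e * p ^ j → u ^ (p ^ j) = 1) ∨
    (∃ d, 1 ≤ d ∧ d ∣ n ∧ s ^ (Fintype.card F ^ d - 1) = 1 ∧
      ∀ j, n ≤ d * p ^ j → u ^ (p ^ j) = 1) := by
  classical
  have hp : p.Prime := Fact.out
  haveI : Nontrivial V := Module.nontrivial_of_finrank_pos (R := F) (by omega)
  obtain ⟨q, hq⟩ : ∃ q, q = Fintype.card F := ⟨_, rfl⟩
  rw [← hq]
  have hq1 : 1 < q := hq ▸ Fintype.one_lt_card
  obtain ⟨M', rfl⟩ : ∃ M', M = M' + 1 := ⟨M - 1, by omega⟩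
  obtain ⟨sinv, hsinv⟩ : ∃ sinv, sinv = s ^ M' := ⟨_, rfl⟩
  have hs1 : s * sinv = 1 := by rw [hsinv, ← pow_succ', hsM]
  have hs2 : sinv * s = 1 := by rw [hsinv, ← pow_succ, hsM]
  have hcss : Commute s sinv := by rw [hsinv]; exact (Commute.refl s).pow_right M'
  have hsinvT : Commute sinv T := by rw [hsinv]; exact hsT.pow_left M'
  have husinv : Commute u sinv := by rw [hsinv]; exact hus.pow_right M'
  have hsinvss : sinv.IsSemisimple := by rw [hsinv]; exact hss.pow M'
  have hadj1 : IsAdj B s sinv := by
    intro x y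
    have := hsB x (sinv y)
    rw [← Module.End.mul_apply s sinv, hs1, Module.End.one_apply] at this
    exact this
  have hadj2 : IsAdj B sinv s := by
    intro x y
    have := hsB (sinv x) y
    rw [← Module.End.mul_apply s sinv, hs1, Module.End.one_apply] at this
    exact this.symm
  have hμ : ¬ IsUnit (minpoly F s) := minpoly.not_isUnit F s
  obtain ⟨f, hfmonic, hfirr, hfdvd⟩ := Polynomial.exists_monic_irreducible_factor _ hμ
  obtain ⟨A, hA⟩ : ∃ A, A = aeval s f := ⟨_, rfl⟩
  obtain ⟨A', hA'⟩ : ∃ A', A' = aeval sinv f := ⟨_, rfl⟩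
  have hAss : A.IsSemisimple := by rw [hA]; exact hss.aeval f
  have hA'ss : A'.IsSemisimple := by rw [hA']; exact hsinvss.aeval f
  have hAA' : Commute A A' := by
    have h1 : Commute s A' := by rw [hA']; exact commute_aeval' s sinv hcss f
    rw [hA]
    exact (commute_aeval' A' s h1.symm f).symm
  have hAT : Commute A T := by rw [hA]; exact (commute_aeval' T s hsT.symm f).symm
  have hA'T : Commute A' T := by rw [hA']; exact (commute_aeval' T sinv hsinvT.symm f).symm
  have hadjA : IsAdj B A A' := by rw [hA, hA']; exact hadj1.aeval f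
  have hadjA' : IsAdj B A' A := by rw [hA, hA']; exact hadj2.aeval f
  have hkerA : LinearMap.ker A ≠ ⊥ := by
    intro hbot
    obtain ⟨h, hh⟩ := hfdvd
    have hinj : Function.Injective A := LinearMap.ker_eq_bot.mp hbot
    have h0 : aeval s h = 0 := by
      apply LinearMap.ext
      intro v
      apply hinj
      rw [← Module.End.mul_apply, hA, ← map_mul, ← hh, minpoly.aeval]
      simp
    have h3 := minpoly.dvd F s h0
    have hh0 : h ≠ 0 := by
      rintro rfl
      rw [mul_zero] at hh
      exact minpoly.ne_zero (Algebra.IsIntegral.isIntegral s) hh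
    have h4 : f * h ∣ 1 * h := by
      rw [one_mul, ← hh]
      exact h3
    exact hfirr.not_isUnit (isUnit_of_dvd_one ((mul_dvd_mul_iff_right hh0).mp h4))
  have hZ0 : A * A' = 0 := by
    have hZss : (A * A').IsSemisimple := Module.End.IsSemisimple.mul_of_commute hAA' hAss hA'ss
    have hZT : Commute (A * A') T := hAT.mul_left hA'T
    have hZadj : ∀ x y, B ((A * A') x) y = B x ((A * A') y) := by
      intro x y
      rw [Module.End.mul_apply, hadjA, hadjA', ← Module.End.mul_apply]
    rcases zero_or_injective_of_not_orthDec B T hT _ hZss hZT hZadj with h | h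
    · exact h
    · exfalso
      apply hkerA
      rw [eq_bot_iff, ← h]
      intro v hv
      rw [LinearMap.mem_ker] at *
      rw [hAA'.eq, Module.End.mul_apply, hv, map_zero]
  have hZ2 : A + A' = 0 ∨ LinearMap.ker (A + A') = ⊥ := by
    refine zero_or_injective_of_not_orthDec B T hT _
      (Module.End.IsSemisimple.add_of_commute hAA' hAss hA'ss) (hAT.add_left hA'T) ?_
    intro x y
    rw [LinearMap.add_apply, LinearMap.add_apply, map_add, LinearMap.add_apply, map_add, hadjA,
      hadjA', add_comm]
  have hN'nil := nilpotent_sub_one p u b hu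
  have hN's : Commute (u - 1) s := hus.sub_left (Commute.one_left s)
  have hN'sinv : Commute (u - 1) sinv := husinv.sub_left (Commute.one_left sinv)
  rcases hZ2 with hZ2 | hZ2
  · have hA'eq : A' = -A := eq_neg_of_add_eq_zero_right hZ2
    have hAA : A * A = 0 := by
      have h1 : A * A' = -(A * A) := by rw [hA'eq, mul_neg]
      rw [hZ0] at h1
      exact neg_eq_zero.mp h1.symm
    have hA0 : A = 0 := by
      have hc := isCompl_ker_range A hAss
      have hle : LinearMap.range A ≤ LinearMap.ker A := by
        rintro _ ⟨w, rfl⟩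
        rw [LinearMap.mem_ker, ← Module.End.mul_apply, hAA]
        rfl
      have hbot : LinearMap.range A = ⊥ := by
        rw [eq_bot_iff]
        intro v hv
        have := hc.disjoint.le_bot (Submodule.mem_inf.mpr ⟨hle hv, hv⟩)
        exact this
      exact LinearMap.range_eq_bot.mp hbot
    have hA'0 : A' = 0 := by rw [hA'eq, hA0, neg_zero]
    rw [hA] at hA0
    rw [hA'] at hA'0
    obtain ⟨hdvd, hnil⟩ := kmod s f hfirr hA0
    rw [hdim] at hdvd hnil
    haveI : Fact (Irreducible f) := ⟨hfirr⟩
    have hI : ∀ a ∈ (Ideal.span {f} : Ideal F[X]), aeval s a = 0 := by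
      intro a ha
      obtain ⟨c, rfl⟩ := Ideal.mem_span_singleton.mp ha
      rw [map_mul, hA0, zero_mul]
    let ψ : AdjoinRoot f →ₐ[F] Module.End F V := Ideal.Quotient.liftₐ (Ideal.span {f}) (aeval s) hI
    have hψ : ψ (AdjoinRoot.root f) = s := by
      have h1 : ψ (AdjoinRoot.mk f X) = aeval s X := rfl
      rw [AdjoinRoot.mk_X, aeval_X] at h1
      exact h1
    have hψinj : Function.Injective ψ := (ψ : AdjoinRoot f →+* Module.End F V).injective
    have hk0 : AdjoinRoot.root f ≠ 0 := by
      intro h0
      have h1 : s = 0 := by rw [← hψ, h0, map_zero]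
      rw [h1, zero_mul] at hs1
      exact zero_ne_one hs1
    have hψinv : ψ (AdjoinRoot.root f)⁻¹ = sinv := by
      have h1 : ψ (AdjoinRoot.root f)⁻¹ * s = 1 := by
        rw [← hψ, ← map_mul, inv_mul_cancel₀ hk0, map_one]
      calc ψ (AdjoinRoot.root f)⁻¹ = ψ (AdjoinRoot.root f)⁻¹ * (s * sinv) := by rw [hs1, mul_one]
        _ = sinv := by rw [← mul_assoc, h1, one_mul]
    have hinv : aeval (AdjoinRoot.root f)⁻¹ f = 0 := by
      apply hψinj
      rw [← Polynomial.aeval_algHom_apply, hψinv, map_zero]
      exact hA'0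
    rcases galois_dichotomy f hk0 hinv with h | ⟨e, hfe, hke⟩
    · left
      rw [← hψ, ← map_pow, h, map_one]
    · right
      left
      rw [← hq] at hke
      have he1 : 1 ≤ e := by
        have := hfirr.natDegree_pos
        omega
      refine ⟨e, he1, ?_, ?_, ?_⟩
      · rw [hfe] at hdvd
        exact (Nat.mul_dvd_mul_iff_left (by norm_num : 0 < 2)).mp hdvd
      · rw [← hψ, ← map_pow, hke, map_one]
      · intro j hj
        have hnil' := hnil (u - 1) hN's hN'nil (p ^ j) (by rw [hfe]; nlinarith)
        exact pow_eq_one_of_sub_pow p u j hnil'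
  · right
    right
    obtain ⟨W, hW⟩ : ∃ W, W = LinearMap.ker A := ⟨_, rfl⟩
    obtain ⟨W', hW'⟩ : ∃ W', W' = LinearMap.ker A' := ⟨_, rfl⟩
    have hmemW : ∀ w, w ∈ W ↔ A w = 0 := fun w => by rw [hW, LinearMap.mem_ker]
    have hmemW' : ∀ w, w ∈ W' ↔ A' w = 0 := fun w => by rw [hW', LinearMap.mem_ker]
    have hdisj : W ⊓ W' = ⊥ := by
      rw [eq_bot_iff, ← hZ2]
      intro v hv
      obtain ⟨hv1, hv2⟩ := Submodule.mem_inf.mp hv
      rw [LinearMap.mem_ker, LinearMap.add_apply, (hmemW v).mp hv1, (hmemW' v).mp hv2, add_zero]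
    have hsup : W ⊔ W' = ⊤ := by
      have hc := isCompl_ker_range A' hA'ss
      have hle : LinearMap.range A' ≤ W := by
        rintro _ ⟨w, rfl⟩
        rw [hmemW, ← Module.End.mul_apply, hZ0]
        rfl
      rw [eq_top_iff, ← hc.sup_eq_top, ← hW']
      exact sup_le le_sup_right (hle.trans le_sup_left)
    have hcompl : IsCompl W W' := ⟨disjoint_iff.mpr hdisj, codisjoint_iff.mpr hsup⟩
    have hdecomp : ∀ v : V, ∃ a ∈ W, ∃ c ∈ W', v = a + c := by
      intro v
      have hv : v ∈ W ⊔ W' := by rw [hsup]; trivial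
      obtain ⟨a, ha, c, hc, rfl⟩ := Submodule.mem_sup.mp hv
      exact ⟨a, ha, c, hc, rfl⟩
    have hZ2inj : Function.Injective (A + A') := LinearMap.ker_eq_bot.mp hZ2
    have hZ2surj : Function.Surjective (A + A') := LinearMap.surjective_of_injective hZ2inj
    have hcommAA' : ∀ y, A' (A y) = A (A' y) := fun y => by
      have := congrArg (fun g : Module.End F V => g y) hAA'.eq
      simp only [Module.End.mul_apply] at this
      exact this.symm
    have hisoW : ∀ w₁ ∈ W, ∀ w₂ ∈ W, B w₁ w₂ = 0 := by
      intro w₁ h1 w₂ h2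
      obtain ⟨y, rfl⟩ := hZ2surj w₂
      have hy : A y = 0 := by
        apply hZ2inj
        have h3 : (A + A') (A y) = A ((A + A') y) := by
          simp only [LinearMap.add_apply, map_add]
          rw [hcommAA']
        rw [map_zero, h3, (hmemW _).mp h2]
      rw [LinearMap.add_apply, hy, zero_add, ← hadjA, (hmemW _).mp h1, map_zero,
        LinearMap.zero_apply]
    have hisoW' : ∀ w₁ ∈ W', ∀ w₂ ∈ W', B w₁ w₂ = 0 := by
      intro w₁ h1 w₂ h2
      obtain ⟨y, rfl⟩ := hZ2surj w₂
      have hy : A' y = 0 := by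
        apply hZ2inj
        have h3 : (A + A') (A' y) = A' ((A + A') y) := by
          simp only [LinearMap.add_apply, map_add]
          rw [hcommAA']
        rw [map_zero, h3, (hmemW' _).mp h2]
      rw [LinearMap.add_apply, hy, add_zero, ← hadjA', (hmemW' _).mp h1, map_zero,
        LinearMap.zero_apply]
    have hdimWW' := Submodule.finrank_add_eq_of_isCompl hcompl
    have hle1 : Module.finrank F W ≤ Module.finrank F W' := by
      let ψ : W →ₗ[F] W' →ₗ[F] F := B.domRestrict₁₂ W W'
      have hψinj : Function.Injective ψ := by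
        rw [← LinearMap.ker_eq_bot, LinearMap.ker_eq_bot']
        intro w hw
        apply Subtype.ext
        apply hnd
        intro v
        obtain ⟨a, ha, c, hc, rfl⟩ := hdecomp v
        rw [map_add, hisoW _ w.2 _ ha, zero_add]
        have := congrArg (fun g : W' →ₗ[F] F => g ⟨c, hc⟩) hw
        simpa [ψ, LinearMap.domRestrict₁₂_apply] using this
      have := LinearMap.finrank_le_finrank_of_injective hψinj
      rwa [Subspace.dual_finrank_eq] at this
    have hle2 : Module.finrank F W' ≤ Module.finrank F W := by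
      let ψ : W' →ₗ[F] W →ₗ[F] F := B.domRestrict₁₂ W' W
      have hψinj : Function.Injective ψ := by
        rw [← LinearMap.ker_eq_bot, LinearMap.ker_eq_bot']
        intro w hw
        apply Subtype.ext
        apply hnd
        intro v
        obtain ⟨a, ha, c, hc, rfl⟩ := hdecomp v
        rw [map_add, hisoW' _ w.2 _ hc, add_zero]
        have := congrArg (fun g : W →ₗ[F] F => g ⟨a, ha⟩) hw
        simpa [ψ, LinearMap.domRestrict₁₂_apply] using this
      have := LinearMap.finrank_le_finrank_of_injective hψinj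
      rwa [Subspace.dual_finrank_eq] at this
    have hdimW : Module.finrank F W = n := by omega
    have hdimW' : Module.finrank F W' = n := by omega
    have hcomm_of : ∀ (X Y : Module.End F V), Commute X Y → ∀ w, Y w = 0 → Y (X w) = 0 := by
      intro X Y hXY w hw
      have := congrArg (fun g : Module.End F V => g w) hXY.eq
      simp only [Module.End.mul_apply] at this
      rw [← this, hw, map_zero]
    have hsA : Commute s A := by rw [hA]; exact commute_aeval' s s (Commute.refl s) f
    have hsinvA' : Commute sinv A' := by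
      rw [hA']; exact commute_aeval' sinv sinv (Commute.refl sinv) f
    have hsW : ∀ w ∈ W, s w ∈ W := fun w hw => (hmemW _).mpr (hcomm_of s A hsA w ((hmemW w).mp hw))
    have hsinvW' : ∀ w ∈ W', sinv w ∈ W' := fun w hw =>
      (hmemW' _).mpr (hcomm_of sinv A' hsinvA' w ((hmemW' w).mp hw))
    obtain ⟨hdvd, hnilW⟩ := kmod_sub s f hfirr W hsW
      (fun w hw => by rw [← hA]; exact (hmemW w).mp hw)
    obtain ⟨-, hnilW'⟩ := kmod_sub sinv f hfirr W' hsinvW'
      (fun w hw => by rw [← hA']; exact (hmemW' w).mp hw)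
    rw [hdimW] at hdvd hnilW
    rw [hdimW'] at hnilW'
    obtain ⟨d, hd⟩ : ∃ d, d = f.natDegree := ⟨_, rfl⟩
    rw [← hd] at hdvd hnilW hnilW'
    have hd1 : 1 ≤ d := hd ▸ hfirr.natDegree_pos
    refine ⟨d, hd1, hdvd, ?_, ?_⟩
    · have hfX : f ∣ X ^ (q ^ d) - X := by
        have := hfirr.natDegree_dvd_iff_dvd_X_pow_card_pow_sub_X.mp (dvd_refl f.natDegree)
        rwa [Nat.card_eq_fintype_card, ← hq, ← hd] at this
      obtain ⟨g, hg⟩ := hfX
      have hg' : (X ^ (q ^ d) - X : F[X]) = g * f := by rw [hg, mul_comm]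
      have hkey : ∀ (S : Module.End F V) (a : V), aeval S f a = 0 → (S ^ (q ^ d)) a = S a := by
        intro S a ha
        have := congrArg (fun t : F[X] => aeval S t a) hg'
        simp only [map_sub, map_pow, aeval_X, map_mul, LinearMap.sub_apply,
          Module.End.mul_apply, ha, map_zero] at this
        exact sub_eq_zero.mp this
      have e1 : s ^ (q ^ d) * sinv ^ (q ^ d) = 1 := by rw [← hcss.mul_pow, hs1, one_pow]
      have hsq : s ^ (q ^ d) = s := by
        apply LinearMap.ext
        intro v
        obtain ⟨a, ha, c, hc, rfl⟩ := hdecomp v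
        have h1 : (s ^ (q ^ d)) a = s a := hkey s a (by rw [← hA]; exact (hmemW a).mp ha)
        have h2 : (sinv ^ (q ^ d)) c = sinv c :=
          hkey sinv c (by rw [← hA']; exact (hmemW' c).mp hc)
        have h3 : (s ^ (q ^ d)) c = s c := by
          have e2 : s ^ (q ^ d) * (s * sinv ^ (q ^ d)) = s := by
            rw [← mul_assoc, ← pow_succ, pow_succ', mul_assoc, e1, mul_one]
          have e3 : c = s (sinv c) := by
            rw [← Module.End.mul_apply s sinv, hs1, Module.End.one_apply]
          calc (s ^ (q ^ d)) c = (s ^ (q ^ d)) (s (sinv c)) := by rw [← e3]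
            _ = (s ^ (q ^ d)) (s ((sinv ^ (q ^ d)) c)) := by rw [h2]
            _ = s c := congrArg (fun g : Module.End F V => g c) e2
        rw [map_add, map_add, h1, h3]
      calc s ^ (q ^ d - 1) = s ^ (q ^ d - 1) * (s * sinv) := by rw [hs1, mul_one]
        _ = s ^ (q ^ d) * sinv := by
          rw [← mul_assoc, ← pow_succ, Nat.sub_add_cancel (Nat.one_le_pow _ _ (by omega))]
        _ = 1 := by rw [hsq, hs1]
    · intro j hj
      have hN'A : Commute (u - 1) A := by rw [hA]; exact commute_aeval' (u - 1) s hN's f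
      have hN'A' : Commute (u - 1) A' := by rw [hA']; exact commute_aeval' (u - 1) sinv hN'sinv f
      have hN'W : ∀ w ∈ W, (u - 1) w ∈ W := fun w hw =>
        (hmemW _).mpr (hcomm_of (u - 1) A hN'A w ((hmemW w).mp hw))
      have hN'W' : ∀ w ∈ W', (u - 1) w ∈ W' := fun w hw =>
        (hmemW' _).mpr (hcomm_of (u - 1) A' hN'A' w ((hmemW' w).mp hw))
      have h1 := hnilW (u - 1) hN's hN'nil hN'W (p ^ j) (by rw [mul_comm]; exact hj)
      have h2 := hnilW' (u - 1) hN'sinv hN'nil hN'W' (p ^ j) (by rw [mul_comm]; exact hj)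
      apply pow_eq_one_of_sub_pow p u j
      apply LinearMap.ext
      intro v
      obtain ⟨a, ha, c, hc, rfl⟩ := hdecomp v
      rw [map_add, h1 a ha, h2 c hc, add_zero]
      rfl

end main

end Cfsg.Agent.Helper42.SpStruct
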