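import Mathlib
import Cfsg.Agent.Helper42.UGroup
import Cfsg.Agent.Helper42.SpStruct

set_option autoImplicit false

/-!
# Structure of orthogonally indecomposable isometries of Hermitian spaces (helper42)

* `ustruct` : the semisimple part `s` of an orthogonally indecomposable isometry is annihilated by
  an irreducible polynomial `f` (and `s⁻¹` by `f^σ`), or the space is the sum of two complementary
  subspaces of equal dimension on which `f(s)`, resp. `f^σ(s⁻¹)`, vanish;
* `intertwine` : two endomorphisms annihilated by the same irreducible polynomial on spaces of the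
  same dimension are conjugate;
* `galois_core`, `galois_odd`, `pow_q_odd_inv` : Galois theory of the roots of `f`.
-/

namespace Cfsg.Agent.Helper42.UStruct

open Polynomial UForm UGroup

universe u v w

variable {F : Type u} [Field F]

section forms

variable {V : Type v} [AddCommGroup V] [Module F V]

/-- Orthogonal decomposability of an endomorphism with respect to a form. -/
def UOrthDec (H : V → V → F) (T : Module.End F V) : Prop :=
  ∃ V₁ V₂ : Submodule F V, IsCompl V₁ V₂ ∧ V₁ ≠ ⊥ ∧ V₂ ≠ ⊥ ∧ (∀ v ∈ V₁, T v ∈ V₁) ∧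
    (∀ v ∈ V₂, T v ∈ V₂) ∧ (∀ x ∈ V₁, ∀ y ∈ V₂, H x y = 0)

theorem zero_or_injective [FiniteDimensional F V] {σ : F →+* F} {H : V → V → F}
    (hH : IsHerm σ H) (T : Module.End F V)
    (hT : ¬ UOrthDec H T) (Z : Module.End F V) (hZ : Z.IsSemisimple) (hZT : Commute Z T)
    (hadj : ∀ x y, H (Z x) y = H x (Z y)) : Z = 0 ∨ LinearMap.ker Z = ⊥ := by
  by_contra hcon
  push Not at hcon
  apply hT
  have hcomm : ∀ v, Z (T v) = T (Z v) := fun v => by
    have := congrArg (fun g : Module.End F V => g v) hZT.eq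
    simpa [Module.End.mul_apply] using this
  refine ⟨LinearMap.ker Z, LinearMap.range Z, SpStruct.isCompl_ker_range Z hZ, hcon.2, ?_, ?_, ?_, ?_⟩
  · intro h
    exact hcon.1 (LinearMap.range_eq_bot.mp h)
  · intro v hv
    rw [LinearMap.mem_ker] at *
    rw [hcomm, hv, map_zero]
  · rintro _ ⟨w, rfl⟩
    exact ⟨T w, hcomm w⟩
  · rintro x hx _ ⟨w, rfl⟩
    rw [← hadj, LinearMap.mem_ker.mp hx, hH.zero_left]

/-- Adjoint pairs with respect to a form. -/
def UAdj (H : V → V → F) (A A' : Module.End F V) : Prop :=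
  ∀ x y, H (A x) y = H x (A' y)

theorem UAdj.pow {H : V → V → F} {A A' : Module.End F V} (h : UAdj H A A')
    (k : ℕ) : UAdj H (A ^ k) (A' ^ k) := by
  induction k with
  | zero => intro x y; rfl
  | succ k ih =>
    intro x y
    rw [pow_succ, pow_succ', Module.End.mul_apply, Module.End.mul_apply, ih, h]

theorem UAdj.aeval {σ : F →+* F} {H : V → V → F} (hH : IsHerm σ H) (hσ : ∀ c, σ (σ c) = c)
    {A A' : Module.End F V} (h : UAdj H A A') (a : F[X]) :
    UAdj H (aeval A a) (aeval A' (a.map σ)) := by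
  induction a using Polynomial.induction_on' with
  | add p q hp hq =>
    intro x y
    rw [map_add, Polynomial.map_add, map_add, LinearMap.add_apply, LinearMap.add_apply,
      hH.add_left, hH.add_right, hp, hq]
  | monomial k c =>
    intro x y
    rw [aeval_monomial, Polynomial.map_monomial, aeval_monomial, Module.End.mul_apply,
      Module.End.mul_apply, Module.algebraMap_end_apply, Module.algebraMap_end_apply, hH.smul_left,
      hH.smul_right, hσ, h.pow k]

/-- **Structure of the semisimple part of an orthogonally indecomposable isometry.** -/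
theorem ustruct [Finite F] [FiniteDimensional F V] [Nontrivial V] {σ : F →+* F}
    (hσ : ∀ c, σ (σ c) = c) {H : V → V → F} (hH : IsHerm σ H)
    (hnd : ∀ v, (∀ w, H v w = 0) → v = 0) (T : Module.End F V) (hT : ¬ UOrthDec H T)
    (s : Module.End F V) (hsT : Commute s T) (hsH : UPres H s) (M : ℕ) (hM : 0 < M)
    (hsM : s ^ M = 1) (hss : s.IsSemisimple) :
    ∃ f : F[X], Irreducible f ∧ f ∣ X ^ M - 1 ∧
      ((aeval s f = 0 ∧ f ∣ (f.map σ).comp (X ^ (M - 1))) ∨
       (∃ W W' : Submodule F V, IsCompl W W' ∧ (∀ w ∈ W, s w ∈ W) ∧ (∀ w ∈ W', s w ∈ W') ∧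
         (∀ w ∈ W', (s ^ (M - 1)) w ∈ W') ∧
         (∀ w ∈ W, aeval s f w = 0) ∧ (∀ w ∈ W', aeval (s ^ (M - 1)) (f.map σ) w = 0) ∧
         Module.finrank F W = Module.finrank F W')) := by
  classical
  obtain ⟨sinv, hsinv⟩ : ∃ sinv, sinv = s ^ (M - 1) := ⟨_, rfl⟩
  rw [← hsinv]
  have hs1 : s * sinv = 1 := by rw [hsinv, ← pow_succ', Nat.sub_add_cancel hM, hsM]
  have hs2 : sinv * s = 1 := by rw [hsinv, ← pow_succ, Nat.sub_add_cancel hM, hsM]
  have hcss : Commute s sinv := by rw [hsinv]; exact (Commute.refl s).pow_right _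
  have hsinvT : Commute sinv T := by rw [hsinv]; exact hsT.pow_left _
  have hsinvss : sinv.IsSemisimple := by rw [hsinv]; exact hss.pow _
  have hadj1 : UAdj H s sinv := by
    intro x y
    have := hsH x (sinv y)
    rw [← Module.End.mul_apply s sinv, hs1, Module.End.one_apply] at this
    exact this
  have hadj2 : UAdj H sinv s := by
    intro x y
    have := hsH (sinv x) y
    rw [← Module.End.mul_apply s sinv, hs1, Module.End.one_apply] at this
    exact this.symm
  have hμ : ¬ IsUnit (minpoly F s) := minpoly.not_isUnit F s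
  obtain ⟨f, hfmonic, hfirr, hfdvd⟩ := Polynomial.exists_monic_irreducible_factor _ hμ
  have hXM : aeval s (X ^ M - 1 : F[X]) = 0 := by
    rw [map_sub, map_pow, aeval_X, map_one, hsM, sub_self]
  have hfXM : f ∣ X ^ M - 1 := hfdvd.trans (minpoly.dvd F s hXM)
  obtain ⟨A, hA⟩ : ∃ A, A = aeval s f := ⟨_, rfl⟩
  obtain ⟨A', hA'⟩ : ∃ A', A' = aeval sinv (f.map σ) := ⟨_, rfl⟩
  have hAss : A.IsSemisimple := by rw [hA]; exact hss.aeval f
  have hA'ss : A'.IsSemisimple := by rw [hA']; exact hsinvss.aeval _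
  have hAA' : Commute A A' := by
    have h1 : Commute s A' := by rw [hA']; exact SpStruct.commute_aeval' s sinv hcss _
    rw [hA]
    exact (SpStruct.commute_aeval' A' s h1.symm f).symm
  have hAT : Commute A T := by rw [hA]; exact (SpStruct.commute_aeval' T s hsT.symm f).symm
  have hA'T : Commute A' T := by
    rw [hA']; exact (SpStruct.commute_aeval' T sinv hsinvT.symm _).symm
  have hadjA : UAdj H A A' := by rw [hA, hA']; exact hadj1.aeval hH hσ f
  have hadjA' : UAdj H A' A := by
    have := hadj2.aeval hH hσ (f.map σ)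
    rw [Polynomial.map_map, show σ.comp σ = RingHom.id F from RingHom.ext hσ,
      Polynomial.map_id] at this
    rw [hA, hA']
    exact this
  have hkerA : LinearMap.ker A ≠ ⊥ := by
    intro hbot
    obtain ⟨h, hh⟩ := hfdvd
    have hinj : Function.Injective A := LinearMap.ker_eq_bot.mp hbot
    have h0 : aeval s h = 0 := by
      apply LinearMap.ext
      intro v
      apply hinj
      rw [← Module.End.mul_apply, hA, ← map_mul, ← hh, minpoly.aeval]
      simp
    have h3 := minpoly.dvd F s h0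
    have hh0 : h ≠ 0 := by
      rintro rfl
      rw [mul_zero] at hh
      exact minpoly.ne_zero (Algebra.IsIntegral.isIntegral s) hh
    have h4 : f * h ∣ 1 * h := by
      rw [one_mul, ← hh]
      exact h3
    exact hfirr.not_isUnit (isUnit_of_dvd_one ((mul_dvd_mul_iff_right hh0).mp h4))
  have hZ0 : A * A' = 0 := by
    have hZss : (A * A').IsSemisimple := Module.End.IsSemisimple.mul_of_commute hAA' hAss hA'ss
    have hZT : Commute (A * A') T := hAT.mul_left hA'T
    have hZadj : ∀ x y, H ((A * A') x) y = H x ((A * A') y) := by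
      intro x y
      rw [Module.End.mul_apply, hadjA, hadjA', ← Module.End.mul_apply]
    rcases zero_or_injective hH T hT _ hZss hZT hZadj with h | h
    · exact h
    · exfalso
      apply hkerA
      rw [eq_bot_iff, ← h]
      intro v hv
      rw [LinearMap.mem_ker] at *
      rw [hAA'.eq, Module.End.mul_apply, hv, map_zero]
  have hZ2 : A + A' = 0 ∨ LinearMap.ker (A + A') = ⊥ := by
    refine zero_or_injective hH T hT _
      (Module.End.IsSemisimple.add_of_commute hAA' hAss hA'ss) (hAT.add_left hA'T) ?_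
    intro x y
    rw [LinearMap.add_apply, LinearMap.add_apply, hH.add_left, hH.add_right, hadjA, hadjA',
      add_comm]
  refine ⟨f, hfirr, hfXM, ?_⟩
  rcases hZ2 with hZ2 | hZ2
  · left
    have hA'eq : A' = -A := eq_neg_of_add_eq_zero_right hZ2
    have hAA : A * A = 0 := by
      have h1 : A * A' = -(A * A) := by rw [hA'eq, mul_neg]
      rw [hZ0] at h1
      exact neg_eq_zero.mp h1.symm
    have hA0 : A = 0 := by
      have hc := SpStruct.isCompl_ker_range A hAss
      have hle : LinearMap.range A ≤ LinearMap.ker A := by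
        rintro _ ⟨w, rfl⟩
        rw [LinearMap.mem_ker, ← Module.End.mul_apply, hAA]
        rfl
      have hbot : LinearMap.range A = ⊥ := by
        rw [eq_bot_iff]
        intro v hv
        have := hc.disjoint.le_bot (Submodule.mem_inf.mpr ⟨hle hv, hv⟩)
        exact this
      exact LinearMap.range_eq_bot.mp hbot
    have hA'0 : A' = 0 := by rw [hA'eq, hA0, neg_zero]
    rw [hA] at hA0
    refine ⟨hA0, ?_⟩
    have h0 : aeval s ((f.map σ).comp (X ^ (M - 1))) = 0 := by
      rw [aeval_comp, map_pow, aeval_X, ← hsinv, ← hA', hA'0]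
    exact hfdvd.trans (minpoly.dvd F s h0)
  · right
    obtain ⟨W, hW⟩ : ∃ W, W = LinearMap.ker A := ⟨_, rfl⟩
    obtain ⟨W', hW'⟩ : ∃ W', W' = LinearMap.ker A' := ⟨_, rfl⟩
    have hmemW : ∀ w, w ∈ W ↔ A w = 0 := fun w => by rw [hW, LinearMap.mem_ker]
    have hmemW' : ∀ w, w ∈ W' ↔ A' w = 0 := fun w => by rw [hW', LinearMap.mem_ker]
    have hdisj : W ⊓ W' = ⊥ := by
      rw [eq_bot_iff, ← hZ2]
      intro v hv
      obtain ⟨hv1, hv2⟩ := Submodule.mem_inf.mp hv
      rw [LinearMap.mem_ker, LinearMap.add_apply, (hmemW v).mp hv1, (hmemW' v).mp hv2, add_zero]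
    have hsup : W ⊔ W' = ⊤ := by
      have hc := SpStruct.isCompl_ker_range A' hA'ss
      have hle : LinearMap.range A' ≤ W := by
        rintro _ ⟨w, rfl⟩
        rw [hmemW, ← Module.End.mul_apply, hZ0]
        rfl
      rw [eq_top_iff, ← hc.sup_eq_top, ← hW']
      exact sup_le le_sup_right (hle.trans le_sup_left)
    have hcompl : IsCompl W W' := ⟨disjoint_iff.mpr hdisj, codisjoint_iff.mpr hsup⟩
    have hdecomp : ∀ v : V, ∃ a ∈ W, ∃ c ∈ W', v = a + c := by
      intro v
      have hv : v ∈ W ⊔ W' := by rw [hsup]; trivial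
      obtain ⟨a, ha, c, hc, rfl⟩ := Submodule.mem_sup.mp hv
      exact ⟨a, ha, c, hc, rfl⟩
    have hdecomp' : ∀ v : V, ∃ a ∈ W', ∃ c ∈ W, v = a + c := by
      intro v
      obtain ⟨a, ha, c, hc, rfl⟩ := hdecomp v
      exact ⟨c, hc, a, ha, add_comm a c⟩
    have hZ2inj : Function.Injective (A + A') := LinearMap.ker_eq_bot.mp hZ2
    have hZ2surj : Function.Surjective (A + A') := LinearMap.surjective_of_injective hZ2inj
    have hcommAA' : ∀ y, A' (A y) = A (A' y) := fun y => by
      have := congrArg (fun g : Module.End F V => g y) hAA'.eq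
      simp only [Module.End.mul_apply] at this
      exact this.symm
    have hisoW : ∀ w₁ ∈ W, ∀ w₂ ∈ W, H w₁ w₂ = 0 := by
      intro w₁ h1 w₂ h2
      obtain ⟨y, rfl⟩ := hZ2surj w₂
      have hy : A y = 0 := by
        apply hZ2inj
        have h3 : (A + A') (A y) = A ((A + A') y) := by
          simp only [LinearMap.add_apply, map_add]
          rw [hcommAA']
        rw [map_zero, h3, (hmemW _).mp h2]
      rw [LinearMap.add_apply, hy, zero_add, ← hadjA, (hmemW _).mp h1, hH.zero_left]
    have hisoW' : ∀ w₁ ∈ W', ∀ w₂ ∈ W', H w₁ w₂ = 0 := by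
      intro w₁ h1 w₂ h2
      obtain ⟨y, rfl⟩ := hZ2surj w₂
      have hy : A' y = 0 := by
        apply hZ2inj
        have h3 : (A + A') (A' y) = A' ((A + A') y) := by
          simp only [LinearMap.add_apply, map_add]
          rw [hcommAA']
        rw [map_zero, h3, (hmemW' _).mp h2]
      rw [LinearMap.add_apply, hy, add_zero, ← hadjA', (hmemW' _).mp h1, hH.zero_left]
    haveI : Finite V := Module.finite_of_finite F
    have hle : ∀ (W₁ W₂ : Submodule F V), (∀ a ∈ W₁, ∀ b ∈ W₁, H a b = 0) →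
        (∀ v : V, ∃ a ∈ W₁, ∃ c ∈ W₂, v = a + c) →
        Module.finrank F W₁ ≤ Module.finrank F W₂ := by
      intro W₁ W₂ hiso hdec
      let ψ : W₁ → Module.Dual F W₂ := fun w =>
        { toFun := fun w' => H (w' : V) (w : V)
          map_add' := fun a b => hH.add_left _ _ _
          map_smul' := fun c a => by
            simp only [RingHom.id_apply, smul_eq_mul]
            exact hH.smul_left c _ _ }
      have hψinj : Function.Injective ψ := by
        intro w₁ w₂ h12
        have h1 : ∀ v, H v ((w₁ : V) - (w₂ : V)) = 0 := by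
          intro v
          obtain ⟨a, ha, c, hc, rfl⟩ := hdec v
          have h3 : H c (w₁ : V) = H c (w₂ : V) :=
            congrArg (fun g : Module.Dual F W₂ => g ⟨c, hc⟩) h12
          rw [hH.add_left, hH.sub_right, hH.sub_right, hiso a ha _ w₁.2, hiso a ha _ w₂.2, h3]
          ring
        have h4 : (w₁ : V) - (w₂ : V) = 0 := by
          apply hnd
          intro v
          rw [hH.conj, h1, map_zero]
        exact Subtype.ext (sub_eq_zero.mp h4)
      haveI : Finite (Module.Dual F W₂) := Module.finite_of_finite F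
      have hcard := Nat.card_le_card_of_injective ψ hψinj
      rw [Module.natCard_eq_pow_finrank (K := F) (V := W₁),
        Module.natCard_eq_pow_finrank (K := F) (V := Module.Dual F W₂),
        Subspace.dual_finrank_eq] at hcard
      exact (Nat.pow_le_pow_iff_right Finite.one_lt_card).mp hcard
    have hle1 := hle W W' hisoW hdecomp
    have hle2 := hle W' W hisoW' hdecomp'
    have hcomm_of : ∀ (X Y : Module.End F V), Commute X Y → ∀ w, Y w = 0 → Y (X w) = 0 := by
      intro X Y hXY w hw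
      have := congrArg (fun g : Module.End F V => g w) hXY.eq
      simp only [Module.End.mul_apply] at this
      rw [← this, hw, map_zero]
    have hsA : Commute s A := by rw [hA]; exact SpStruct.commute_aeval' s s (Commute.refl s) f
    have hsA' : Commute s A' := by rw [hA']; exact SpStruct.commute_aeval' s sinv hcss _
    have hsinvA' : Commute sinv A' := by
      rw [hA']; exact SpStruct.commute_aeval' sinv sinv (Commute.refl sinv) _
    refine ⟨W, W', hcompl, ?_, ?_, ?_, ?_, ?_, le_antisymm hle1 hle2⟩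
    · exact fun w hw => (hmemW _).mpr (hcomm_of s A hsA w ((hmemW w).mp hw))
    · exact fun w hw => (hmemW' _).mpr (hcomm_of s A' hsA' w ((hmemW' w).mp hw))
    · exact fun w hw => (hmemW' _).mpr (hcomm_of sinv A' hsinvA' w ((hmemW' w).mp hw))
    · exact fun w hw => by rw [← hA]; exact (hmemW w).mp hw
    · exact fun w hw => by rw [← hA']; exact (hmemW' w).mp hw

end forms

section intertwine

variable {M₁ : Type v} {M₂ : Type w} [AddCommGroup M₁] [Module F M₁] [FiniteDimensional F M₁]
  [AddCommGroup M₂] [Module F M₂] [FiniteDimensional F M₂]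

/-- Two endomorphisms annihilated by the same irreducible polynomial, on spaces of the same
dimension, are conjugate. -/
theorem intertwine (S₁ : Module.End F M₁) (S₂ : Module.End F M₂) (f : F[X]) (hf : Irreducible f)
    (h₁ : aeval S₁ f = 0) (h₂ : aeval S₂ f = 0)
    (hdim : Module.finrank F M₁ = Module.finrank F M₂) :
    ∃ Ψ : M₁ ≃ₗ[F] M₂, ∀ x, Ψ (S₁ x) = S₂ (Ψ x) := by
  classical
  haveI : Fact (Irreducible f) := ⟨hf⟩
  have htors₁ : Module.IsTorsionBySet F[X] (Module.AEval' S₁) (Ideal.span {f}) := by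
    rw [Module.isTorsionBySet_span_singleton_iff]
    intro m
    obtain ⟨v, rfl⟩ := (Module.AEval'.of S₁).surjective m
    rw [← Module.AEval.of_aeval_smul, h₁, zero_smul, map_zero]
  have htors₂ : Module.IsTorsionBySet F[X] (Module.AEval' S₂) (Ideal.span {f}) := by
    rw [Module.isTorsionBySet_span_singleton_iff]
    intro m
    obtain ⟨v, rfl⟩ := (Module.AEval'.of S₂).surjective m
    rw [← Module.AEval.of_aeval_smul, h₂, zero_smul, map_zero]
  letI inst₁ : Module (AdjoinRoot f) (Module.AEval' S₁) := htors₁.module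
  haveI : IsScalarTower F (AdjoinRoot f) (Module.AEval' S₁) := htors₁.isScalarTower
  letI inst₂ : Module (AdjoinRoot f) (Module.AEval' S₂) := htors₂.module
  haveI : IsScalarTower F (AdjoinRoot f) (Module.AEval' S₂) := htors₂.isScalarTower
  have hfinE : Module.finrank F (AdjoinRoot f) = f.natDegree := finrank_quotient_span_eq_natDegree
  have hdpos : 0 < f.natDegree := hf.natDegree_pos
  have hfin₁ : Module.finrank F (Module.AEval' S₁) = Module.finrank F M₁ :=
    ((Module.AEval'.of S₁).finrank_eq).symm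
  have hfin₂ : Module.finrank F (Module.AEval' S₂) = Module.finrank F M₂ :=
    ((Module.AEval'.of S₂).finrank_eq).symm
  haveI : Module.Finite F (Module.AEval' S₁) := Module.Finite.equiv (Module.AEval'.of S₁)
  haveI : Module.Finite F (Module.AEval' S₂) := Module.Finite.equiv (Module.AEval'.of S₂)
  haveI : Module.Finite F (AdjoinRoot f) :=
    Module.finite_of_finrank_pos (by rw [hfinE]; exact hdpos)
  haveI : Module.Finite (AdjoinRoot f) (Module.AEval' S₁) :=
    Module.Finite.of_restrictScalars_finite F _ _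
  haveI : Module.Finite (AdjoinRoot f) (Module.AEval' S₂) :=
    Module.Finite.of_restrictScalars_finite F _ _
  have htower₁ := Module.finrank_mul_finrank F (AdjoinRoot f) (Module.AEval' S₁)
  have htower₂ := Module.finrank_mul_finrank F (AdjoinRoot f) (Module.AEval' S₂)
  have heq : Module.finrank (AdjoinRoot f) (Module.AEval' S₁)
      = Module.finrank (AdjoinRoot f) (Module.AEval' S₂) := by
    have h1 : Module.finrank F (AdjoinRoot f) * Module.finrank (AdjoinRoot f) (Module.AEval' S₁)
        = Module.finrank F (AdjoinRoot f) * Module.finrank (AdjoinRoot f) (Module.AEval' S₂) := by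
      rw [htower₁, htower₂, hfin₁, hfin₂, hdim]
    exact Nat.eq_of_mul_eq_mul_left (by rw [hfinE]; exact hdpos) h1
  let ΦE : Module.AEval' S₁ ≃ₗ[AdjoinRoot f] Module.AEval' S₂ := LinearEquiv.ofFinrankEq _ _ heq
  let Ψ : M₁ ≃ₗ[F] M₂ :=
    ((Module.AEval'.of S₁).trans (ΦE.restrictScalars F)).trans (Module.AEval'.of S₂).symm
  refine ⟨Ψ, fun x => ?_⟩
  have h3 : ∀ m : Module.AEval' S₂, (AdjoinRoot.root f) • m = (X : F[X]) • m := fun m => rfl
  have h3' : ∀ m : Module.AEval' S₁, (AdjoinRoot.root f) • m = (X : F[X]) • m := fun m => rfl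
  have h4 : Module.AEval'.of S₁ (S₁ x) = (AdjoinRoot.root f) • Module.AEval'.of S₁ x := by
    rw [h3', Module.AEval'.X_smul_of]
  show (Module.AEval'.of S₂).symm (ΦE (Module.AEval'.of S₁ (S₁ x)))
    = S₂ ((Module.AEval'.of S₂).symm (ΦE (Module.AEval'.of S₁ x)))
  rw [h4, map_smul, h3, Module.AEval'.of_symm_X_smul]

/-- The version of `intertwine` for an invariant subspace. -/
theorem intertwine_sub (S₁ : Module.End F M₁) (W : Submodule F M₁) (hW : ∀ w ∈ W, S₁ w ∈ W)
    (S₂ : Module.End F M₂) (f : F[X]) (hf : Irreducible f)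
    (h₁ : ∀ w ∈ W, aeval S₁ f w = 0) (h₂ : aeval S₂ f = 0)
    (hdim : Module.finrank F W = Module.finrank F M₂) :
    ∃ Ψ : W ≃ₗ[F] M₂, ∀ x : W, Ψ ⟨S₁ x, hW x x.2⟩ = S₂ (Ψ x) := by
  have hfS : aeval (S₁.restrict hW) f = 0 := by
    apply LinearMap.ext
    intro w
    apply Subtype.ext
    rw [SpStruct.aeval_restrict, h₁ w w.2]
    rfl
  obtain ⟨Ψ, hΨ⟩ := intertwine (S₁.restrict hW) S₂ f hf hfS h₂ hdim
  exact ⟨Ψ, fun x => hΨ x⟩

end intertwine

section roots

variable [Finite F]

/-- An irreducible polynomial whose degree divides `m` has a root in the extension of degree `m`. -/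
theorem exists_root (p : ℕ) [Fact p.Prime] [CharP F p] (m : ℕ) [NeZero m] (f : F[X])
    (hf : Irreducible f) (hdvd : f.natDegree ∣ m) :
    ∃ k : FiniteField.Extension F p m, aeval k f = 0 := by
  have hsplit : f ∣ X ^ (Nat.card F) ^ m - X :=
    hf.natDegree_dvd_iff_dvd_X_pow_card_pow_sub_X.mp hdvd
  have hne : (X ^ (Nat.card F) ^ m - X : F[X]) ≠ 0 :=
    FiniteField.X_pow_card_pow_sub_X_ne_zero F (NeZero.ne m) Finite.one_lt_card
  have hsp : (f.map (algebraMap F (FiniteField.Extension F p m))).Splits :=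
    Splits.of_dvd (IsSplittingField.splits (FiniteField.Extension F p m) (X ^ (Nat.card F) ^ m - X))
      (Polynomial.map_ne_zero hne) (Polynomial.map_dvd _ hsplit)
  obtain ⟨k, hk⟩ := hsp.exists_eval_eq_zero (by
    rw [degree_map]
    exact (degree_pos_of_irreducible hf).ne')
  refine ⟨k, ?_⟩
  rw [← hk, eval_map]
  rfl

end roots

section galois

variable (p : ℕ) [Fact p.Prime] [CharP F p]

/-- Frobenius and evaluation of polynomials. -/
theorem aeval_frob {K : Type*} [Field K] [Algebra F K] (σ : F →+* F) (t : ℕ)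
    (hσ : ∀ c, σ c = c ^ (p ^ t)) (y : K) (f : F[X]) :
    (aeval y f) ^ (p ^ t) = aeval (y ^ (p ^ t)) (f.map σ) := by
  haveI : CharP K p := charP_of_injective_algebraMap (algebraMap F K).injective p
  induction f using Polynomial.induction_on' with
  | add f g hf hg => rw [map_add, add_pow_char_pow, hf, hg, Polynomial.map_add, map_add]
  | monomial k c =>
    rw [aeval_monomial, Polynomial.map_monomial, aeval_monomial, mul_pow, ← map_pow, hσ, ← pow_mul,
      ← pow_mul, mul_comm k]

variable [Fintype F]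

/-- If `k` is a root of `f` and `k⁻¹` a root of `f^σ` then `k^(q^j) = k⁻¹` for some odd `j`. -/
theorem galois_core (t : ℕ) (hF : Fintype.card F = (p ^ t) ^ 2) (σ : F →+* F)
    (hσ : ∀ c, σ c = c ^ (p ^ t)) {K : Type*} [Field K] [Finite K] [Algebra F K] (m : ℕ)
    (hm : 1 ≤ m) (hK : ∀ x : K, x ^ ((p ^ t) ^ (2 * m)) = x) (k : K) (f : F[X])
    (hf : Irreducible f) (hfk : aeval k f = 0) (hfk' : aeval k⁻¹ (f.map σ) = 0) :
    ∃ j, Odd j ∧ k ^ ((p ^ t) ^ j) = k⁻¹ := by
  have hp : p.Prime := Fact.out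
  obtain ⟨y, hy⟩ : ∃ y, y = (k⁻¹) ^ ((p ^ t) ^ (2 * m - 1)) := ⟨_, rfl⟩
  have hyq : y ^ (p ^ t) = k⁻¹ := by
    rw [hy, ← pow_mul, ← pow_succ, Nat.sub_add_cancel (by omega), hK]
  have hfy : aeval y f = 0 := by
    have h1 := aeval_frob p σ t hσ y f
    rw [hyq, hfk'] at h1
    exact (pow_eq_zero_iff (pow_pos hp.pos t).ne').mp h1
  have hconj : IsConjRoot F k y := by
    rw [isConjRoot_def, ← minpoly.eq_of_irreducible hf hfk, ← minpoly.eq_of_irreducible hf hfy]
  obtain ⟨τ, hτ⟩ := hconj.exists_algEquiv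
  obtain ⟨⟨i, hi⟩, hiτ⟩ := (FiniteField.bijective_frobeniusAlgHom_pow F K).2 (τ : K →ₐ[F] K)
  simp only at hiτ
  have hfrob : ∀ x : K, τ x = x ^ (Fintype.card F ^ i) := by
    intro x
    have h1 := congrArg (fun g : K →ₐ[F] K => g x) hiτ
    simp only [AlgHom.coe_pow, FiniteField.coe_frobeniusAlgHom, pow_iterate] at h1
    exact h1.symm
  have h1 : k = (k⁻¹) ^ ((p ^ t) ^ (2 * m - 1 + 2 * i)) := by
    calc k = τ y := hτ.symm
      _ = y ^ (((p ^ t) ^ 2) ^ i) := by rw [hfrob, hF]
      _ = (k⁻¹) ^ ((p ^ t) ^ (2 * m - 1) * ((p ^ t) ^ 2) ^ i) := by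
        rw [hy]
        exact (pow_mul _ _ _).symm
      _ = (k⁻¹) ^ ((p ^ t) ^ (2 * m - 1 + 2 * i)) := by
        congr 1
        rw [pow_add, pow_mul _ 2 i]
  refine ⟨2 * m - 1 + 2 * i, ?_, ?_⟩
  · rw [Nat.odd_iff]
    omega
  · calc k ^ ((p ^ t) ^ (2 * m - 1 + 2 * i))
        = ((k⁻¹) ^ ((p ^ t) ^ (2 * m - 1 + 2 * i)))⁻¹ := by rw [inv_pow, inv_inv]
      _ = k⁻¹ := by rw [← h1]

omit [Fact p.Prime] [CharP F p] [Fintype F] in
/-- The parity trick: if `k^(Q^j) = k⁻¹` with `j` odd and `k^(Q^(2n)) = k` with `n` odd then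
`k^(Q^n) = k⁻¹`. -/
theorem pow_q_odd_inv {K : Type*} [Field K] (Q : ℕ) (k : K) (n j : ℕ) (hn : Odd n) (hj : Odd j)
    (h1 : k ^ (Q ^ j) = k⁻¹) (h2 : k ^ (Q ^ (2 * n)) = k) : k ^ (Q ^ n) = k⁻¹ := by
  have h2j : k ^ (Q ^ (2 * j)) = k := by
    rw [two_mul, pow_add, pow_mul, h1, inv_pow, h1, inv_inv]
  have c1 : ∀ t : ℕ, k ^ (Q ^ (j * (2 * t + 1))) = k⁻¹ := by
    intro t
    induction t with
    | zero => rw [mul_zero, zero_add, mul_one, h1]
    | succ t ih =>
      have e : j * (2 * (t + 1) + 1) = j * (2 * t + 1) + 2 * j := by ring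
      rw [e, pow_add, pow_mul, ih, inv_pow, h2j]
  have c2 : ∀ t : ℕ, k ^ (Q ^ (n * (2 * t + 1))) = k ^ (Q ^ n) := by
    intro t
    induction t with
    | zero => rw [mul_zero, zero_add, mul_one]
    | succ t ih =>
      have e : n * (2 * (t + 1) + 1) = 2 * n + n * (2 * t + 1) := by ring
      rw [e, pow_add, pow_mul, h2, ih]
  obtain ⟨t₁, ht₁⟩ := hj
  obtain ⟨t₂, ht₂⟩ := hn
  have e1 := c1 t₂
  have e2 := c2 t₁
  rw [← ht₂] at e1
  rw [← ht₁, mul_comm] at e2
  rw [← e2, e1]

/-- In case A of `ustruct` the degree of `f` is odd. -/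
theorem galois_odd (t : ℕ) (hF : Fintype.card F = (p ^ t) ^ 2) (σ : F →+* F)
    (hσ : ∀ c, σ c = c ^ (p ^ t)) (f : F[X]) (hf : Irreducible f) (M : ℕ) (hM : 0 < M)
    (h1 : f ∣ X ^ M - 1) (h2 : f ∣ (f.map σ).comp (X ^ (M - 1))) : Odd f.natDegree := by
  haveI : Fact (Irreducible f) := ⟨hf⟩
  have hfin : Module.finrank F (AdjoinRoot f) = f.natDegree := finrank_quotient_span_eq_natDegree
  have hdpos : 0 < f.natDegree := hf.natDegree_pos
  haveI : Module.Finite F (AdjoinRoot f) := Module.finite_of_finrank_pos (by rw [hfin]; exact hdpos)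
  haveI : Finite (AdjoinRoot f) := Module.finite_of_finite F
  obtain ⟨k, hk⟩ : ∃ k, k = AdjoinRoot.root f := ⟨_, rfl⟩
  have hfk : aeval k f = 0 := by rw [hk, AdjoinRoot.aeval_eq, AdjoinRoot.mk_self]
  have hkM : k ^ M = 1 := by
    obtain ⟨g, hg⟩ := h1
    have h3 := congrArg (aeval k) hg
    rw [map_mul, hfk, zero_mul, map_sub, map_pow, aeval_X, map_one] at h3
    exact sub_eq_zero.mp h3
  have hk0 : k ≠ 0 := by
    rintro rfl
    rw [zero_pow hM.ne'] at hkM
    exact zero_ne_one hkM
  have hkinv : k⁻¹ = k ^ (M - 1) := by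
    apply inv_eq_of_mul_eq_one_right
    rw [← pow_succ', Nat.sub_add_cancel hM, hkM]
  have hfk' : aeval k⁻¹ (f.map σ) = 0 := by
    obtain ⟨g, hg⟩ := h2
    have h3 := congrArg (aeval k) hg
    rw [map_mul, hfk, zero_mul, aeval_comp, map_pow, aeval_X, ← hkinv] at h3
    exact h3
  have hK : ∀ x : AdjoinRoot f, x ^ ((p ^ t) ^ (2 * f.natDegree)) = x := by
    intro x
    have := Fintype.ofFinite (AdjoinRoot f)
    have h3 := FiniteField.pow_card x
    rwa [Fintype.card_eq_nat_card, Module.natCard_eq_pow_finrank (K := F), hfin,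
      Nat.card_eq_fintype_card, hF, ← pow_mul] at h3
  obtain ⟨j, hjodd, hj⟩ := galois_core p t hF σ hσ f.natDegree hdpos hK k f hf hfk hfk'
  have h3 : ((FiniteField.frobeniusAlgHom F (AdjoinRoot f)) ^ j) = 1 := by
    apply AdjoinRoot.algHom_ext
    rw [AlgHom.coe_pow, FiniteField.coe_frobeniusAlgHom, pow_iterate, AlgHom.one_apply, hF, ← hk]
    show k ^ (((p ^ t) ^ 2) ^ j) = k
    rw [← pow_mul (p ^ t) 2 j, two_mul, pow_add, pow_mul k, hj, inv_pow, hj, inv_inv]
  have h4 := orderOf_dvd_of_pow_eq_one h3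
  rw [FiniteField.orderOf_frobeniusAlgHom, hfin] at h4
  exact Odd.of_dvd_nat hjodd h4

end galois

end Cfsg.Agent.Helper42.UStruct
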