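import Mathlib
import Cfsg.Agent.Helper42.UModels
import Cfsg.Agent.Helper42.UStruct

set_option autoImplicit false

/-!
# Cyclic maximal tori of `SU_n(q)` covering the semisimple parts (helper42)

* `torus_odd_core` : for `n` odd, an element `g*` of `SU_n(q)` (a generator of the torus of order
  `(q^n+1)/(q+1)`) such that every endomorphism of determinant one annihilated by an irreducible
  polynomial `f` with `f ∣ f^σ(X^{-1})` has its projective order dividing that of `g*`;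
* `torus_even_core`, `even_data` : the analogue for `n` even, with the torus `GL_1(q^n) ∩ SU_n(q)`.
-/

namespace Cfsg.Agent.Helper42.UTorus

open UForm UGroup UModels UStruct Polynomial ProjOrd

universe u v w

variable {F : Type u} [Field F]

section general

variable {K : Type v} [Field K] [Algebra F K]

theorem aeval_mul (k : K) (f : F[X]) :
    aeval (LinearMap.mul F K k) f = LinearMap.mul F K (aeval k f) := by
  induction f using Polynomial.induction_on' with
  | add f g hf hg => rw [map_add, map_add, hf, hg, map_add]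
  | monomial i c =>
    rw [aeval_monomial, aeval_monomial, mul_pow_eq]
    apply LinearMap.ext
    intro x
    simp [Module.algebraMap_end_apply, Algebra.smul_def, mul_assoc]

theorem aeval_prodMap {V₁ : Type v} {V₂ : Type w} [AddCommGroup V₁] [Module F V₁] [AddCommGroup V₂]
    [Module F V₂] (A : Module.End F V₁) (B : Module.End F V₂) (f : F[X]) (x : V₁ × V₂) :
    aeval (A.prodMap B) f x = (aeval A f x.1, aeval B f x.2) := by
  induction f using Polynomial.induction_on' with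
  | add f g hf hg =>
    rw [map_add, map_add, map_add, LinearMap.add_apply, LinearMap.add_apply, LinearMap.add_apply,
      hf, hg, Prod.mk_add_mk]
  | monomial i c =>
    rw [aeval_monomial, aeval_monomial, aeval_monomial, Module.End.mul_apply, Module.End.mul_apply,
      Module.End.mul_apply, Module.algebraMap_end_apply, Module.algebraMap_end_apply,
      Module.algebraMap_end_apply, SpModels.prodMap_pow', LinearMap.prodMap_apply, Prod.smul_mk]

variable (F)

/-- The torus endomorphism `(x, y) ↦ (k x, k^{-e} y)`. -/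
noncomputable def torusMap (e : ℕ) (k : K) : Module.End F (K × K) :=
  (LinearMap.mul F K k).prodMap (LinearMap.mul F K ((k⁻¹) ^ e))

theorem torusMap_apply (e : ℕ) (k : K) (x : K × K) :
    torusMap F e k x = (k * x.1, (k⁻¹) ^ e * x.2) := rfl

theorem torusMap_mul (e : ℕ) (k k' : K) :
    torusMap F e (k * k') = torusMap F e k * torusMap F e k' := by
  apply LinearMap.ext
  intro x
  rw [Module.End.mul_apply, torusMap_apply, torusMap_apply, torusMap_apply, mul_inv, mul_pow]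
  refine Prod.ext ?_ ?_ <;> simp only <;> ring

theorem torusMap_one (e : ℕ) : torusMap F e (1 : K) = 1 := by
  apply LinearMap.ext
  intro x
  simp [torusMap_apply]

theorem torusMap_pow (e : ℕ) (k : K) (i : ℕ) : torusMap F e (k ^ i) = torusMap F e k ^ i := by
  induction i with
  | zero => rw [pow_zero, pow_zero, torusMap_one]
  | succ i ih => rw [pow_succ, pow_succ, torusMap_mul, ih]

variable {F}

theorem irreducible_map (σ : F →+* F) (hσ : ∀ c, σ (σ c) = c) (f : F[X]) (hf : Irreducible f) :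
    Irreducible (f.map σ) := by
  let e : F ≃+* F := RingEquiv.ofRingHom σ σ (RingHom.ext hσ) (RingHom.ext hσ)
  have h1 : f.map σ = Polynomial.mapEquiv e f := rfl
  rw [h1]
  exact (MulEquiv.irreducible_iff (Polynomial.mapEquiv e)).mpr hf

end general

section finite

variable [Fintype F] (p a : ℕ) [Fact p.Prime] [CharP F p]

omit [Fact p.Prime] [CharP F p] in
theorem pow_q_odd_F (hF : Fintype.card F = (p ^ a) ^ 2) (c : F) (m : ℕ) (hm : Odd m) :
    c ^ ((p ^ a) ^ m) = c ^ (p ^ a) := by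
  have h2 : c ^ ((p ^ a) ^ 2) = c := by rw [← hF, FiniteField.pow_card]
  have h3 : ∀ t : ℕ, c ^ ((p ^ a) ^ (2 * t)) = c := by
    intro t
    induction t with
    | zero => rw [mul_zero, pow_zero, pow_one]
    | succ t ih =>
      have e : 2 * (t + 1) = 2 * t + 2 := by ring
      rw [e, pow_add, pow_mul c, ih, h2]
  obtain ⟨t, rfl⟩ := hm
  rw [pow_succ, pow_mul c, h3]

omit [Fact p.Prime] [CharP F p] in
theorem card_pow_eq (hF : Fintype.card F = (p ^ a) ^ 2) (K : Type v) [Field K] [Finite K]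
    [Algebra F K] (m : ℕ) (hdim : Module.finrank F K = m) (x : K) :
    x ^ ((p ^ a) ^ (2 * m)) = x := by
  have := Fintype.ofFinite K
  have h3 := FiniteField.pow_card x
  rwa [Fintype.card_eq_nat_card, Module.natCard_eq_pow_finrank (K := F) (V := K), hdim,
    Nat.card_eq_fintype_card, hF, ← pow_mul] at h3

omit [Fintype F] in
/-- Roots of polynomials dividing `X^M - 1`. -/
theorem root_facts {K : Type v} [Field K] [Algebra F K] (σ : F →+* F) (f : F[X]) (M : ℕ)
    (hM : 0 < M) (h1 : f ∣ X ^ M - 1) (k : K) (hk : aeval k f = 0) :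
    k ^ M = 1 ∧ k ≠ 0 ∧ k⁻¹ = k ^ (M - 1) ∧
      (f ∣ (f.map σ).comp (X ^ (M - 1)) → aeval k⁻¹ (f.map σ) = 0) := by
  have hkM : k ^ M = 1 := by
    obtain ⟨g, hg⟩ := h1
    have h3 := congrArg (aeval k) hg
    rw [map_mul, hk, zero_mul, map_sub, map_pow, aeval_X, map_one] at h3
    exact sub_eq_zero.mp h3
  have hk0 : k ≠ 0 := by
    rintro rfl
    rw [zero_pow hM.ne'] at hkM
    exact zero_ne_one hkM
  have hkinv : k⁻¹ = k ^ (M - 1) := by
    apply inv_eq_of_mul_eq_one_right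
    rw [← pow_succ', Nat.sub_add_cancel hM, hkM]
  refine ⟨hkM, hk0, hkinv, fun h2 => ?_⟩
  obtain ⟨g, hg⟩ := h2
  have h3 := congrArg (aeval k) hg
  rw [map_mul, hk, zero_mul, aeval_comp, map_pow, aeval_X, ← hkinv] at h3
  exact h3

/-- **The torus of order `(q^n+1)/(q+1)` in `SU_n(q)`, `n` odd.** -/
theorem torus_odd_core (ha : 1 ≤ a) (hF : Fintype.card F = (p ^ a) ^ 2) (σ : F →+* F)
    (hσ : ∀ c, σ c = c ^ (p ^ a)) (n : ℕ) (hn : Odd n) (K : Type v) [Field K] [Finite K]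
    [Algebra F K] (hdim : Module.finrank F K = n)
    (hroot : ∀ f : F[X], Irreducible f → f.natDegree ∣ n → ∃ k : K, aeval k f = 0) :
    ∃ gstar : Cfsg.SU n F (p ^ a), ∀ (S : Module.End F (Fin n → F)) (f : F[X]) (M : ℕ),
      LinearMap.det S = 1 → Irreducible f → 0 < M → f ∣ X ^ M - 1 → aeval S f = 0 →
      f ∣ (f.map σ).comp (X ^ (M - 1)) →
      ∀ (j : ℕ) (c : F), toEnd gstar.1 ^ j = c • (1 : Module.End F (Fin n → F)) →
        ∃ c' : F, S ^ j = c' • (1 : Module.End F (Fin n → F)) := by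
  classical
  have hp : p.Prime := Fact.out
  have hq2 : 2 ≤ p ^ a := by
    calc 2 ≤ p := hp.two_le
      _ = p ^ 1 := (pow_one p).symm
      _ ≤ p ^ a := Nat.pow_le_pow_right hp.pos ha
  have hinv : IsInvol σ := isInvol_frob (p ^ a) hq2 hF σ hσ
  have hn1 : 1 ≤ n := by
    obtain ⟨t, rfl⟩ := hn
    omega
  haveI : CharP K p := charP_of_injective_algebraMap (algebraMap F K).injective p
  have hKcard : ∀ x : K, x ^ ((p ^ a) ^ (2 * n)) = x := card_pow_eq p a hF K n hdim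
  obtain ⟨τ, hτdef⟩ : ∃ τ : K →+* K, τ = iterateFrobenius K p (a * n) := ⟨_, rfl⟩
  have hτ : ∀ z, τ z = z ^ ((p ^ a) ^ n) := by
    intro z
    rw [hτdef, iterateFrobenius_def, pow_mul]
  have hττ : ∀ z, τ (τ z) = z := by
    intro z
    rw [hτ, hτ, ← pow_mul, ← pow_add, ← two_mul, hKcard]
  have hτtr : ∀ z, Algebra.trace F K (τ z) = σ (Algebra.trace F K z) := by
    intro z
    rw [hτdef, iterateFrobenius_def, trace_pow_char_pow F K p (a * n) z, pow_mul,
      pow_q_odd_F p a hF _ n hn, hσ]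
  have hH := isHerm_trH F K σ τ hτtr hττ
  have hnd := trH_nondeg F K τ hττ
  let G₁ : Subgroup Kˣ := (powMonoidHom ((p ^ a) ^ n + 1)).ker ⊓
    (Units.map (Algebra.norm F : K →* F)).ker
  have hG₁ : ∀ x : Kˣ, x ∈ G₁ ↔ (x : K) ^ ((p ^ a) ^ n + 1) = 1 ∧ Algebra.norm F (x : K) = 1 := by
    intro x
    rw [Subgroup.mem_inf, MonoidHom.mem_ker, MonoidHom.mem_ker, powMonoidHom_apply, Units.ext_iff,
      Units.ext_iff, Units.val_pow_eq_pow_val, Units.val_one, Units.coe_map]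
    rfl
  obtain ⟨γ, hγ⟩ := IsCyclic.exists_generator (α := G₁)
  have hgen : ∀ x : G₁, ∃ i : ℕ, γ ^ i = x := by
    intro x
    have := mem_powers_iff_mem_zpowers.mpr (hγ x)
    exact (Submonoid.mem_powers_iff _ _).mp this
  obtain ⟨hγ1, hγ2⟩ := (hG₁ γ.1).mp γ.2
  obtain ⟨gstar, Φ, hΦ, -⟩ := exists_of_model hinv (p ^ a) hσ n K (trH F K τ) hH hnd hdim
    (LinearMap.mul F K (γ.1 : K)) (upres_mul F K τ _ (by rw [hτ, ← pow_succ', hγ1]))
    (by have h := hγ2; rw [Algebra.norm_apply] at h; exact h)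
  refine ⟨gstar, fun S f M hdet hf hM h1 h0 h2 j c hj => ?_⟩
  have hdvd : f.natDegree ∣ n := by
    have := (SpStruct.kmod S f hf h0).1
    rwa [Module.finrank_fin_fun] at this
  obtain ⟨k, hk⟩ := hroot f hf hdvd
  obtain ⟨hkM, hk0, hkinv, hk'⟩ := root_facts σ f M hM h1 k hk
  obtain ⟨j₀, hj₀odd, hj₀⟩ := galois_core p a hF σ hσ n hn1 hKcard k f hf hk (hk' h2)
  have hkn : k ^ ((p ^ a) ^ n) = k⁻¹ := pow_q_odd_inv (p ^ a) k n j₀ hn hj₀odd hj₀ (hKcard k)
  obtain ⟨Ψ, hΨ⟩ := intertwine S (LinearMap.mul F K k) f hf h0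
    (by rw [aeval_mul, hk]; exact map_zero _) (by rw [Module.finrank_fin_fun, hdim])
  have hS : S = (Ψ.symm : K →ₗ[F] (Fin n → F)) ∘ₗ LinearMap.mul F K k ∘ₗ
      (Ψ.symm.symm : (Fin n → F) →ₗ[F] K) := by
    apply LinearMap.ext
    intro x
    simp only [LinearMap.coe_comp, LinearEquiv.coe_coe, Function.comp_apply, LinearEquiv.symm_symm]
    rw [← hΨ, Ψ.symm_apply_apply]
  have hnorm : Algebra.norm F k = 1 := by
    rw [hS, LinearMap.det_conj] at hdet
    rw [Algebra.norm_apply]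
    exact hdet
  have hmem : Units.mk0 k hk0 ∈ G₁ := by
    rw [hG₁]
    refine ⟨?_, hnorm⟩
    rw [Units.val_mk0, pow_succ, hkn, inv_mul_cancel₀ hk0]
  obtain ⟨i, hi⟩ := hgen ⟨_, hmem⟩
  have hi' : (γ.1 : K) ^ i = k := by
    have h3 := congrArg (fun x : G₁ => ((x : Kˣ) : K)) hi
    simpa using h3
  have h4 := (conj_pow_eq_smul_iff Φ (toEnd gstar.1) (LinearMap.mul F K (γ.1 : K)) hΦ j c).mp hj
  rw [mul_pow_eq, mul_eq_smul_iff] at h4
  refine ⟨c ^ i, ?_⟩
  apply (conj_pow_eq_smul_iff Ψ (LinearMap.mul F K k) S (fun x => (hΨ x).symm) j (c ^ i)).mp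
  rw [mul_pow_eq, mul_eq_smul_iff, ← hi', ← pow_mul, mul_comm, pow_mul, h4, map_pow]

/-- **The torus `GL_1(q^n) ∩ SU_n(q)`, `n = 2 m` even.** -/
theorem torus_even_core (ha : 1 ≤ a) (hF : Fintype.card F = (p ^ a) ^ 2) (σ : F →+* F)
    (hσ : ∀ c, σ c = c ^ (p ^ a)) (m : ℕ) (hm : 1 ≤ m) (K : Type v) [Field K] [Finite K]
    [Algebra F K] (hdim : Module.finrank F K = m) :
    ∃ gstar : Cfsg.SU (2 * m) F (p ^ a), ∀ (S : Module.End F (Fin (2 * m) → F)) (k₁ : K)
      (Ψ : (Fin (2 * m) → F) ≃ₗ[F] K × K), k₁ ≠ 0 → LinearMap.det S = 1 →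
      (∀ x, Ψ (S x) = torusMap F ((p ^ a) ^ (2 * m - 1)) k₁ (Ψ x)) →
      ∀ (j : ℕ) (c : F), toEnd gstar.1 ^ j = c • (1 : Module.End F (Fin (2 * m) → F)) →
        ∃ c' : F, S ^ j = c' • (1 : Module.End F (Fin (2 * m) → F)) := by
  classical
  have hp : p.Prime := Fact.out
  have hq2 : 2 ≤ p ^ a := by
    calc 2 ≤ p := hp.two_le
      _ = p ^ 1 := (pow_one p).symm
      _ ≤ p ^ a := Nat.pow_le_pow_right hp.pos ha
  have hinv : IsInvol σ := isInvol_frob (p ^ a) hq2 hF σ hσ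
  haveI : CharP K p := charP_of_injective_algebraMap (algebraMap F K).injective p
  have hKcard : ∀ x : K, x ^ ((p ^ a) ^ (2 * m)) = x := card_pow_eq p a hF K m hdim
  obtain ⟨e, he⟩ : ∃ e, e = (p ^ a) ^ (2 * m - 1) := ⟨_, rfl⟩
  have hee : e * p ^ a = (p ^ a) ^ (2 * m) := by
    rw [he, ← pow_succ, Nat.sub_add_cancel (by omega)]
  have hodd : Odd (2 * m - 1) := by
    rw [Nat.odd_iff]
    omega
  obtain ⟨τ, hτdef⟩ : ∃ τ : K →+* K, τ = iterateFrobenius K p a := ⟨_, rfl⟩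
  obtain ⟨τ', hτ'def⟩ : ∃ τ' : K →+* K, τ' = iterateFrobenius K p (a * (2 * m - 1)) := ⟨_, rfl⟩
  have hτ : ∀ z, τ z = z ^ (p ^ a) := by
    intro z
    rw [hτdef, iterateFrobenius_def]
  have hτ' : ∀ z, τ' z = z ^ e := by
    intro z
    rw [hτ'def, iterateFrobenius_def, pow_mul, he]
  have h1 : ∀ z, τ (τ' z) = z := by
    intro z
    rw [hτ, hτ', ← pow_mul, hee, hKcard]
  have h2 : ∀ z, τ' (τ z) = z := by
    intro z
    rw [hτ, hτ', ← pow_mul, mul_comm, hee, hKcard]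
  have hτtr : ∀ z, Algebra.trace F K (τ z) = σ (Algebra.trace F K z) := by
    intro z
    rw [hτdef, iterateFrobenius_def, trace_pow_char_pow F K p a z, hσ]
  have hτ'tr : ∀ z, Algebra.trace F K (τ' z) = σ (Algebra.trace F K z) := by
    intro z
    rw [hτ'def, iterateFrobenius_def, trace_pow_char_pow F K p (a * (2 * m - 1)) z, pow_mul,
      pow_q_odd_F p a hF _ _ hodd, hσ]
  have hH := isHerm_hypH F K σ τ τ' hτtr hτ'tr h1 h2
  have hnd := hypH_nondeg F K τ τ' h1 h2
  let G₂ : Subgroup Kˣ :=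
    { carrier := {κ | LinearMap.det (torusMap F e (κ : K)) = 1}
      mul_mem' := by
        intro x y hx hy
        simp only [Set.mem_ofPred_eq] at *
        rw [Units.val_mul, torusMap_mul, map_mul, hx, hy, one_mul]
      one_mem' := by
        simp only [Set.mem_ofPred_eq]
        rw [Units.val_one, torusMap_one, map_one]
      inv_mem' := by
        intro x hx
        simp only [Set.mem_ofPred_eq] at *
        have h3 : torusMap F e ((x⁻¹ : Kˣ) : K) * torusMap F e (x : K) = 1 := by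
          rw [← torusMap_mul, ← Units.val_mul, inv_mul_cancel, Units.val_one, torusMap_one]
        have h4 := congrArg LinearMap.det h3
        rw [map_mul, hx, mul_one, map_one] at h4
        exact h4 }
  have hG₂ : ∀ x : Kˣ, x ∈ G₂ ↔ LinearMap.det (torusMap F e (x : K)) = 1 := fun x => Iff.rfl
  obtain ⟨γ, hγ⟩ := IsCyclic.exists_generator (α := G₂)
  have hgen : ∀ x : G₂, ∃ i : ℕ, γ ^ i = x := by
    intro x
    have := mem_powers_iff_mem_zpowers.mpr (hγ x)
    exact (Submonoid.mem_powers_iff _ _).mp this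
  have hγdet := (hG₂ γ.1).mp γ.2
  have hγ0 : (γ.1 : K) ≠ 0 := γ.1.ne_zero
  have hdim2 : Module.finrank F (K × K) = 2 * m := by
    rw [Module.finrank_prod, hdim]
    ring
  obtain ⟨gstar, Φ, hΦ, -⟩ := exists_of_model hinv (p ^ a) hσ (2 * m) (K × K) (hypH F K τ τ') hH
    hnd hdim2 (torusMap F e (γ.1 : K))
    (upres_hyp F K τ τ' _ _
      (by rw [hτ, ← pow_mul, hee, hKcard, mul_inv_cancel₀ hγ0])
      (by rw [hτ', ← mul_pow, inv_mul_cancel₀ hγ0, one_pow]))
    hγdet
  refine ⟨gstar, fun S k₁ Ψ hk0 hdet hΨ j c hj => ?_⟩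
  rw [← he] at hΨ
  have hS : S = (Ψ.symm : K × K →ₗ[F] (Fin (2 * m) → F)) ∘ₗ torusMap F e k₁ ∘ₗ
      (Ψ.symm.symm : (Fin (2 * m) → F) →ₗ[F] K × K) := by
    apply LinearMap.ext
    intro x
    simp only [LinearMap.coe_comp, LinearEquiv.coe_coe, Function.comp_apply, LinearEquiv.symm_symm]
    rw [← hΨ, Ψ.symm_apply_apply]
  have hdet' : LinearMap.det (torusMap F e k₁) = 1 := by
    rw [hS, LinearMap.det_conj] at hdet
    exact hdet
  have hmem : Units.mk0 k₁ hk0 ∈ G₂ := by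
    rw [hG₂, Units.val_mk0]
    exact hdet'
  obtain ⟨i, hi⟩ := hgen ⟨_, hmem⟩
  have hi' : (γ.1 : K) ^ i = k₁ := by
    have h3 := congrArg (fun x : G₂ => ((x : Kˣ) : K)) hi
    simpa using h3
  have h4 := (conj_pow_eq_smul_iff Φ (toEnd gstar.1) (torusMap F e (γ.1 : K)) hΦ j c).mp hj
  refine ⟨c ^ i, ?_⟩
  apply (conj_pow_eq_smul_iff Ψ (torusMap F e k₁) S (fun x => (hΨ x).symm) j (c ^ i)).mp
  rw [← hi', torusMap_pow, ← pow_mul, mul_comm, pow_mul, h4, _root_.smul_pow, one_pow]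

/-- From the structure theorem to the torus data, `n = 2 m` even. -/
theorem even_data (hF : Fintype.card F = (p ^ a) ^ 2) (σ : F →+* F)
    (hσ : ∀ c, σ c = c ^ (p ^ a)) (hσσ : ∀ c, σ (σ c) = c) (m : ℕ) (hm : 1 ≤ m) (K : Type v)
    [Field K] [Finite K] [Algebra F K] (hdim : Module.finrank F K = m)
    (hroot : ∀ f : F[X], Irreducible f → f.natDegree ∣ m → ∃ k : K, aeval k f = 0)
    {V : Type w} [AddCommGroup V] [Module F V] [FiniteDimensional F V]
    (hV : Module.finrank F V = 2 * m) (s : Module.End F V) (M : ℕ) (hM : 0 < M)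
    (hsM : s ^ M = 1) (f : F[X]) (hf : Irreducible f) (hfM : f ∣ X ^ M - 1)
    (hcase : (aeval s f = 0 ∧ f ∣ (f.map σ).comp (X ^ (M - 1))) ∨
       (∃ W W' : Submodule F V, IsCompl W W' ∧ (∀ w ∈ W, s w ∈ W) ∧ (∀ w ∈ W', s w ∈ W') ∧
         (∀ w ∈ W', (s ^ (M - 1)) w ∈ W') ∧
         (∀ w ∈ W, aeval s f w = 0) ∧ (∀ w ∈ W', aeval (s ^ (M - 1)) (f.map σ) w = 0) ∧
         Module.finrank F W = Module.finrank F W')) :
    ∃ (k₁ : K) (Ψ : V ≃ₗ[F] K × K), k₁ ≠ 0 ∧
      ∀ x, Ψ (s x) = torusMap F ((p ^ a) ^ (2 * m - 1)) k₁ (Ψ x) := by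
  classical
  have hp : p.Prime := Fact.out
  have hKcard : ∀ x : K, x ^ ((p ^ a) ^ (2 * m)) = x := card_pow_eq p a hF K m hdim
  obtain ⟨e, he⟩ : ∃ e, e = (p ^ a) ^ (2 * m - 1) := ⟨_, rfl⟩
  rw [← he]
  have hee : e * p ^ a = (p ^ a) ^ (2 * m) := by
    rw [he, ← pow_succ, Nat.sub_add_cancel (by omega)]
  have hodd : Odd (2 * m - 1) := by
    rw [Nat.odd_iff]
    omega
  have hdim2 : Module.finrank F (K × K) = 2 * m := by
    rw [Module.finrank_prod, hdim]
    ring
  rcases hcase with ⟨h0, h2⟩ | ⟨W, W', hcompl, hsW, hsW', hsinvW', hfW, hfW', hWW'⟩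
  · have hDodd : Odd f.natDegree := galois_odd p a hF σ hσ f hf M hM hfM h2
    have hdvd : f.natDegree ∣ m := by
      have h3 := (SpStruct.kmod s f hf h0).1
      rw [hV] at h3
      have hcop : Nat.Coprime f.natDegree 2 := Nat.Coprime.symm
        ((Nat.Prime.coprime_iff_not_dvd Nat.prime_two).mpr
          (fun h => (Nat.not_even_iff_odd.mpr hDodd) (even_iff_two_dvd.mpr h)))
      exact hcop.dvd_of_dvd_mul_left h3
    obtain ⟨k₁, hk⟩ := hroot f hf hdvd
    obtain ⟨hkM, hk0, hkinv, hk'⟩ := root_facts σ f M hM hfM k₁ hk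
    have hy : aeval ((k₁⁻¹) ^ e) f = 0 := by
      have h3 := aeval_frob p σ a hσ ((k₁⁻¹) ^ e) f
      rw [← pow_mul, hee, hKcard, hk' h2] at h3
      exact (pow_eq_zero_iff (pow_pos hp.pos a).ne').mp h3
    have htm : aeval (torusMap F e k₁) f = 0 := by
      apply LinearMap.ext
      intro x
      rw [torusMap, aeval_prodMap, aeval_mul, aeval_mul, hk, hy]
      simp
    obtain ⟨Ψ, hΨ⟩ := intertwine s (torusMap F e k₁) f hf h0 htm (by rw [hV, hdim2])
    exact ⟨k₁, Ψ, hk0, hΨ⟩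
  · have hsum := Submodule.finrank_add_eq_of_isCompl hcompl
    have hdW : Module.finrank F W = m := by omega
    have hdW' : Module.finrank F W' = m := by omega
    have hdvd : f.natDegree ∣ m := by
      have h3 := (SpStruct.kmod_sub s f hf W hsW hfW).1
      rwa [hdW] at h3
    obtain ⟨k₁, hk⟩ := hroot f hf hdvd
    obtain ⟨hkM, hk0, hkinv, -⟩ := root_facts σ f M hM hfM k₁ hk
    obtain ⟨Ψ₁, hΨ₁⟩ := intertwine_sub s W hsW (LinearMap.mul F K k₁) f hf hfW
      (by rw [aeval_mul, hk]; exact map_zero _) (by rw [hdW, hdim])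
    have hσ' : ∀ c, σ c = c ^ (p ^ (a * (2 * m - 1))) := by
      intro c
      rw [pow_mul, pow_q_odd_F p a hF c _ hodd, hσ]
    have hy : aeval (k₁ ^ e) (f.map σ) = 0 := by
      have h3 := aeval_frob p σ (a * (2 * m - 1)) hσ' k₁ f
      rw [hk, zero_pow (pow_pos hp.pos _).ne', pow_mul, ← he] at h3
      exact h3.symm
    obtain ⟨Ψ₂, hΨ₂⟩ := intertwine_sub (s ^ (M - 1)) W' hsinvW' (LinearMap.mul F K (k₁ ^ e))
      (f.map σ) (irreducible_map σ hσσ f hf) hfW'
      (by rw [aeval_mul, hy]; exact map_zero _) (by rw [hdW', hdim])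
    have hs2 : s ^ (M - 1) * s = 1 := by rw [← pow_succ, Nat.sub_add_cancel hM, hsM]
    have hΨ₂' : ∀ x : W', Ψ₂ ⟨s x, hsW' x x.2⟩ = (k₁⁻¹) ^ e * Ψ₂ x := by
      intro x
      have h3 := hΨ₂ ⟨s x, hsW' x x.2⟩
      have h4 : (s ^ (M - 1)) (s (x : V)) = x := by
        rw [← Module.End.mul_apply, hs2, Module.End.one_apply]
      simp only [h4, LinearMap.mul_apply'] at h3
      have h5 : Ψ₂ x = k₁ ^ e * Ψ₂ ⟨s x, hsW' x x.2⟩ := by
        rw [← h3]
      rw [h5, ← mul_assoc, ← mul_pow, inv_mul_cancel₀ hk0, one_pow, one_mul]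
    let E := Submodule.prodEquivOfIsCompl W W' hcompl
    refine ⟨k₁, E.symm.trans (Ψ₁.prodCongr Ψ₂), hk0, fun x => ?_⟩
    obtain ⟨⟨w, w'⟩, rfl⟩ := E.surjective x
    have h6 : s (E (w, w')) = E (⟨s w, hsW w w.2⟩, ⟨s w', hsW' w' w'.2⟩) := by
      simp only [E, Submodule.coe_prodEquivOfIsCompl', map_add]
    rw [h6]
    simp only [LinearEquiv.trans_apply, LinearEquiv.symm_apply_apply, LinearEquiv.prodCongr_apply,
      torusMap_apply]
    rw [hΨ₁, hΨ₂', LinearMap.mul_apply']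

end finite

end Cfsg.Agent.Helper42.UTorus
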