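import Mathlib
import Cfsg.Agent.Helper42.UTorus
import Cfsg.Agent.Helper42.SpecPSL

set_option autoImplicit false

/-!
# Covering element orders of `PSU_n(q)` (helper42)

* `absorb` : an orthogonally decomposable element can be multiplied by a commuting element of
  projective order `r` (`r ∣ q + 1`, `r ∤ n`);
* `exists_w` : an element whose projective order is divisible by `r` and by a large power of `p`;
* `cover_semisimple` : the `p'`-parts of the orthogonally indecomposable elements are covered by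
  a single cyclic torus;
* `cover3`, `cover2` : the covering lemmas for the spectrum of direct powers of `PSU_n(q)`.
-/

namespace Cfsg.Agent.Helper42.SpecPSU

open UForm UGroup UModels UStruct UTorus Polynomial ProjOrd

universe u

variable {F : Type u} [Field F]

theorem exists_scalar (r n : ℕ) (hr : r.Prime) (hrn : ¬ r ∣ n) (δ : F) (hδ : δ ^ r = 1) :
    ∃ c : F, c ^ r = 1 ∧ c ^ n * δ = 1 := by
  have hcop : Nat.Coprime n r := (Nat.Coprime.symm ((Nat.Prime.coprime_iff_not_dvd hr).mpr hrn))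
  obtain ⟨m, -, hm⟩ := Nat.exists_mul_mod_eq_one_of_coprime hcop hr.one_lt
  obtain ⟨r', hr'⟩ : ∃ r', r = r' + 1 := ⟨r - 1, by have := hr.one_lt; omega⟩
  obtain ⟨j, hj⟩ : ∃ j, n * m = r * j + 1 := ⟨n * m / r, by
    have := Nat.div_add_mod (n * m) r
    omega⟩
  refine ⟨(δ ^ r') ^ m, ?_, ?_⟩
  · calc ((δ ^ r') ^ m) ^ r = δ ^ (r * (r' * m)) := by
          rw [← pow_mul, ← pow_mul]
          congr 1
          ring
      _ = 1 := by rw [pow_mul, hδ, one_pow]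
  · have h4 : r' * m * n + 1 = r * (r' * j + 1) := by
      have : r' * m * n = r' * (n * m) := by ring
      rw [this, hj, hr']
      ring
    calc ((δ ^ r') ^ m) ^ n * δ = δ ^ (r' * m * n) * δ := by
          rw [← pow_mul, ← pow_mul, mul_assoc]
      _ = δ ^ (r' * m * n + 1) := by rw [pow_succ]
      _ = 1 := by rw [h4, pow_mul, hδ, one_pow]

section finite

variable [Fintype F] (p a : ℕ) [Fact p.Prime] [CharP F p] {n : ℕ}

omit [Field F] [Fintype F] [CharP F p] in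
theorem two_le_q (ha : 1 ≤ a) : 2 ≤ p ^ a := by
  have hp : p.Prime := Fact.out
  calc 2 ≤ p := hp.two_le
    _ = p ^ 1 := (pow_one p).symm
    _ ≤ p ^ a := Nat.pow_le_pow_right hp.pos ha

omit [Fact p.Prime] [CharP F p] in
/-- An element of order `r` in the group of norm one elements. -/
theorem exists_lam (hq2 : 2 ≤ p ^ a) (hF : Fintype.card F = (p ^ a) ^ 2) (r : ℕ) (hr : r.Prime)
    (hrq : r ∣ p ^ a + 1) :
    ∃ lam : Fˣ, orderOf lam = r ∧ (lam : F) ^ r = 1 ∧ (lam : F) ^ (p ^ a + 1) = 1 := by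
  have : Fact r.Prime := ⟨hr⟩
  have hcard : Nat.card Fˣ = (p ^ a) ^ 2 - 1 := by
    rw [Nat.card_units, Nat.card_eq_fintype_card, hF]
  have hdvd : r ∣ Nat.card Fˣ := by
    rw [hcard, sq_sub_one (p ^ a) (by omega)]
    exact hrq.mul_right _
  obtain ⟨lam, hlam⟩ := exists_prime_orderOf_dvd_card' (G := Fˣ) r hdvd
  have hlamr : (lam : F) ^ r = 1 := by
    rw [← Units.val_pow_eq_pow_val, ← hlam, pow_orderOf_eq_one]
    rfl
  refine ⟨lam, hlam, hlamr, ?_⟩
  obtain ⟨t, ht⟩ := hrq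
  rw [ht, pow_mul, hlamr, one_pow]

omit [Fact p.Prime] [CharP F p] in
theorem exists_not_fixed (hq2 : 2 ≤ p ^ a) (hF : Fintype.card F = (p ^ a) ^ 2) (σ : F →+* F)
    (hσ : ∀ c, σ c = c ^ (p ^ a)) : ∃ a₀ : F, a₀ ≠ σ a₀ := by
  obtain ⟨ζ, hζ, -⟩ := exists_gen (p ^ a) hF
  refine ⟨(ζ : F), fun h => ?_⟩
  rw [hσ] at h
  have h5 : ζ ^ (p ^ a - 1) = 1 := by
    apply Units.ext
    rw [Units.val_pow_eq_pow_val, Units.val_one]
    have h6 : (ζ : F) ^ (p ^ a - 1) * ζ = 1 * ζ := by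
      rw [← pow_succ, Nat.sub_add_cancel (by omega), ← h, one_mul]
    exact mul_right_cancel₀ ζ.ne_zero h6
  have h7 := orderOf_dvd_of_pow_eq_one h5
  rw [hζ, sq_sub_one (p ^ a) (by omega)] at h7
  have h8 := Nat.le_of_dvd (by omega) h7
  have h9 : 1 * (p ^ a - 1) < (p ^ a + 1) * (p ^ a - 1) :=
    Nat.mul_lt_mul_of_pos_right (by omega) (by omega)
  omega

omit [CharP F p] in
/-- If `g` is orthogonally decomposable, some `h ∈ SU_n(q)` commuting with `g` has projective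
order `r`. -/
theorem exists_commute_r (ha : 1 ≤ a) (hF : Fintype.card F = (p ^ a) ^ 2) (hn : 3 ≤ n)
    (σ : F →+* F) (hσ : ∀ c, σ c = c ^ (p ^ a)) (r : ℕ) (hr : r.Prime) (hrq : r ∣ p ^ a + 1)
    (hrn : ¬ r ∣ n) (g : Cfsg.SU n F (p ^ a)) (hdec : UOrthDec (hermStd σ n) (toEnd g.1)) :
    ∃ h : Cfsg.SU n F (p ^ a), Commute g h ∧
      orderOf (QuotientGroup.mk h : Cfsg.PSU n F (p ^ a)) = r := by
  classical
  have hq2 := two_le_q p a ha
  have hinv : IsInvol σ := isInvol_frob (p ^ a) hq2 hF σ hσ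
  have hH := isHerm_hermStd σ hinv.invol n
  obtain ⟨V₁, V₂, hc, h1, h2, hi1, hi2, horth⟩ := hdec
  obtain ⟨lam, hlam, hlamr, hlamq⟩ := exists_lam p a hq2 hF r hr hrq
  have hnorm : ∀ c : F, c ^ r = 1 → c * σ c = 1 := by
    intro c hc
    obtain ⟨t, ht⟩ := hrq
    rw [hσ, ← pow_succ', ht, pow_mul, hc, one_pow]
  obtain ⟨T, hT⟩ : ∃ T, T = toEnd g.1 := ⟨_, rfl⟩
  rw [← hT] at hi1 hi2
  let D : Module.End F (Fin n → F) := LinearMap.ofIsCompl hc ((lam : F) • V₁.subtype) V₂.subtype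
  have hD1 : ∀ v ∈ V₁, D v = (lam : F) • v := fun v hv => by
    have := LinearMap.ofIsCompl_apply_left hc (φ := (lam : F) • V₁.subtype) (ψ := V₂.subtype) ⟨v, hv⟩
    simpa using this
  have hD2 : ∀ v ∈ V₂, D v = v := fun v hv => by
    have := LinearMap.ofIsCompl_apply_right hc (φ := (lam : F) • V₁.subtype) (ψ := V₂.subtype) ⟨v, hv⟩
    simpa using this
  have hdecomp : ∀ v, ∃ v₁ ∈ V₁, ∃ v₂ ∈ V₂, v = v₁ + v₂ := by
    intro v
    have : v ∈ V₁ ⊔ V₂ := by rw [hc.sup_eq_top]; trivial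
    obtain ⟨v₁, hv₁, v₂, hv₂, rfl⟩ := Submodule.mem_sup.mp this
    exact ⟨v₁, hv₁, v₂, hv₂, rfl⟩
  have hDpow : ∀ k : ℕ, (∀ v ∈ V₁, (D ^ k) v = ((lam : F) ^ k) • v) ∧ (∀ v ∈ V₂, (D ^ k) v = v) := by
    intro k
    induction k with
    | zero => simp
    | succ k ih =>
      constructor
      · intro v hv
        rw [pow_succ, Module.End.mul_apply, hD1 v hv, map_smul, ih.1 v hv, smul_smul, pow_succ,
          mul_comm]
      · intro v hv
        rw [pow_succ, Module.End.mul_apply, hD2 v hv, ih.2 v hv]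
  have hTD : T * D = D * T := by
    apply LinearMap.ext
    intro v
    obtain ⟨v₁, hv₁, v₂, hv₂, rfl⟩ := hdecomp v
    have ht1 : T v₁ ∈ V₁ := hi1 v₁ hv₁
    have ht2 : T v₂ ∈ V₂ := hi2 v₂ hv₂
    simp only [Module.End.mul_apply, map_add, hD1 v₁ hv₁, hD2 v₂ hv₂, hD1 _ ht1, hD2 _ ht2, map_smul]
  have hDr : D ^ r = 1 := by
    apply LinearMap.ext
    intro v
    obtain ⟨v₁, hv₁, v₂, hv₂, rfl⟩ := hdecomp v
    rw [map_add, (hDpow r).1 v₁ hv₁, (hDpow r).2 v₂ hv₂, hlamr, one_smul]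
    rfl
  have hDH : UPres (hermStd σ n) D := by
    intro x y
    obtain ⟨x₁, hx₁, x₂, hx₂, rfl⟩ := hdecomp x
    obtain ⟨y₁, hy₁, y₂, hy₂, rfl⟩ := hdecomp y
    have e1 : hermStd σ n x₁ y₂ = 0 := horth x₁ hx₁ y₂ hy₂
    have e2 : hermStd σ n x₂ y₁ = 0 := by rw [hH.conj, horth y₁ hy₁ x₂ hx₂, map_zero]
    rw [map_add, map_add, hD1 _ hx₁, hD2 _ hx₂, hD1 _ hy₁, hD2 _ hy₂]
    simp only [hH.add_left, hH.add_right, hH.smul_left, hH.smul_right, e1, e2, mul_zero, add_zero,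
      zero_add]
    rw [← mul_assoc, hnorm _ hlamr, one_mul]
  obtain ⟨δ, hδdef⟩ : ∃ δ, δ = LinearMap.det D := ⟨_, rfl⟩
  have hδ : δ ^ r = 1 := by rw [hδdef, ← map_pow, hDr, map_one]
  obtain ⟨c, hcr, hcn⟩ := exists_scalar r n hr hrn δ hδ
  have hc0 : c ≠ 0 := by
    rintro rfl
    rw [zero_pow hr.ne_zero] at hcr
    exact zero_ne_one hcr
  let H' : Module.End F (Fin n → F) := c • D
  have hdetH : LinearMap.det H' = 1 := by
    rw [LinearMap.det_smul, Module.finrank_fin_fun, ← hδdef, hcn]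
  have hH'pres : UPres (hermStd σ n) H' := hDH.smul hH c (hnorm c hcr)
  refine ⟨ofEndU σ (p ^ a) hσ H' hdetH hH'pres, ?_, ?_⟩
  · show g * ofEndU σ (p ^ a) hσ H' hdetH hH'pres = ofEndU σ (p ^ a) hσ H' hdetH hH'pres * g
    apply Subtype.ext
    apply toEnd_injective
    rw [toEnd_coe_mul, toEnd_coe_mul, toEnd_ofEndU, ← hT]
    simp only [H', mul_smul_comm, smul_mul_assoc, hTD]
  · have hHpow : ∀ k : ℕ, H' ^ k = c ^ k • D ^ k := fun k => _root_.smul_pow c D k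
    have key : ∀ k : ℕ,
        (QuotientGroup.mk (ofEndU σ (p ^ a) hσ H' hdetH hH'pres) : Cfsg.PSU n F (p ^ a)) ^ k = 1
          ↔ r ∣ k := by
      intro k
      rw [mk_pow_eq_one_iff (p ^ a) hq2 hF hn, toEnd_ofEndU]
      constructor
      · rintro ⟨e, he⟩
        obtain ⟨v₁, hv₁, hv₁0⟩ := Submodule.exists_mem_ne_zero_of_ne_bot h1
        obtain ⟨v₂, hv₂, hv₂0⟩ := Submodule.exists_mem_ne_zero_of_ne_bot h2
        rw [hHpow] at he
        have e1 := congrArg (fun f => f v₁) he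
        have e2 := congrArg (fun f => f v₂) he
        simp only [LinearMap.smul_apply, (hDpow k).1 v₁ hv₁, (hDpow k).2 v₂ hv₂,
          Module.End.one_apply, smul_smul] at e1 e2
        have e1' : c ^ k * (lam : F) ^ k = e := by
          by_contra hne
          have : (c ^ k * (lam : F) ^ k - e) • v₁ = 0 := by rw [sub_smul, e1, sub_self]
          rcases smul_eq_zero.mp this with h | h
          · exact hne (sub_eq_zero.mp h)
          · exact hv₁0 h
        have e2' : c ^ k = e := by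
          by_contra hne
          have : (c ^ k - e) • v₂ = 0 := by rw [sub_smul, e2, sub_self]
          rcases smul_eq_zero.mp this with h | h
          · exact hne (sub_eq_zero.mp h)
          · exact hv₂0 h
        have e3 : (lam : F) ^ k = 1 := by
          have : c ^ k * (lam : F) ^ k = c ^ k * 1 := by rw [e1', mul_one, e2']
          exact mul_left_cancel₀ (pow_ne_zero k hc0) this
        rw [← hlam]
        apply orderOf_dvd_of_pow_eq_one
        apply Units.ext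
        rw [Units.val_pow_eq_pow_val, e3]
        rfl
      · rintro ⟨j, rfl⟩
        refine ⟨1, ?_⟩
        rw [hHpow, pow_mul, pow_mul, hcr, hDr, one_pow, one_pow]
    exact Nat.dvd_antisymm (orderOf_dvd_of_pow_eq_one ((key r).mpr dvd_rfl))
      ((key _).mp (pow_orderOf_eq_one _))

omit [CharP F p] in
/-- Absorbing the prime `r` into an orthogonally decomposable element. -/
theorem absorb (ha : 1 ≤ a) (hF : Fintype.card F = (p ^ a) ^ 2) (hn : 3 ≤ n)
    (σ : F →+* F) (hσ : ∀ c, σ c = c ^ (p ^ a)) (r : ℕ) (hr : r.Prime) (hrq : r ∣ p ^ a + 1)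
    (hrn : ¬ r ∣ n) (g : Cfsg.SU n F (p ^ a)) (hdec : UOrthDec (hermStd σ n) (toEnd g.1)) :
    ∃ x' : Cfsg.PSU n F (p ^ a), ∀ k : ℕ, x' ^ k = 1 →
      (QuotientGroup.mk g : Cfsg.PSU n F (p ^ a)) ^ k = 1 ∧ r ∣ k := by
  obtain ⟨h, hcomm, hord⟩ := exists_commute_r p a ha hF hn σ hσ r hr hrq hrn g hdec
  by_cases hdiv : r ∣ orderOf (QuotientGroup.mk g : Cfsg.PSU n F (p ^ a))
  · exact ⟨QuotientGroup.mk g, fun k hk => ⟨hk, hdiv.trans (orderOf_dvd_of_pow_eq_one hk)⟩⟩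
  · have hcop : Nat.Coprime (orderOf (QuotientGroup.mk g : Cfsg.PSU n F (p ^ a)))
        (orderOf (QuotientGroup.mk h : Cfsg.PSU n F (p ^ a))) := by
      rw [hord]
      exact Nat.Coprime.symm ((Nat.Prime.coprime_iff_not_dvd hr).mpr hdiv)
    have hc' : Commute (QuotientGroup.mk g : Cfsg.PSU n F (p ^ a)) (QuotientGroup.mk h) :=
      hcomm.map (QuotientGroup.mk' _)
    have hmul := hc'.orderOf_mul_eq_mul_orderOf_of_coprime hcop
    refine ⟨QuotientGroup.mk g * QuotientGroup.mk h, fun k hk => ?_⟩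
    have hd := orderOf_dvd_of_pow_eq_one hk
    rw [hmul, hord] at hd
    exact ⟨orderOf_dvd_iff_pow_eq_one.mp ((dvd_mul_right _ _).trans hd), (dvd_mul_left _ _).trans hd⟩

/-- An element whose projective order is divisible by `r` and by a large power of `p`. -/
theorem exists_w (ha : 1 ≤ a) (hF : Fintype.card F = (p ^ a) ^ 2) (hn : 3 ≤ n)
    (σ : F →+* F) (hσ : ∀ c, σ c = c ^ (p ^ a)) (r : ℕ) (hr : r.Prime) (hrq : r ∣ p ^ a + 1)
    (hrn : ¬ r ∣ n) (β : ℕ) (hβ : β = 0 ∨ p ^ (β - 1) < n - 1) :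
    ∃ w : Cfsg.PSU n F (p ^ a), ∀ i : ℕ, w ^ i = 1 → r ∣ i ∧ p ^ β ∣ i := by
  classical
  have hp : p.Prime := Fact.out
  have hq2 := two_le_q p a ha
  have hinv : IsInvol σ := isInvol_frob (p ^ a) hq2 hF σ hσ
  have hσσ := hinv.invol
  obtain ⟨lam, hlam, hlamr, hlamq⟩ := exists_lam p a hq2 hF r hr hrq
  have hnorm : ∀ c : F, c ^ r = 1 → c * σ c = 1 := by
    intro c hc
    obtain ⟨t, ht⟩ := hrq
    rw [hσ, ← pow_succ', ht, pow_mul, hc, one_pow]
  obtain ⟨k, rfl⟩ : ∃ k, n = k + 2 := ⟨n - 2, by omega⟩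
  obtain ⟨a₀, ha₀⟩ := exists_not_fixed p a hq2 hF σ hσ
  obtain ⟨U, hUB, ⟨e, hUe⟩, hUne⟩ := exists_unipotent_u σ hσσ a₀ ha₀ k p
  obtain ⟨hU1, hU2⟩ := unipotent_facts_u p U e hUe
  have hdetU : LinearMap.det U = 1 := by
    apply eq_one_of_pow_char_pow p _ e
    rw [← map_pow, hUe, map_one]
  obtain ⟨δ, hδdef⟩ : ∃ δ : F, δ = (lam : F) ^ (k + 1) := ⟨_, rfl⟩
  have hδ : δ ^ r = 1 := by rw [hδdef, ← pow_mul, mul_comm, pow_mul, hlamr, one_pow]
  obtain ⟨c, hcr, hcn⟩ := exists_scalar r (k + 2) hr hrn δ hδ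
  have hc0 : c ≠ 0 := by
    rintro rfl
    rw [zero_pow hr.ne_zero] at hcr
    exact zero_ne_one hcr
  have hcl : (c * (lam : F)) ^ r = 1 := by rw [mul_pow, hcr, hlamr, one_mul]
  have hH := isHerm_sumH (isHerm_revH k σ hσσ) (isHerm_oneH σ hσσ)
  have hnd := sumH_nondeg (isHerm_revH k σ hσσ) (isHerm_oneH σ hσσ) (revH_nondeg k σ)
    (oneH_nondeg σ)
  obtain ⟨Tw, hTw⟩ : ∃ Tw : Module.End F ((Fin (k + 1) → F) × F),
      Tw = ((c * (lam : F)) • U).prodMap (c • (1 : Module.End F F)) := ⟨_, rfl⟩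
  have hTwpres : UPres (sumH (revH k σ) (oneH σ)) Tw := by
    rw [hTw]
    exact upres_prodMap (hUB.smul (isHerm_revH k σ hσσ) _ (hnorm _ hcl))
      ((UPres.one).smul (isHerm_oneH σ hσσ) c (hnorm c hcr))
  have hTwdet : LinearMap.det Tw = 1 := by
    rw [hTw, LinearMap.det_prodMap, LinearMap.det_smul, LinearMap.det_smul, hdetU,
      Module.finrank_fin_fun, Module.finrank_self, map_one, mul_one, mul_one, pow_one, mul_pow,
      ← hδdef, ← hcn]
    ring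
  have hTwpow : ∀ i : ℕ, Tw ^ i = ((c * (lam : F)) ^ i • U ^ i).prodMap
      (c ^ i • (1 : Module.End F F)) := by
    intro i
    rw [hTw, SpModels.prodMap_pow', _root_.smul_pow, _root_.smul_pow, one_pow]
  obtain ⟨g, Φ, hΦ, -⟩ := exists_of_model hinv (p ^ a) hσ (k + 2) ((Fin (k + 1) → F) × F)
    (sumH (revH k σ) (oneH σ)) hH hnd
    (by rw [Module.finrank_prod, Module.finrank_fin_fun, Module.finrank_self])
    Tw hTwpres hTwdet
  refine ⟨QuotientGroup.mk g, fun i hi => ?_⟩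
  rw [mk_pow_eq_one_iff (p ^ a) hq2 hF hn] at hi
  obtain ⟨ε, hε⟩ := hi
  have h3 := (conj_pow_eq_smul_iff Φ (toEnd g.1) Tw hΦ i ε).mp hε
  rw [hTwpow] at h3
  have h4 : c ^ i = ε := by
    have := congrArg (fun f : Module.End F ((Fin (k + 1) → F) × F) => (f (0, 1)).2) h3
    simpa using this
  have h5 : ∀ v : Fin (k + 1) → F, (c * (lam : F)) ^ i • (U ^ i) v = ε • v := by
    intro v
    have := congrArg (fun f : Module.End F ((Fin (k + 1) → F) × F) => (f (v, 0)).1) h3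
    simpa using this
  have hcli : (c * (lam : F)) ^ i ≠ 0 := pow_ne_zero _ (mul_ne_zero hc0 lam.ne_zero)
  have h6 : U ^ i = (((c * (lam : F)) ^ i)⁻¹ * ε) • (1 : Module.End F (Fin (k + 1) → F)) := by
    apply LinearMap.ext
    intro v
    rw [LinearMap.smul_apply, Module.End.one_apply, mul_smul, ← h5 v, smul_smul,
      inv_mul_cancel₀ hcli, one_smul]
  have hUi : U ^ i = 1 := hU1 i _ h6
  have h7 : (lam : F) ^ i = 1 := by
    have h8 := h5 (Pi.single 0 1)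
    rw [hUi, Module.End.one_apply] at h8
    have h9 := congrFun h8 0
    simp only [Pi.smul_apply, Pi.single_eq_same, smul_eq_mul, mul_one] at h9
    rw [mul_pow, ← h4] at h9
    have : c ^ i * (lam : F) ^ i = c ^ i * 1 := by rw [h9, mul_one]
    exact mul_left_cancel₀ (pow_ne_zero i hc0) this
  constructor
  · rw [← hlam]
    apply orderOf_dvd_of_pow_eq_one
    apply Units.ext
    rw [Units.val_pow_eq_pow_val, h7]
    rfl
  · rcases hβ with hβ | hβ
    · rw [hβ, pow_zero]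
      exact one_dvd _
    · rcases Nat.eq_zero_or_pos β with h0 | hpos
      · rw [h0, pow_zero]
        exact one_dvd _
      · have h8 := hU2 (β - 1) (hUne (β - 1) (by omega)) i hUi
        rwa [Nat.sub_add_cancel hpos] at h8

/-- The semisimple part of an orthogonally indecomposable element and its structure. -/
theorem semisimple_data (ha : 1 ≤ a) (hF : Fintype.card F = (p ^ a) ^ 2) (hn : 3 ≤ n)
    (σ : F →+* F) (hσ : ∀ c, σ c = c ^ (p ^ a)) (g : Cfsg.SU n F (p ^ a))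
    (hg : ¬ UOrthDec (hermStd σ n) (toEnd g.1)) (b : ℕ)
    (hb : b = (orderOf (QuotientGroup.mk g : Cfsg.PSU n F (p ^ a))).factorization p)
    (s : Module.End F (Fin n → F)) (hs : s = toEnd g.1 ^ (p ^ b)) :
    ∃ (M : ℕ) (f : F[X]), 0 < M ∧ s ^ M = 1 ∧ Irreducible f ∧ f ∣ X ^ M - 1 ∧
      ((aeval s f = 0 ∧ f ∣ (f.map σ).comp (X ^ (M - 1))) ∨
       (∃ W W' : Submodule F (Fin n → F), IsCompl W W' ∧ (∀ w ∈ W, s w ∈ W) ∧
         (∀ w ∈ W', s w ∈ W') ∧ (∀ w ∈ W', (s ^ (M - 1)) w ∈ W') ∧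
         (∀ w ∈ W, aeval s f w = 0) ∧ (∀ w ∈ W', aeval (s ^ (M - 1)) (f.map σ) w = 0) ∧
         Module.finrank F W = Module.finrank F W')) := by
  classical
  have hp : p.Prime := Fact.out
  have hq2 := two_le_q p a ha
  have hinv : IsInvol σ := isInvol_frob (p ^ a) hq2 hF σ hσ
  have hσσ := hinv.invol
  have hH := isHerm_hermStd σ hσσ n
  haveI : Nonempty (Fin n) := ⟨⟨0, by omega⟩⟩
  obtain ⟨N, hN⟩ : ∃ N, N = orderOf (QuotientGroup.mk g : Cfsg.PSU n F (p ^ a)) := ⟨_, rfl⟩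
  rw [← hN] at hb
  have hN0 : N ≠ 0 := by rw [hN]; exact (orderOf_pos _).ne'
  obtain ⟨a', ha'⟩ : ∃ a', a' = ordCompl[p] N := ⟨_, rfl⟩
  have hNab : p ^ b * a' = N := by
    rw [hb, ha']
    exact Nat.ordProj_mul_ordCompl_eq_self N p
  have hpa' : ¬ p ∣ a' := by
    rw [ha']
    exact Nat.not_dvd_ordCompl hp hN0
  have ha'pos : 0 < a' := by
    rw [ha']
    exact Nat.ordCompl_pos p hN0
  obtain ⟨T, hT⟩ : ∃ T, T = toEnd g.1 := ⟨_, rfl⟩
  rw [← hT] at hg hs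
  obtain ⟨c₀, hc₀⟩ : ∃ c₀ : F, T ^ N = c₀ • (1 : Module.End F (Fin n → F)) := by
    rw [hT, hN]
    exact (mk_pow_eq_one_iff (p ^ a) hq2 hF hn g _).mp (pow_orderOf_eq_one _)
  have hc₀0 : c₀ ≠ 0 := by
    rintro rfl
    have h1 : LinearMap.det (T ^ N) = 1 := by rw [map_pow, hT, det_toEnd, one_pow]
    rw [hc₀, zero_smul, LinearMap.det_zero' (Pi.basisFun F (Fin n))] at h1
    exact zero_ne_one h1
  have hsa : s ^ a' = c₀ • (1 : Module.End F (Fin n → F)) := by rw [hs, ← pow_mul, hNab, hc₀]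
  have hQ : 0 < (p ^ a) ^ 2 - 1 := by
    have : 2 * 2 ≤ p ^ a * p ^ a := Nat.mul_le_mul hq2 hq2
    rw [pow_two]
    omega
  have hsM : s ^ (a' * ((p ^ a) ^ 2 - 1)) = 1 := by
    rw [pow_mul, hsa, _root_.smul_pow, one_pow, ← hF, FiniteField.pow_card_sub_one_eq_one c₀ hc₀0,
      one_smul]
  have hss : s.IsSemisimple := by
    have hcast : ((a' : ℕ) : F) ≠ 0 := by
      rw [Ne, CharP.cast_eq_zero_iff F p]
      exact hpa'
    have hsep : (X ^ a' - C c₀ : F[X]).Separable := separable_X_pow_sub_C c₀ hcast hc₀0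
    apply Module.End.isSemisimple_of_squarefree_aeval_eq_zero hsep.squarefree
    rw [map_sub, map_pow, aeval_X, aeval_C, hsa, Algebra.algebraMap_eq_smul_one, sub_self]
  have hsT : Commute s T := by rw [hs]; exact (Commute.refl T).pow_left _
  have hsH : UPres (hermStd σ n) s := by
    rw [hs, hT]
    exact (upres_toEnd σ (p ^ a) hσ g).pow _
  obtain ⟨f, hf, hfM, hcase⟩ := ustruct hσσ hH (hermStd_nondeg σ n) T hg s hsT hsH
    (a' * ((p ^ a) ^ 2 - 1)) (Nat.mul_pos ha'pos hQ) hsM hss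
  exact ⟨_, f, Nat.mul_pos ha'pos hQ, hsM, hf, hfM, hcase⟩

omit [CharP F p] in
theorem dvd_of_cover (ha : 1 ≤ a) (hF : Fintype.card F = (p ^ a) ^ 2) (hn : 3 ≤ n)
    (g gstar : Cfsg.SU n F (p ^ a)) (b : ℕ)
    (hb : b = (orderOf (QuotientGroup.mk g : Cfsg.PSU n F (p ^ a))).factorization p)
    (h : ∀ (j : ℕ) (c : F), toEnd gstar.1 ^ j = c • (1 : Module.End F (Fin n → F)) →
      ∃ c' : F, (toEnd g.1 ^ (p ^ b)) ^ j = c' • (1 : Module.End F (Fin n → F))) :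
    ordCompl[p] (orderOf (QuotientGroup.mk g : Cfsg.PSU n F (p ^ a))) ∣
      orderOf (QuotientGroup.mk gstar : Cfsg.PSU n F (p ^ a)) := by
  have hp : p.Prime := Fact.out
  have hq2 := two_le_q p a ha
  obtain ⟨J, hJ⟩ : ∃ J, J = orderOf (QuotientGroup.mk gstar : Cfsg.PSU n F (p ^ a)) := ⟨_, rfl⟩
  rw [← hJ]
  obtain ⟨c, hc⟩ : ∃ c : F, toEnd gstar.1 ^ J = c • (1 : Module.End F (Fin n → F)) := by
    rw [hJ]
    exact (mk_pow_eq_one_iff (p ^ a) hq2 hF hn gstar _).mp (pow_orderOf_eq_one _)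
  obtain ⟨c', hc'⟩ := h J c hc
  have h1 : (QuotientGroup.mk g : Cfsg.PSU n F (p ^ a)) ^ (p ^ b * J) = 1 := by
    rw [mk_pow_eq_one_iff (p ^ a) hq2 hF hn]
    exact ⟨c', by rw [pow_mul]; exact hc'⟩
  have h2 := orderOf_dvd_of_pow_eq_one h1
  obtain ⟨N, hN⟩ : ∃ N, N = orderOf (QuotientGroup.mk g : Cfsg.PSU n F (p ^ a)) := ⟨_, rfl⟩
  rw [← hN] at hb h2 ⊢
  have h3 : p ^ b * ordCompl[p] N ∣ p ^ b * J := by
    rw [hb, Nat.ordProj_mul_ordCompl_eq_self N p, ← hb]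
    exact h2
  exact Nat.dvd_of_mul_dvd_mul_left (pow_pos hp.pos b) h3

/-- The `p'`-parts of the orders of the orthogonally indecomposable elements are covered by one
cyclic torus. -/
theorem cover_semisimple (ha : 1 ≤ a) (hF : Fintype.card F = (p ^ a) ^ 2) (hn : 3 ≤ n)
    (σ : F →+* F) (hσ : ∀ c, σ c = c ^ (p ^ a)) :
    ∃ gstar : Cfsg.SU n F (p ^ a), ∀ g : Cfsg.SU n F (p ^ a),
      ¬ UOrthDec (hermStd σ n) (toEnd g.1) →
      ordCompl[p] (orderOf (QuotientGroup.mk g : Cfsg.PSU n F (p ^ a))) ∣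
        orderOf (QuotientGroup.mk gstar : Cfsg.PSU n F (p ^ a)) := by
  classical
  have hp : p.Prime := Fact.out
  have hq2 := two_le_q p a ha
  have hinv : IsInvol σ := isInvol_frob (p ^ a) hq2 hF σ hσ
  have hσσ := hinv.invol
  rcases Nat.even_or_odd n with heven | hodd
  · obtain ⟨m, hm⟩ := heven
    have hm' : n = 2 * m := by omega
    subst hm'
    haveI : NeZero m := ⟨by omega⟩
    obtain ⟨gstar, hgstar⟩ := torus_even_core p a ha hF σ hσ m (by omega)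
      (FiniteField.Extension F p m) (FiniteField.finrank_extension F p m)
    refine ⟨gstar, fun g hg => ?_⟩
    obtain ⟨M, f, hM, hsM, hf, hfM, hcase⟩ :=
      semisimple_data p a ha hF hn σ hσ g hg _ rfl _ rfl
    obtain ⟨k₁, Ψ, hk0, hΨ⟩ := even_data p a hF σ hσ hσσ m (by omega)
      (FiniteField.Extension F p m) (FiniteField.finrank_extension F p m)
      (fun f hf hd => exists_root p m f hf hd) (Module.finrank_fin_fun F) _ M hM hsM f hf hfM hcase
    apply dvd_of_cover p a ha hF hn g gstar _ rfl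
    exact hgstar _ k₁ Ψ hk0 (by rw [map_pow, det_toEnd, one_pow]) hΨ
  · haveI : NeZero n := ⟨by omega⟩
    obtain ⟨gstar, hgstar⟩ := torus_odd_core p a ha hF σ hσ n hodd
      (FiniteField.Extension F p n) (FiniteField.finrank_extension F p n)
      (fun f hf hd => exists_root p n f hf hd)
    refine ⟨gstar, fun g hg => ?_⟩
    obtain ⟨M, f, hM, hsM, hf, hfM, hcase⟩ :=
      semisimple_data p a ha hF hn σ hσ g hg _ rfl _ rfl
    apply dvd_of_cover p a ha hF hn g gstar _ rfl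
    rcases hcase with ⟨h0, h2⟩ | ⟨W, W', hcompl, -, -, -, -, -, hWW'⟩
    · exact hgstar _ f M (by rw [map_pow, det_toEnd, one_pow]) hf hM hfM h0 h2
    · exfalso
      have hsum := Submodule.finrank_add_eq_of_isCompl hcompl
      rw [Module.finrank_fin_fun] at hsum
      rw [Nat.odd_iff] at hodd
      omega

omit [Field F] [Fintype F] [CharP F p] in
theorem pow_eq_one_of_parts' {G : Type*} [Group G] (x : G) (h0 : orderOf x ≠ 0) (k : ℕ)
    (h1 : ordProj[p] (orderOf x) ∣ k) (h2 : ordCompl[p] (orderOf x) ∣ k) : x ^ k = 1 := by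
  have hp : p.Prime := Fact.out
  rw [← orderOf_dvd_iff_pow_eq_one, ← Nat.ordProj_mul_ordCompl_eq_self (orderOf x) p]
  exact Nat.Coprime.mul_dvd_of_dvd_of_dvd ((Nat.coprime_ordCompl hp h0).pow_left _) h1 h2

/-- Three elements of `PSU_n(q)` can be replaced by three elements covering their orders and
`r`. -/
theorem cover3 (ha : 1 ≤ a) (hF : Fintype.card F = (p ^ a) ^ 2) (hn : 3 ≤ n)
    (σ : F →+* F) (hσ : ∀ c, σ c = c ^ (p ^ a)) (r : ℕ) (hr : r.Prime) (hrq : r ∣ p ^ a + 1)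
    (hrn : ¬ r ∣ n) (x y z : Cfsg.PSU n F (p ^ a)) :
    ∃ x' y' z' : Cfsg.PSU n F (p ^ a), ∀ k : ℕ, x' ^ k = 1 → y' ^ k = 1 → z' ^ k = 1 →
      (x ^ k = 1 ∧ y ^ k = 1 ∧ z ^ k = 1 ∧ r ∣ k) := by
  have hp : p.Prime := Fact.out
  obtain ⟨g₁, rfl⟩ := QuotientGroup.mk_surjective x
  obtain ⟨g₂, rfl⟩ := QuotientGroup.mk_surjective y
  obtain ⟨g₃, rfl⟩ := QuotientGroup.mk_surjective z
  by_cases h1 : UOrthDec (hermStd σ n) (toEnd g₁.1)
  · obtain ⟨x', hx'⟩ := absorb p a ha hF hn σ hσ r hr hrq hrn g₁ h1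
    exact ⟨x', _, _, fun k hx hy hz => ⟨(hx' k hx).1, hy, hz, (hx' k hx).2⟩⟩
  by_cases h2 : UOrthDec (hermStd σ n) (toEnd g₂.1)
  · obtain ⟨y', hy'⟩ := absorb p a ha hF hn σ hσ r hr hrq hrn g₂ h2
    exact ⟨_, y', _, fun k hx hy hz => ⟨hx, (hy' k hy).1, hz, (hy' k hy).2⟩⟩
  by_cases h3 : UOrthDec (hermStd σ n) (toEnd g₃.1)
  · obtain ⟨z', hz'⟩ := absorb p a ha hF hn σ hσ r hr hrq hrn g₃ h3
    exact ⟨_, _, z', fun k hx hy hz => ⟨hx, hy, (hz' k hz).1, (hz' k hz).2⟩⟩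
  obtain ⟨gs, hgs⟩ := cover_semisimple p a ha hF hn σ hσ
  obtain ⟨w, hw⟩ := exists_w p a ha hF hn σ hσ r hr hrq hrn 0 (Or.inl rfl)
  obtain ⟨t, ht1, ht2, ht3⟩ := SpecPSL.exists_max3
    (fun g : Cfsg.SU n F (p ^ a) =>
      (orderOf (QuotientGroup.mk g : Cfsg.PSU n F (p ^ a))).factorization p) g₁ g₂ g₃
  refine ⟨QuotientGroup.mk gs, QuotientGroup.mk t, w, fun k hk1 hk2 hk3 => ?_⟩
  have d1 := orderOf_dvd_of_pow_eq_one hk1
  have d2 := orderOf_dvd_of_pow_eq_one hk2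
  have key : ∀ g : Cfsg.SU n F (p ^ a), ¬ UOrthDec (hermStd σ n) (toEnd g.1) →
      (orderOf (QuotientGroup.mk g : Cfsg.PSU n F (p ^ a))).factorization p
        ≤ (orderOf (QuotientGroup.mk t : Cfsg.PSU n F (p ^ a))).factorization p →
      (QuotientGroup.mk g : Cfsg.PSU n F (p ^ a)) ^ k = 1 := by
    intro g hg hle
    apply pow_eq_one_of_parts' p _ (orderOf_pos _).ne' k
    · exact ((Nat.pow_dvd_pow p hle).trans (Nat.ordProj_dvd _ _)).trans d2
    · exact (hgs g hg).trans d1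
  exact ⟨key g₁ h1 ht1, key g₂ h2 ht2, key g₃ h3 ht3, (hw k hk3).1⟩

/-- Two elements of `PSU_n(q)` can be replaced by two elements covering their orders and `r`,
provided `n - 1` is not a power of `p`. -/
theorem cover2 (ha : 1 ≤ a) (hF : Fintype.card F = (p ^ a) ^ 2) (hn : 3 ≤ n)
    (σ : F →+* F) (hσ : ∀ c, σ c = c ^ (p ^ a)) (r : ℕ) (hr : r.Prime) (hrq : r ∣ p ^ a + 1)
    (hrn : ¬ r ∣ n) (hnp : ¬ ∃ j : ℕ, n - 1 = p ^ j) (x y : Cfsg.PSU n F (p ^ a)) :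
    ∃ x' y' : Cfsg.PSU n F (p ^ a), ∀ k : ℕ, x' ^ k = 1 → y' ^ k = 1 →
      (x ^ k = 1 ∧ y ^ k = 1 ∧ r ∣ k) := by
  have hp : p.Prime := Fact.out
  obtain ⟨g₁, rfl⟩ := QuotientGroup.mk_surjective x
  obtain ⟨g₂, rfl⟩ := QuotientGroup.mk_surjective y
  by_cases h1 : UOrthDec (hermStd σ n) (toEnd g₁.1)
  · obtain ⟨x', hx'⟩ := absorb p a ha hF hn σ hσ r hr hrq hrn g₁ h1
    exact ⟨x', _, fun k hx hy => ⟨(hx' k hx).1, hy, (hx' k hx).2⟩⟩
  by_cases h2 : UOrthDec (hermStd σ n) (toEnd g₂.1)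
  · obtain ⟨y', hy'⟩ := absorb p a ha hF hn σ hσ r hr hrq hrn g₂ h2
    exact ⟨_, y', fun k hx hy => ⟨hx, (hy' k hy).1, (hy' k hy).2⟩⟩
  obtain ⟨gs, hgs⟩ := cover_semisimple p a ha hF hn σ hσ
  obtain ⟨t, ht1, ht2, -⟩ := SpecPSL.exists_max3
    (fun g : Cfsg.SU n F (p ^ a) =>
      (orderOf (QuotientGroup.mk g : Cfsg.PSU n F (p ^ a))).factorization p) g₁ g₂ g₂
  obtain ⟨β, hβ⟩ : ∃ β, β = (orderOf (QuotientGroup.mk t : Cfsg.PSU n F (p ^ a))).factorization p :=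
    ⟨_, rfl⟩
  simp only [← hβ] at ht1 ht2
  have hβ' : β = 0 ∨ p ^ (β - 1) < n - 1 := by
    rcases Nat.eq_zero_or_pos β with h0 | hpos
    · exact Or.inl h0
    · right
      have h3 : p ^ β ∣ orderOf t.1 := by
        rw [hβ]
        refine (Nat.ordProj_dvd _ p).trans (orderOf_dvd_of_pow_eq_one ?_)
        rw [Subgroup.orderOf_coe, ← QuotientGroup.mk_pow, pow_orderOf_eq_one]
        rfl
      have ht0 : orderOf t.1 ≠ 0 := (orderOf_pos t.1).ne'
      obtain ⟨e, he⟩ : ∃ e, e = (orderOf t.1).factorization p := ⟨_, rfl⟩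
      have hβe : β ≤ e := by
        rw [he]
        exact (hp.pow_dvd_iff_le_factorization ht0).mp h3
      have hu : orderOf (t.1 ^ (ordCompl[p] (orderOf t.1))) = p ^ e := by
        rw [orderOf_pow' _ (Nat.ordCompl_pos p ht0).ne', Nat.gcd_eq_right (Nat.ordCompl_dvd _ _), he]
        exact Nat.div_eq_of_eq_mul_left (Nat.ordCompl_pos p ht0)
          (Nat.ordProj_mul_ordCompl_eq_self _ _).symm
      have hlt := SpecPSL.pow_lt_of_orderOf p (by omega : 0 < n) _ e (by omega) hu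
      have h4 : p ^ (β - 1) ≤ p ^ (e - 1) := Nat.pow_le_pow_right hp.pos (by omega)
      have h5 : p ^ (β - 1) ≠ n - 1 := fun h => hnp ⟨β - 1, h.symm⟩
      omega
  obtain ⟨w, hw⟩ := exists_w p a ha hF hn σ hσ r hr hrq hrn β hβ'
  refine ⟨QuotientGroup.mk gs, w, fun k hk1 hk2 => ?_⟩
  have d1 := orderOf_dvd_of_pow_eq_one hk1
  obtain ⟨hrk, hpβ⟩ := hw k hk2
  have key : ∀ g : Cfsg.SU n F (p ^ a), ¬ UOrthDec (hermStd σ n) (toEnd g.1) →
      (orderOf (QuotientGroup.mk g : Cfsg.PSU n F (p ^ a))).factorization p ≤ β →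
      (QuotientGroup.mk g : Cfsg.PSU n F (p ^ a)) ^ k = 1 := by
    intro g hg hle
    apply pow_eq_one_of_parts' p _ (orderOf_pos _).ne' k
    · exact (Nat.pow_dvd_pow p hle).trans hpβ
    · exact (hgs g hg).trans d1
  exact ⟨key g₁ h1 ht1, key g₂ h2 ht2, hrk⟩

end finite

end Cfsg.Agent.Helper42.SpecPSU
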