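import Mathlib
import Cfsg.Agent.Helper42.SpecPSU

set_option autoImplicit false

/-!
# Auxiliary lemmas for the spectrum of `PSU_3(q)` (helper42)

Linear algebra of invariant complementary subspaces, eigenlines, elements fixed by Frobenius, and
some arithmetic of `q + 1`, `q^2 - 1`, `q^2 - q + 1`.
-/

namespace Cfsg.Agent.Helper42.U3Lemmas

open Polynomial UForm UGroup

universe u v

variable {F : Type u} [Field F]

section arith

theorem mul_div_eq' (d n x : ℕ) (hdn : d ∣ n) (hdx : d ∣ x) : x * (n / d) = (x / d) * n := by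
  obtain ⟨n', rfl⟩ := hdn
  obtain ⟨x', rfl⟩ := hdx
  rcases d.eq_zero_or_pos with rfl | hd
  · simp
  · rw [Nat.mul_div_cancel_left _ hd, Nat.mul_div_cancel_left _ hd]
    ring

theorem gcd_dvd_sq_sub_one (q : ℕ) (hq : 1 ≤ q) : Nat.gcd 3 (q + 1) ∣ q ^ 2 - 1 := by
  rw [sq_sub_one q hq]
  exact (Nat.gcd_dvd_right 3 (q + 1)).mul_right _

theorem gcd_dvd_B (q : ℕ) (hq : 2 ≤ q) : Nat.gcd 3 (q + 1) ∣ q ^ 2 - q + 1 := by
  obtain ⟨t, rfl⟩ : ∃ t, q = t + 2 := ⟨q - 2, by omega⟩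
  have h1 : (t + 2) ^ 2 - (t + 2) + 1 = (t + 2 + 1) * t + 3 := by
    have : (t + 2) ^ 2 = (t + 2 + 1) * t + 2 + (t + 2) := by ring
    omega
  rw [h1]
  exact Nat.dvd_add ((Nat.gcd_dvd_right 3 (t + 2 + 1)).mul_right _) (Nat.gcd_dvd_left 3 (t + 2 + 1))

theorem B_add (q : ℕ) (hq : 1 ≤ q) : q ^ 2 - q + 1 + q = q ^ 2 + 1 := by
  have : q ≤ q ^ 2 := by
    calc q = q ^ 1 := (pow_one q).symm
      _ ≤ q ^ 2 := Nat.pow_le_pow_right hq (by norm_num)
  omega

theorem B_eq (q : ℕ) (hq : 2 ≤ q) : q ^ 2 - q + 1 = (q + 1) * (q - 2) + 3 := by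
  obtain ⟨t, rfl⟩ : ∃ t, q = t + 2 := ⟨q - 2, by omega⟩
  have : (t + 2) ^ 2 = (t + 2 + 1) * t + 2 + (t + 2) := by ring
  simp only [Nat.add_sub_cancel]
  omega

theorem q_add_one_mul_B (q : ℕ) (hq : 1 ≤ q) : (q + 1) * (q ^ 2 - q + 1) = q ^ 3 + 1 := by
  have hB := B_add q hq
  zify at hB ⊢
  linear_combination ((q : ℤ) + 1) * hB

theorem B_mul (q : ℕ) (hq : 1 ≤ q) : (q ^ 2 - q + 1) * (q ^ 2 + q + 1) = 1 + q ^ 2 + (q ^ 2) ^ 2 := by
  have hB := B_add q hq
  zify at hB ⊢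
  linear_combination ((q : ℤ) ^ 2 + q + 1) * hB

theorem q6_sub_one (q : ℕ) (hq : 1 ≤ q) :
    (q ^ 2) ^ 3 - 1 = (q ^ 3 - 1) * (q + 1) * (q ^ 2 - q + 1) := by
  have h1 := q_add_one_mul_B q hq
  obtain ⟨A, hA⟩ : ∃ A, A + 1 = q ^ 3 := ⟨q ^ 3 - 1, Nat.sub_add_cancel (Nat.one_le_pow _ _ hq)⟩
  have h2 : q ^ 3 - 1 = A := by omega
  rw [h2, mul_assoc, h1, ← hA]
  have : (q ^ 2) ^ 3 = A * (A + 1 + 1) + 1 := by
    rw [← pow_mul, show 2 * 3 = 3 * 2 by norm_num, pow_mul, ← hA]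
    ring
  omega

end arith

section linalg

variable {V : Type v} [AddCommGroup V] [Module F V]

theorem restrict_pow_apply (T : Module.End F V) (P : Submodule F V) (hP : ∀ v ∈ P, T v ∈ P)
    (k : ℕ) (x : P) : (((T.restrict hP) ^ k) x : V) = (T ^ k) (x : V) := by
  induction k generalizing x with
  | zero => simp
  | succ k ih =>
    rw [pow_succ, pow_succ, Module.End.mul_apply, Module.End.mul_apply, ih]
    rfl

theorem pow_apply_of_eigen (T : Module.End F V) (μ : F) (S : Submodule F V)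
    (h : ∀ v ∈ S, T v = μ • v) (k : ℕ) : ∀ v ∈ S, (T ^ k) v = μ ^ k • v := by
  induction k with
  | zero => intro v _; simp
  | succ k ih =>
    intro v hv
    rw [pow_succ, Module.End.mul_apply, h v hv, map_smul, ih v hv, smul_smul, pow_succ, mul_comm]

theorem exists_decomp (V₁ V₂ : Submodule F V) (hc : IsCompl V₁ V₂) (v : V) :
    ∃ v₁ ∈ V₁, ∃ v₂ ∈ V₂, v = v₁ + v₂ := by
  have : v ∈ V₁ ⊔ V₂ := by rw [hc.sup_eq_top]; trivial
  obtain ⟨v₁, hv₁, v₂, hv₂, rfl⟩ := Submodule.mem_sup.mp this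
  exact ⟨v₁, hv₁, v₂, hv₂, rfl⟩

theorem det_eq_of_isCompl [FiniteDimensional F V] (T : Module.End F V) (V₁ V₂ : Submodule F V)
    (hc : IsCompl V₁ V₂) (h₁ : ∀ v ∈ V₁, T v ∈ V₁) (h₂ : ∀ v ∈ V₂, T v ∈ V₂) :
    LinearMap.det T = LinearMap.det (T.restrict h₁) * LinearMap.det (T.restrict h₂) := by
  let E := Submodule.prodEquivOfIsCompl V₁ V₂ hc
  have hT : T = (E : (V₁ × V₂) →ₗ[F] V) ∘ₗ ((T.restrict h₁).prodMap (T.restrict h₂)) ∘ₗ
      (E.symm : V →ₗ[F] (V₁ × V₂)) := by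
    apply LinearMap.ext
    intro x
    obtain ⟨⟨a, b⟩, rfl⟩ := E.surjective x
    simp only [LinearMap.coe_comp, LinearEquiv.coe_coe, Function.comp_apply,
      LinearEquiv.symm_apply_apply, LinearMap.prodMap_apply]
    simp only [E, Submodule.coe_prodEquivOfIsCompl', map_add, LinearMap.coe_restrict_apply]
  have h3 := congrArg LinearMap.det hT
  rw [LinearMap.det_conj, LinearMap.det_prodMap] at h3
  exact h3

theorem exists_eigen (L : Submodule F V) (hL : Module.finrank F L = 1) (T : Module.End F V)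
    (hT : ∀ v ∈ L, T v ∈ L) :
    ∃ μ : F, (∀ v ∈ L, T v = μ • v) ∧ LinearMap.det (T.restrict hT) = μ := by
  obtain ⟨v₀, hv₀, hspan⟩ := finrank_eq_one_iff'.mp hL
  obtain ⟨μ, hμ⟩ := hspan ⟨T v₀, hT v₀ v₀.2⟩
  have hμ' : T (v₀ : V) = μ • (v₀ : V) := by
    have := congrArg Subtype.val hμ
    simpa using this.symm
  have key : ∀ v ∈ L, T v = μ • v := by
    intro v hv
    obtain ⟨c, hc⟩ := hspan ⟨v, hv⟩
    have hc' : v = c • (v₀ : V) := by
      have := congrArg Subtype.val hc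
      simpa using this.symm
    rw [hc', map_smul, hμ', smul_comm]
  refine ⟨μ, key, ?_⟩
  have h1 : T.restrict hT = μ • (1 : Module.End F L) := by
    apply LinearMap.ext
    intro x
    apply Subtype.ext
    rw [LinearMap.coe_restrict_apply, key x x.2]
    rfl
  rw [h1, LinearMap.det_smul, hL, pow_one, map_one, mul_one]

theorem scalar_of_deg_one (s : Module.End F V) (f : F[X]) (hdeg : f.natDegree = 1)
    (h0 : aeval s f = 0) : ∃ α : F, s = α • (1 : Module.End F V) := by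
  have hf : f = C (f.coeff 1) * X + C (f.coeff 0) :=
    Polynomial.eq_X_add_C_of_natDegree_le_one (by omega)
  have hc1 : f.coeff 1 ≠ 0 := by
    intro h
    have h3 : f.leadingCoeff = 0 := by rw [Polynomial.leadingCoeff, hdeg, h]
    rw [Polynomial.leadingCoeff_eq_zero] at h3
    rw [h3] at hdeg
    simp at hdeg
  rw [hf] at h0
  simp only [map_add, map_mul, aeval_C, aeval_X] at h0
  refine ⟨-(f.coeff 0) / (f.coeff 1), ?_⟩
  apply LinearMap.ext
  intro v
  have h1 := congrArg (fun g : Module.End F V => g v) h0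
  simp only [LinearMap.add_apply, Module.End.mul_apply, Module.algebraMap_end_apply,
    LinearMap.zero_apply] at h1
  rw [LinearMap.smul_apply, Module.End.one_apply]
  have h2 : f.coeff 1 • s v = f.coeff 1 • ((-(f.coeff 0) / (f.coeff 1)) • v) := by
    rw [smul_smul, mul_div_cancel₀ _ hc1, neg_smul]
    exact eq_neg_of_add_eq_zero_left h1
  exact smul_right_injective V hc1 h2

theorem nondeg_restrict {σ : F →+* F} {H : V → V → F} (hH : IsHerm σ H)
    (hnd : ∀ v, (∀ w, H v w = 0) → v = 0) (V₁ V₂ : Submodule F V) (hc : IsCompl V₁ V₂)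
    (horth : ∀ x ∈ V₁, ∀ y ∈ V₂, H x y = 0) :
    (∀ x ∈ V₁, (∀ y ∈ V₁, H x y = 0) → x = 0) ∧ (∀ x ∈ V₂, (∀ y ∈ V₂, H x y = 0) → x = 0) := by
  constructor
  · intro x hx h
    apply hnd
    intro w
    obtain ⟨w₁, hw₁, w₂, hw₂, rfl⟩ := exists_decomp V₁ V₂ hc w
    rw [hH.add_right, h w₁ hw₁, horth x hx w₂ hw₂, add_zero]
  · intro x hx h
    apply hnd
    intro w
    obtain ⟨w₁, hw₁, w₂, hw₂, rfl⟩ := exists_decomp V₁ V₂ hc w
    rw [hH.add_right, h w₂ hw₂, hH.conj, horth w₁ hw₁ x hx, map_zero, add_zero]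

theorem norm_one_of_eigen {σ : F →+* F} {H : V → V → F} (hH : IsHerm σ H) (q : ℕ)
    (hσ : ∀ c, σ c = c ^ q) (T : Module.End F V) (hT : UPres H T) (μ : F) (v w : V)
    (hv : T v = μ • v) (hw : T w = μ • w) (hvw : H v w ≠ 0) : μ ^ (q + 1) = 1 := by
  have h3 := hT v w
  rw [hv, hw, hH.smul_left, hH.smul_right, hσ, ← mul_assoc, ← pow_succ'] at h3
  exact mul_right_cancel₀ hvw (by rw [h3, one_mul])

end linalg

section frob

/-- An element of a finite extension fixed by the Frobenius of the base field lies in the base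
field. -/
theorem mem_range_of_pow_card [Fintype F] {K : Type v} [Field K] [Finite K] [Algebra F K] (y : K)
    (hy : y ^ Fintype.card F = y) : ∃ c : F, algebraMap F K c = y := by
  have h := (IsGalois.mem_range_algebraMap_iff_fixed (F := F) (E := K) y).mpr ?_
  · exact h
  · intro τ
    obtain ⟨⟨i, hi⟩, hiτ⟩ := (FiniteField.bijective_frobeniusAlgHom_pow F K).2 (τ : K →ₐ[F] K)
    simp only at hiτ
    have hfrob : ∀ x : K, τ x = x ^ (Fintype.card F ^ i) := by
      intro x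
      have h1 := congrArg (fun g : K →ₐ[F] K => g x) hiτ
      simp only [AlgHom.coe_pow, FiniteField.coe_frobeniusAlgHom, pow_iterate] at h1
      exact h1.symm
    rw [hfrob]
    clear hiτ hfrob hi
    induction i with
    | zero => rw [pow_zero, pow_one]
    | succ i ih => rw [pow_succ, pow_mul, ih, hy]

end frob

end Cfsg.Agent.Helper42.U3Lemmas
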