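import Mathlib
import Cfsg.Agent.Helper42.U3Lemmas

set_option autoImplicit false

/-!
# Auxiliary lemmas for the spectrum of `PSL_3(q)` (helper42)

* `GDec` : decomposability of an endomorphism into two invariant complementary subspaces;
* `irr_of_indec` : a semisimple endomorphism commuting with an indecomposable one is annihilated by
  an irreducible polynomial;
* `indec_prime_dim` : an indecomposable endomorphism of finite order of a space of prime dimension
  over a field of characteristic `p` has a scalar `p`-power, or is annihilated by an irreducible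
  polynomial of degree the dimension;
* `exists_sl_of_model` : transport of an endomorphism of determinant one to `SL_n`.
-/

namespace Cfsg.Agent.Helper42.L3Lemmas

open Polynomial UGroup ProjOrd U3Lemmas

universe u v

variable {F : Type u} [Field F]

section arith

theorem gcd_dvd_q2 (q : ℕ) (hq : 1 ≤ q) : Nat.gcd 3 (q - 1) ∣ q + 2 := by
  have h : q + 2 = (q - 1) + 3 := by omega
  rw [h]
  exact Nat.dvd_add (Nat.gcd_dvd_right 3 (q - 1)) (Nat.gcd_dvd_left 3 (q - 1))

theorem A_eq (q : ℕ) (hq : 1 ≤ q) : q ^ 2 + q + 1 = (q - 1) * (q + 2) + 3 := by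
  obtain ⟨t, rfl⟩ : ∃ t, q = t + 1 := ⟨q - 1, by omega⟩
  simp only [Nat.add_sub_cancel]
  ring

theorem gcd_dvd_A (q : ℕ) (hq : 1 ≤ q) : Nat.gcd 3 (q - 1) ∣ q ^ 2 + q + 1 := by
  rw [A_eq q hq]
  exact Nat.dvd_add ((Nat.gcd_dvd_right 3 (q - 1)).mul_right _) (Nat.gcd_dvd_left 3 (q - 1))

theorem gcd_dvd_sq (q : ℕ) (hq : 1 ≤ q) : Nat.gcd 3 (q - 1) ∣ q ^ 2 - 1 := by
  rw [sq_sub_one q hq]
  exact (Nat.gcd_dvd_right 3 (q - 1)).mul_left _

theorem q3_sub_one (q : ℕ) (hq : 1 ≤ q) : q ^ 3 - 1 = (q - 1) * (q ^ 2 + q + 1) := by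
  obtain ⟨t, rfl⟩ : ∃ t, q = t + 1 := ⟨q - 1, by omega⟩
  simp only [Nat.add_sub_cancel]
  have : (t + 1) ^ 3 = t * ((t + 1) ^ 2 + (t + 1) + 1) + 1 := by ring
  rw [this, Nat.add_sub_cancel]

end arith

section gl

variable {V : Type v} [AddCommGroup V] [Module F V]

/-- Decomposability of an endomorphism. -/
def GDec (T : Module.End F V) : Prop :=
  ∃ V₁ V₂ : Submodule F V, IsCompl V₁ V₂ ∧ V₁ ≠ ⊥ ∧ V₂ ≠ ⊥ ∧ (∀ v ∈ V₁, T v ∈ V₁) ∧
    (∀ v ∈ V₂, T v ∈ V₂)

theorem irr_of_indec [FiniteDimensional F V] [Nontrivial V] (T : Module.End F V) (hT : ¬ GDec T)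
    (s : Module.End F V) (hs : s.IsSemisimple) (hsT : Commute s T) :
    ∃ f : F[X], Irreducible f ∧ aeval s f = 0 := by
  have hμ : ¬ IsUnit (minpoly F s) := minpoly.not_isUnit F s
  obtain ⟨f, hfmonic, hfirr, hfdvd⟩ := Polynomial.exists_monic_irreducible_factor _ hμ
  refine ⟨f, hfirr, ?_⟩
  obtain ⟨A, hA⟩ : ∃ A, A = aeval s f := ⟨_, rfl⟩
  have hAss : A.IsSemisimple := by rw [hA]; exact hs.aeval f
  have hAT : Commute A T := by rw [hA]; exact (SpStruct.commute_aeval' T s hsT.symm f).symm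
  have hkerA : LinearMap.ker A ≠ ⊥ := by
    intro hbot
    obtain ⟨h, hh⟩ := hfdvd
    have hinj : Function.Injective A := LinearMap.ker_eq_bot.mp hbot
    have h0 : aeval s h = 0 := by
      apply LinearMap.ext
      intro v
      apply hinj
      rw [← Module.End.mul_apply, hA, ← map_mul, ← hh, minpoly.aeval]
      simp
    have h3 := minpoly.dvd F s h0
    have hh0 : h ≠ 0 := by
      rintro rfl
      rw [mul_zero] at hh
      exact minpoly.ne_zero (Algebra.IsIntegral.isIntegral s) hh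
    have h4 : f * h ∣ 1 * h := by
      rw [one_mul, ← hh]
      exact h3
    exact hfirr.not_isUnit (isUnit_of_dvd_one ((mul_dvd_mul_iff_right hh0).mp h4))
  rw [← hA]
  by_contra hA0
  apply hT
  have hcomm : ∀ v, A (T v) = T (A v) := fun v => by
    have := congrArg (fun g : Module.End F V => g v) hAT.eq
    simpa [Module.End.mul_apply] using this
  refine ⟨LinearMap.ker A, LinearMap.range A, SpStruct.isCompl_ker_range A hAss, hkerA, ?_, ?_, ?_⟩
  · intro h
    exact hA0 (LinearMap.range_eq_bot.mp h)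
  · intro v hv
    rw [LinearMap.mem_ker] at *
    rw [hcomm, hv, map_zero]
  · rintro _ ⟨w, rfl⟩
    exact ⟨T w, hcomm w⟩

theorem indec_prime_dim (p : ℕ) [Fact p.Prime] [CharP F p] [FiniteDimensional F V] (D : ℕ)
    (hD : D.Prime) (hdim : Module.finrank F V = D) (T : Module.End F V) (hT : ¬ GDec T) (m : ℕ)
    (hm : 0 < m) (hTm : T ^ m = 1) :
    (∃ (b : ℕ) (α : F), T ^ (p ^ b) = α • (1 : Module.End F V)) ∨
    (∃ f : F[X], Irreducible f ∧ f.natDegree = D ∧ aeval T f = 0) := by
  classical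
  have hp : p.Prime := Fact.out
  haveI : Nontrivial V := Module.nontrivial_of_finrank_pos (R := F) (by rw [hdim]; exact hD.pos)
  obtain ⟨b, hb⟩ : ∃ b, b = m.factorization p := ⟨_, rfl⟩
  obtain ⟨a', ha'⟩ : ∃ a', a' = ordCompl[p] m := ⟨_, rfl⟩
  have hm0 : m ≠ 0 := hm.ne'
  have hmab : p ^ b * a' = m := by
    rw [hb, ha']
    exact Nat.ordProj_mul_ordCompl_eq_self m p
  have hpa' : ¬ p ∣ a' := by
    rw [ha']
    exact Nat.not_dvd_ordCompl hp hm0
  have hsemi : ∀ S : Module.End F V, S ^ a' = 1 → S.IsSemisimple := by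
    intro S hS
    have hcast : ((a' : ℕ) : F) ≠ 0 := by
      rw [Ne, CharP.cast_eq_zero_iff F p]
      exact hpa'
    have hsep : (X ^ a' - C (1 : F) : F[X]).Separable :=
      separable_X_pow_sub_C 1 hcast one_ne_zero
    apply Module.End.isSemisimple_of_squarefree_aeval_eq_zero hsep.squarefree
    rw [map_sub, map_pow, aeval_X, aeval_C, hS, map_one, sub_self]
  obtain ⟨s, hs⟩ : ∃ s, s = T ^ (p ^ b) := ⟨_, rfl⟩
  have hsa : s ^ a' = 1 := by rw [hs, ← pow_mul, hmab, hTm]
  have hsT : Commute s T := by rw [hs]; exact (Commute.refl T).pow_left _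
  obtain ⟨f, hf, h0⟩ := irr_of_indec T hT s (hsemi s hsa) hsT
  have hdvd : f.natDegree ∣ D := by
    have := (SpStruct.kmod s f hf h0).1
    rwa [hdim] at this
  rcases (Nat.dvd_prime hD).mp hdvd with hdeg | hdeg
  · left
    obtain ⟨α, hα⟩ := scalar_of_deg_one s f hdeg h0
    exact ⟨b, α, by rw [← hs, hα]⟩
  · have hu : (T ^ a') ^ (p ^ b) = 1 := by rw [← pow_mul, mul_comm, hmab, hTm]
    have hnil := SpStruct.nilpotent_sub_one p _ b hu
    have hcomm : Commute (T ^ a' - 1) s := by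
      rw [hs]
      exact ((Commute.refl T).pow_pow _ _).sub_left (Commute.one_left _)
    have h5 := (SpStruct.kmod s f hf h0).2 _ hcomm hnil 1 (by rw [hdim, hdeg, one_mul])
    rw [pow_one] at h5
    have h6 : T ^ a' = 1 := sub_eq_zero.mp h5
    obtain ⟨f', hf', h0'⟩ := irr_of_indec T hT T (hsemi T h6) (Commute.refl T)
    have hdvd' : f'.natDegree ∣ D := by
      have := (SpStruct.kmod T f' hf' h0').1
      rwa [hdim] at this
    rcases (Nat.dvd_prime hD).mp hdvd' with hdeg' | hdeg'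
    · left
      obtain ⟨α, hα⟩ := scalar_of_deg_one T f' hdeg' h0'
      exact ⟨0, α, by rw [pow_zero, pow_one, hα]⟩
    · right
      exact ⟨f', hf', hdeg', h0'⟩

/-- Transport of an endomorphism of determinant one to the special linear group. -/
theorem exists_sl_of_model (n : ℕ) (V : Type v) [AddCommGroup V] [Module F V]
    [FiniteDimensional F V] (hdim : Module.finrank F V = n) (T : Module.End F V)
    (hdet : LinearMap.det T = 1) :
    ∃ (g : Matrix.SpecialLinearGroup (Fin n) F) (Φ : V ≃ₗ[F] (Fin n → F)),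
      ∀ x, toEnd g (Φ x) = Φ (T x) := by
  have hrank : Module.finrank F V = Module.finrank F (Fin n → F) := by
    rw [hdim, Module.finrank_fin_fun]
  let Φ : V ≃ₗ[F] (Fin n → F) := LinearEquiv.ofFinrankEq _ _ hrank
  let G : Module.End F (Fin n → F) := Φ.toLinearMap ∘ₗ T ∘ₗ Φ.symm.toLinearMap
  have hGapp : ∀ x, G x = Φ (T (Φ.symm x)) := fun x => rfl
  have hGdet : LinearMap.det G = 1 := by
    rw [LinearMap.det_conj, hdet]
  refine ⟨ofEnd G hGdet, Φ, fun x => ?_⟩
  rw [toEnd_ofEnd, hGapp, Φ.symm_apply_apply]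

end gl

section fields

variable [Fintype F]

/-- Fermat's little theorem in a finite extension of degree `m`. -/
theorem pow_card_ext (K : Type v) [Field K] [Finite K] [Algebra F K] (m : ℕ)
    (hdim : Module.finrank F K = m) (x : K) : x ^ (Fintype.card F ^ m) = x := by
  have := Fintype.ofFinite K
  have h3 := FiniteField.pow_card x
  rwa [Fintype.card_eq_nat_card, Module.natCard_eq_pow_finrank (K := F) (V := K), hdim,
    Nat.card_eq_fintype_card] at h3

theorem exists_gen_F : ∃ ζ : Fˣ, orderOf ζ = Fintype.card F - 1 := by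
  obtain ⟨κ, hκ⟩ := IsCyclic.exists_ofOrder_eq_natCard (α := Fˣ)
  refine ⟨κ, ?_⟩
  rw [hκ, Nat.card_units, Nat.card_eq_fintype_card]

end fields

end Cfsg.Agent.Helper42.L3Lemmas
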