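import Mathlib
import Cfsg.Agent.Helper42.L3Lemmas

set_option autoImplicit false

/-!
# Upper bound for the spectrum of `PSL_3(q)` (helper42)

`upper` : the order of every element of `PSL_3(q)` divides one of `(q^2 + q + 1) / d`,
`(q^2 - 1) / d`, `q - 1`, `p (q - 1) / d` (or `4` when `p = 2`), where `d = gcd(3, q - 1)`.
-/

namespace Cfsg.Agent.Helper42.L3Upper

open Polynomial UGroup UStruct UModels ProjOrd U3Lemmas L3Lemmas

universe u v

variable {F : Type u} [Field F] [Fintype F] (p : ℕ) [Fact p.Prime] [CharP F p]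

/-- Endomorphisms of finite order of a plane over a finite field. -/
theorem plane_gl {P : Type v} [AddCommGroup P] [Module F P] [FiniteDimensional F P]
    (hdim : Module.finrank F P = 2) (T : Module.End F P) (m : ℕ) (hm : 0 < m) (hTm : T ^ m = 1) :
    (∃ t₁ t₂ : F, LinearMap.det T = t₁ * t₂ ∧
      ∀ (j : ℕ) (c : F), t₁ ^ j = c → t₂ ^ j = c → T ^ j = c • (1 : Module.End F P)) ∨
    (∃ (b : ℕ) (α : F), T ^ (p ^ b) = α • (1 : Module.End F P)) ∨
    (∃ (k : FiniteField.Extension F p 2) (Ψ : P ≃ₗ[F] FiniteField.Extension F p 2),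
      ∀ x, Ψ (T x) = k * Ψ x) := by
  classical
  by_cases hdec : GDec T
  · left
    obtain ⟨V₁, V₂, hc, h1, h2, hi1, hi2⟩ := hdec
    have hsum := Submodule.finrank_add_eq_of_isCompl hc
    rw [hdim] at hsum
    have hn1 : Module.finrank F V₁ ≠ 0 := fun h => h1 (Submodule.finrank_eq_zero.mp h)
    have hn2 : Module.finrank F V₂ ≠ 0 := fun h => h2 (Submodule.finrank_eq_zero.mp h)
    obtain ⟨t₁, ht₁, hdet₁⟩ := exists_eigen V₁ (by omega) T hi1
    obtain ⟨t₂, ht₂, hdet₂⟩ := exists_eigen V₂ (by omega) T hi2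
    refine ⟨t₁, t₂, ?_, ?_⟩
    · rw [det_eq_of_isCompl T V₁ V₂ hc hi1 hi2, hdet₁, hdet₂]
    · intro j c e1 e2
      apply LinearMap.ext
      intro v
      obtain ⟨x, hx, x', hx', rfl⟩ := exists_decomp V₁ V₂ hc v
      rw [map_add, pow_apply_of_eigen T t₁ V₁ ht₁ j x hx, pow_apply_of_eigen T t₂ V₂ ht₂ j x' hx',
        e1, e2, LinearMap.smul_apply, Module.End.one_apply, smul_add]
  · right
    rcases indec_prime_dim p 2 Nat.prime_two hdim T hdec m hm hTm with ⟨b, α, h⟩ | ⟨f, hf, hdeg, h0⟩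
    · left
      exact ⟨b, α, h⟩
    · right
      obtain ⟨k, hk⟩ := exists_root p 2 f hf (by rw [hdeg])
      obtain ⟨Ψ, hΨ⟩ := intertwine T (LinearMap.mul F (FiniteField.Extension F p 2) k) f hf h0
        (by rw [UTorus.aeval_mul, hk]; exact map_zero _)
        (by rw [hdim, FiniteField.finrank_extension])
      exact ⟨k, Ψ, fun x => hΨ x⟩

/-- The decomposable case. -/
theorem dec_case_gl {V : Type v} [AddCommGroup V] [Module F V] [FiniteDimensional F V]
    (hV : Module.finrank F V = 3) (T : Module.End F V) (hdet : LinearMap.det T = 1) (m : ℕ)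
    (hm : 0 < m) (hTm : T ^ m = 1) (hdec : GDec T) :
    (∃ c : F, T ^ (Fintype.card F - 1) = c • (1 : Module.End F V)) ∨
    (∃ c : F, T ^ (p * ((Fintype.card F - 1) / Nat.gcd 3 (Fintype.card F - 1))) =
      c • (1 : Module.End F V)) ∨
    (∃ c : F, T ^ ((Fintype.card F ^ 2 - 1) / Nat.gcd 3 (Fintype.card F - 1)) =
      c • (1 : Module.End F V)) := by
  classical
  have hp : p.Prime := Fact.out
  obtain ⟨q, hq⟩ : ∃ q, q = Fintype.card F := ⟨_, rfl⟩
  rw [← hq]
  have hq2 : 2 ≤ q := by rw [hq]; exact Fintype.one_lt_card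
  have hQ1 : ∀ c : F, c ≠ 0 → c ^ (q - 1) = 1 := fun c hc => by
    rw [hq]
    exact FiniteField.pow_card_sub_one_eq_one c hc
  obtain ⟨L, P, hc, hdL, hdP, hiL, hiP⟩ : ∃ L P : Submodule F V, IsCompl L P ∧
      Module.finrank F L = 1 ∧ Module.finrank F P = 2 ∧ (∀ v ∈ L, T v ∈ L) ∧
      (∀ v ∈ P, T v ∈ P) := by
    obtain ⟨V₁, V₂, hc, h1, h2, hi1, hi2⟩ := hdec
    have hsum := Submodule.finrank_add_eq_of_isCompl hc
    rw [hV] at hsum
    have hn1 : Module.finrank F V₁ ≠ 0 := fun h => h1 (Submodule.finrank_eq_zero.mp h)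
    have hn2 : Module.finrank F V₂ ≠ 0 := fun h => h2 (Submodule.finrank_eq_zero.mp h)
    by_cases h : Module.finrank F V₁ = 1
    · exact ⟨V₁, V₂, hc, h, by omega, hi1, hi2⟩
    · exact ⟨V₂, V₁, hc.symm, by omega, by omega, hi2, hi1⟩
  obtain ⟨μ, hμ, hdetL⟩ := exists_eigen L hdL T hiL
  haveI : Nontrivial P := Module.nontrivial_of_finrank_pos (R := F) (by omega)
  obtain ⟨T₂, hT₂def⟩ : ∃ T₂ : Module.End F P, T₂ = T.restrict hiP := ⟨_, rfl⟩
  have hpowP : ∀ (k : ℕ) (x : P), (T ^ k) (x : V) = ((T₂ ^ k) x : V) := fun k x => by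
    rw [hT₂def]
    exact (restrict_pow_apply T P hiP k x).symm
  have hT₂m : T₂ ^ m = 1 := by
    apply LinearMap.ext
    intro x
    apply Subtype.ext
    rw [← hpowP, hTm]
    rfl
  have hdet2 : μ * LinearMap.det T₂ = 1 := by
    rw [hT₂def, ← hdetL, ← det_eq_of_isCompl T L P hc hiL hiP, hdet]
  have hμ0 : μ ≠ 0 := by
    rintro rfl
    rw [zero_mul] at hdet2
    exact zero_ne_one hdet2
  have hpowL := pow_apply_of_eigen T μ L hμ
  have hglue : ∀ (j : ℕ) (c : F), μ ^ j = c → T₂ ^ j = c • (1 : Module.End F P) →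
      T ^ j = c • (1 : Module.End F V) := by
    intro j c h1 h2
    apply LinearMap.ext
    intro v
    obtain ⟨l, hl, x, hx, rfl⟩ := exists_decomp L P hc v
    rw [map_add, hpowL j l hl, hpowP j ⟨x, hx⟩, h2, h1]
    simp
  obtain ⟨d, hd⟩ : ∃ d, d = Nat.gcd 3 (q - 1) := ⟨_, rfl⟩
  have hd3 : d ∣ 3 := by rw [hd]; exact Nat.gcd_dvd_left _ _
  have hdq : d ∣ q - 1 := by rw [hd]; exact Nat.gcd_dvd_right _ _
  have hdq2 : d ∣ q ^ 2 - 1 := by rw [hd]; exact gcd_dvd_sq q (by omega)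
  have hdq3 : d ∣ q + 2 := by rw [hd]; exact gcd_dvd_q2 q (by omega)
  rw [← hd]
  rcases plane_gl p hdP T₂ m hm hT₂m with ⟨t₁, t₂, hdetT₂, hpow⟩ | ⟨b, α, hb⟩ | ⟨k, Ψ, hΨ⟩
  · left
    have h3 : μ * (t₁ * t₂) = 1 := by rw [← hdetT₂, hdet2]
    have ht₁0 : t₁ ≠ 0 := by
      rintro rfl
      rw [zero_mul, mul_zero] at h3
      exact zero_ne_one h3
    have ht₂0 : t₂ ≠ 0 := by
      rintro rfl
      rw [mul_zero, mul_zero] at h3
      exact zero_ne_one h3
    exact ⟨1, hglue _ 1 (hQ1 μ hμ0) (hpow _ 1 (hQ1 t₁ ht₁0) (hQ1 t₂ ht₂0))⟩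
  · right; left
    obtain ⟨mm, hmm⟩ : ∃ mm, mm = (q - 1) / d := ⟨_, rfl⟩
    rw [← hmm]
    have hdetα : LinearMap.det T₂ ^ (p ^ b) = α ^ 2 := by
      have h3 := congrArg LinearMap.det hb
      rw [map_pow, LinearMap.det_smul, hdP, map_one, mul_one] at h3
      exact h3
    have hμα : μ ^ (p ^ b) * α ^ 2 = 1 := by
      rw [← hdetα, ← mul_pow, hdet2, one_pow]
    have hα0 : α ≠ 0 := by
      rintro rfl
      rw [zero_pow two_ne_zero, mul_zero] at hμα
      exact zero_ne_one hμα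
    have h3mm : 3 * mm = (3 / d) * (q - 1) := by rw [hmm]; exact mul_div_eq' d (q - 1) 3 hdq hd3
    have hα3 : α ^ (3 * mm) = 1 := by rw [h3mm, mul_comm, pow_mul, hQ1 α hα0, one_pow]
    have hαμ : α ^ mm = μ ^ (mm * p ^ b) := by
      have h4 : μ ^ (mm * p ^ b) * α ^ (2 * mm) = 1 := by
        rw [mul_comm mm, pow_mul, pow_mul, ← mul_pow, hμα, one_pow]
      calc α ^ mm = α ^ mm * (μ ^ (mm * p ^ b) * α ^ (2 * mm)) := by rw [h4, mul_one]
        _ = μ ^ (mm * p ^ b) * α ^ (3 * mm) := by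
          rw [show 3 * mm = mm + 2 * mm by ring, pow_add]
          ring
        _ = μ ^ (mm * p ^ b) := by rw [hα3, mul_one]
    have hu : ((μ⁻¹) ^ mm • T₂ ^ mm) ^ (p ^ b) = 1 := by
      have h6 : T₂ ^ (mm * p ^ b) = α ^ mm • (1 : Module.End F P) := by
        rw [mul_comm, pow_mul, hb, _root_.smul_pow, one_pow]
      rw [_root_.smul_pow, ← pow_mul, ← pow_mul, h6, hαμ, smul_smul, ← mul_pow, inv_mul_cancel₀ hμ0,
        one_pow, one_smul]
    have hu' := SpStruct.unipotent_pow p _ b hu 1 (by rw [hdP, pow_one]; exact hp.two_le)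
    rw [pow_one, _root_.smul_pow, ← pow_mul, ← pow_mul] at hu'
    refine ⟨μ ^ (mm * p), ?_⟩
    rw [mul_comm p mm]
    apply hglue _ _ rfl
    have h5 : μ ^ (mm * p) • ((μ⁻¹) ^ (mm * p) • T₂ ^ (mm * p)) =
        μ ^ (mm * p) • (1 : Module.End F P) := by
      rw [hu']
    rw [smul_smul, ← mul_pow, mul_inv_cancel₀ hμ0, one_pow, one_smul] at h5
    exact h5
  · right; right
    obtain ⟨j, hj⟩ : ∃ j, j = (q ^ 2 - 1) / d := ⟨_, rfl⟩
    rw [← hj]
    have hdimK := FiniteField.finrank_extension F p 2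
    have hT₂eq : T₂ = (Ψ.symm : FiniteField.Extension F p 2 →ₗ[F] P) ∘ₗ
        LinearMap.mul F (FiniteField.Extension F p 2) k ∘ₗ
        (Ψ.symm.symm : P →ₗ[F] FiniteField.Extension F p 2) := by
      apply LinearMap.ext
      intro x
      simp only [LinearMap.coe_comp, LinearEquiv.coe_coe, Function.comp_apply,
        LinearEquiv.symm_symm, LinearMap.mul_apply']
      rw [← hΨ, Ψ.symm_apply_apply]
    have hnorm : LinearMap.det T₂ = Algebra.norm F k := by
      rw [hT₂eq, LinearMap.det_conj, Algebra.norm_apply]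
      rfl
    have hnk : algebraMap F (FiniteField.Extension F p 2) (Algebra.norm F k) = k * k ^ q := by
      rw [FiniteField.algebraMap_norm_eq_prod_pow F (FiniteField.Extension F p 2) k, hdimK,
        Nat.card_eq_fintype_card, ← hq, Finset.prod_range_succ, Finset.prod_range_succ,
        Finset.prod_range_zero, one_mul, pow_zero, pow_one, pow_one]
    have hμk : algebraMap F (FiniteField.Extension F p 2) μ * (k * k ^ q) = 1 := by
      rw [← hnk, ← map_mul, ← hnorm, hdet2, map_one]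
    have hk0 : k ≠ 0 := by
      rintro rfl
      rw [zero_mul, mul_zero] at hμk
      exact zero_ne_one hμk
    have hkq2 : k ^ (q ^ 2 - 1) = 1 := by
      have h3 := pow_card_ext (FiniteField.Extension F p 2) 2 hdimK k
      rw [← hq] at h3
      have h4 : q ^ 2 - 1 + 1 = q ^ 2 := Nat.sub_add_cancel (Nat.one_le_pow 2 q (by omega))
      have h5 : k ^ (q ^ 2 - 1) * k = 1 * k := by rw [← pow_succ, h4, h3, one_mul]
      exact mul_right_cancel₀ hk0 h5
    have hqj : (q + 2) * j = ((q + 2) / d) * (q ^ 2 - 1) := by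
      rw [hj]; exact mul_div_eq' d _ (q + 2) hdq2 hdq3
    have hkj : k ^ j = algebraMap F (FiniteField.Extension F p 2) (μ ^ j) := by
      have h6 : k ^ j * (k * k ^ q) ^ j = 1 := by
        rw [← pow_succ', ← pow_mul, ← pow_add, show j + (q + 1) * j = (q + 2) * j by ring, hqj,
          mul_comm, pow_mul, hkq2, one_pow]
      have h7 : algebraMap F (FiniteField.Extension F p 2) (μ ^ j) * (k * k ^ q) ^ j = 1 := by
        rw [map_pow, ← mul_pow, hμk, one_pow]
      have h8 : (k * k ^ q) ^ j ≠ 0 := pow_ne_zero _ (mul_ne_zero hk0 (pow_ne_zero _ hk0))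
      exact mul_right_cancel₀ h8 (by rw [h6, h7])
    refine ⟨μ ^ j, hglue j _ rfl ?_⟩
    apply (conj_pow_eq_smul_iff Ψ (LinearMap.mul F (FiniteField.Extension F p 2) k) T₂
      (fun x => by rw [LinearMap.mul_apply', hΨ]) j (μ ^ j)).mp
    rw [mul_pow_eq, mul_eq_smul_iff, hkj]

/-- The indecomposable case. -/
theorem indec_case_gl (g : Matrix.SpecialLinearGroup (Fin 3) F) (hg : ¬ GDec (toEnd g)) :
    orderOf (QuotientGroup.mk g : Matrix.ProjectiveSpecialLinearGroup (Fin 3) F) ∣ p ∨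
    (p = 2 ∧ orderOf (QuotientGroup.mk g : Matrix.ProjectiveSpecialLinearGroup (Fin 3) F) ∣ 4) ∨
    orderOf (QuotientGroup.mk g : Matrix.ProjectiveSpecialLinearGroup (Fin 3) F) ∣
      (Fintype.card F ^ 2 + Fintype.card F + 1) / Nat.gcd 3 (Fintype.card F - 1) := by
  classical
  have hp : p.Prime := Fact.out
  obtain ⟨q, hq⟩ : ∃ q, q = Fintype.card F := ⟨_, rfl⟩
  rw [← hq]
  have hq2 : 2 ≤ q := by rw [hq]; exact Fintype.one_lt_card
  have hQ1 : ∀ c : F, c ≠ 0 → c ^ (q - 1) = 1 := fun c hc => by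
    rw [hq]
    exact FiniteField.pow_card_sub_one_eq_one c hc
  have hpq : p ∣ q := by
    rw [hq]
    exact (CharP.cast_eq_zero_iff F p (Fintype.card F)).mp (Nat.cast_card_eq_zero F)
  have hcop : Nat.Coprime p (q - 1) := by
    rw [Nat.Prime.coprime_iff_not_dvd hp]
    intro h
    have h3 : p ∣ 1 := by
      have := Nat.dvd_sub hpq h
      rwa [Nat.sub_sub_self (by omega)] at this
    exact hp.one_lt.ne' (Nat.dvd_one.mp h3)
  haveI : Nonempty (Fin 3) := ⟨0⟩
  obtain ⟨N, hN⟩ : ∃ N, N = orderOf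
      (QuotientGroup.mk g : Matrix.ProjectiveSpecialLinearGroup (Fin 3) F) := ⟨_, rfl⟩
  rw [← hN]
  have hN0 : 0 < N := by rw [hN]; exact orderOf_pos _
  obtain ⟨T, hT⟩ : ∃ T, T = toEnd g := ⟨_, rfl⟩
  rw [← hT] at hg
  have key : ∀ k : ℕ, (∃ c : F, T ^ k = c • (1 : Module.End F (Fin 3 → F))) → N ∣ k := by
    intro k hk
    rw [hN]
    apply orderOf_dvd_of_pow_eq_one
    rw [ProjOrd.mk_pow_eq_one_iff, ← hT]
    exact hk
  obtain ⟨c₀, hc₀⟩ : ∃ c₀ : F, T ^ N = c₀ • (1 : Module.End F (Fin 3 → F)) := by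
    rw [hT, hN]
    exact (ProjOrd.mk_pow_eq_one_iff g _).mp (pow_orderOf_eq_one _)
  have hdetT : LinearMap.det T = 1 := by rw [hT, det_toEnd]
  have hc₀0 : c₀ ≠ 0 := by
    rintro rfl
    have h1 : LinearMap.det (T ^ N) = 1 := by rw [map_pow, hdetT, one_pow]
    rw [hc₀, zero_smul, LinearMap.det_zero' (Pi.basisFun F (Fin 3))] at h1
    exact zero_ne_one h1
  have hTm : T ^ (N * (q - 1)) = 1 := by
    rw [pow_mul, hc₀, _root_.smul_pow, one_pow, hQ1 c₀ hc₀0, one_smul]
  obtain ⟨d, hd⟩ : ∃ d, d = Nat.gcd 3 (q - 1) := ⟨_, rfl⟩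
  have hdA : d ∣ q ^ 2 + q + 1 := by rw [hd]; exact gcd_dvd_A q (by omega)
  have hdq : d ∣ q - 1 := by rw [hd]; exact Nat.gcd_dvd_right _ _
  rw [← hd]
  rcases indec_prime_dim p 3 Nat.prime_three (Module.finrank_fin_fun F) T hg (N * (q - 1))
    (Nat.mul_pos hN0 (by omega)) hTm with ⟨b, α, hb⟩ | ⟨f, hf, hdeg, h0⟩
  · have hα0 : α ≠ 0 := by
      rintro rfl
      have h1 : LinearMap.det (T ^ (p ^ b)) = 1 := by rw [map_pow, hdetT, one_pow]
      rw [hb, zero_smul, LinearMap.det_zero' (Pi.basisFun F (Fin 3))] at h1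
      exact zero_ne_one h1
    have hu : (T ^ (q - 1)) ^ (p ^ b) = 1 := by
      rw [← pow_mul, mul_comm, pow_mul, hb, _root_.smul_pow, one_pow, hQ1 α hα0, one_smul]
    have h4 : N ∣ p ^ b := key _ ⟨α, hb⟩
    have hcopN : Nat.Coprime N (q - 1) := Nat.Coprime.coprime_dvd_left h4 (hcop.pow_left b)
    by_cases hp2 : p = 2
    · right; left
      refine ⟨hp2, ?_⟩
      have hu' := SpStruct.unipotent_pow p _ b hu 2 (by rw [Module.finrank_fin_fun, hp2]; norm_num)
      rw [← pow_mul, hp2] at hu'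
      have h3 : N ∣ (q - 1) * 2 ^ 2 := key _ ⟨1, by rw [hu', one_smul]⟩
      exact hcopN.dvd_of_dvd_mul_left h3
    · left
      have h3p : 3 ≤ p := by
        have := hp.two_le
        omega
      have hu' := SpStruct.unipotent_pow p _ b hu 1
        (by rw [Module.finrank_fin_fun, pow_one]; exact h3p)
      rw [pow_one, ← pow_mul] at hu'
      have h3 : N ∣ (q - 1) * p := key _ ⟨1, by rw [hu', one_smul]⟩
      exact hcopN.dvd_of_dvd_mul_left h3
  · right; right
    obtain ⟨k, hk⟩ := exists_root p 3 f hf (by rw [hdeg])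
    have hdimK := FiniteField.finrank_extension F p 3
    obtain ⟨Ψ, hΨ⟩ := intertwine T (LinearMap.mul F (FiniteField.Extension F p 3) k) f hf h0
      (by rw [UTorus.aeval_mul, hk]; exact map_zero _) (by rw [Module.finrank_fin_fun, hdimK])
    have hS : T = (Ψ.symm : FiniteField.Extension F p 3 →ₗ[F] (Fin 3 → F)) ∘ₗ
        LinearMap.mul F (FiniteField.Extension F p 3) k ∘ₗ
        (Ψ.symm.symm : (Fin 3 → F) →ₗ[F] FiniteField.Extension F p 3) := by
      apply LinearMap.ext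
      intro x
      simp only [LinearMap.coe_comp, LinearEquiv.coe_coe, Function.comp_apply,
        LinearEquiv.symm_symm]
      rw [← hΨ, Ψ.symm_apply_apply]
    have hnorm : Algebra.norm F k = 1 := by
      rw [hS, LinearMap.det_conj] at hdetT
      rw [Algebra.norm_apply]
      exact hdetT
    have hnk : k * k ^ q * k ^ (q ^ 2) = 1 := by
      have h1 := FiniteField.algebraMap_norm_eq_prod_pow F (FiniteField.Extension F p 3) k
      rw [hnorm, map_one, hdimK, Nat.card_eq_fintype_card, ← hq, Finset.prod_range_succ,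
        Finset.prod_range_succ, Finset.prod_range_succ, Finset.prod_range_zero, one_mul, pow_zero,
        pow_one, pow_one] at h1
      exact h1.symm
    have hkA : k ^ (q ^ 2 + q + 1) = 1 := by
      rw [← hnk, pow_succ, pow_add]
      ring
    obtain ⟨c, hc⟩ : ∃ c : F, algebraMap F (FiniteField.Extension F p 3) c =
        k ^ ((q ^ 2 + q + 1) / d) := by
      apply mem_range_of_pow_card
      rw [← hq]
      have h5 : (k ^ ((q ^ 2 + q + 1) / d)) ^ (q - 1) = 1 := by
        obtain ⟨e, he⟩ := hdq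
        rw [he, pow_mul, ← pow_mul k, Nat.div_mul_cancel hdA, hkA, one_pow]
      have h7 : ∀ y : FiniteField.Extension F p 3, y ^ (q - 1) = 1 → y ^ q = y := by
        intro y hy
        have h6 : q - 1 + 1 = q := Nat.sub_add_cancel (by omega)
        calc y ^ q = y ^ (q - 1 + 1) := by rw [h6]
          _ = y := by rw [pow_succ, hy, one_mul]
      exact h7 _ h5
    apply key
    refine ⟨c, ?_⟩
    apply (conj_pow_eq_smul_iff Ψ (LinearMap.mul F _ k) T (fun x => (hΨ x).symm) _ c).mp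
    rw [mul_pow_eq, mul_eq_smul_iff, hc]

/-- **Upper bound for the spectrum of `PSL_3(q)`.** -/
theorem upper (x : Matrix.ProjectiveSpecialLinearGroup (Fin 3) F) :
    orderOf x ∣ (Fintype.card F ^ 2 + Fintype.card F + 1) / Nat.gcd 3 (Fintype.card F - 1) ∨
    orderOf x ∣ (Fintype.card F ^ 2 - 1) / Nat.gcd 3 (Fintype.card F - 1) ∨
    orderOf x ∣ Fintype.card F - 1 ∨
    orderOf x ∣ p * ((Fintype.card F - 1) / Nat.gcd 3 (Fintype.card F - 1)) ∨
    (p = 2 ∧ orderOf x ∣ 4) := by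
  classical
  obtain ⟨g, rfl⟩ := QuotientGroup.mk_surjective x
  have key : ∀ k : ℕ, (∃ c : F, toEnd g ^ k = c • (1 : Module.End F (Fin 3 → F))) →
      orderOf (QuotientGroup.mk g : Matrix.ProjectiveSpecialLinearGroup (Fin 3) F) ∣ k := by
    intro k hk
    apply orderOf_dvd_of_pow_eq_one
    rw [ProjOrd.mk_pow_eq_one_iff]
    exact hk
  by_cases hdec : GDec (toEnd g)
  · have hm : toEnd g ^ orderOf g = 1 := by
      rw [← toEnd_pow, pow_orderOf_eq_one]
      exact toEnd_one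
    rcases dec_case_gl p (Module.finrank_fin_fun F) (toEnd g) (det_toEnd g) (orderOf g)
      (orderOf_pos g) hm hdec with h | h | h
    · exact Or.inr (Or.inr (Or.inl (key _ h)))
    · exact Or.inr (Or.inr (Or.inr (Or.inl (key _ h))))
    · exact Or.inr (Or.inl (key _ h))
  · rcases indec_case_gl p g hdec with h | h | h
    · exact Or.inr (Or.inr (Or.inr (Or.inl (h.trans (dvd_mul_right _ _)))))
    · exact Or.inr (Or.inr (Or.inr (Or.inr h)))
    · exact Or.inl h

end Cfsg.Agent.Helper42.L3Upper
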