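import Mathlib
import Cfsg.Agent.Helper42.L3Upper

set_option autoImplicit false

/-!
# Lower bound for the spectrum of `PSL_3(q)` (helper42)

Elements of `PSL_3(q)` whose orders are multiples of `(q^2 + q + 1) / d`, `(q^2 - 1) / d`, `q - 1`,
`p (q - 1) / d` and, for `p = 2`, of `4`; here `d = gcd(3, q - 1)`.
-/

namespace Cfsg.Agent.Helper42.L3Lower

open Polynomial UGroup UStruct UModels ProjOrd U3Lemmas L3Lemmas

universe u

variable {F : Type u} [Field F] [Fintype F] (p : ℕ) [Fact p.Prime] [CharP F p]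

omit [Fact p.Prime] [CharP F p] in
theorem exists_gen_elt :
    ∃ l : F, l ≠ 0 ∧ ∀ i : ℕ, l ^ i = 1 → Fintype.card F - 1 ∣ i := by
  obtain ⟨ζ, hζ⟩ := exists_gen_F (F := F)
  refine ⟨(ζ : F), ζ.ne_zero, fun i hi => ?_⟩
  rw [← hζ]
  apply orderOf_dvd_of_pow_eq_one
  apply Units.ext
  rw [Units.val_pow_eq_pow_val, hi]
  rfl

theorem exists_gen_ext (m : ℕ) [NeZero m] :
    ∃ κ : FiniteField.Extension F p m, κ ≠ 0 ∧ κ ^ (Fintype.card F ^ m - 1) = 1 ∧
      ∀ i : ℕ, κ ^ i = 1 → Fintype.card F ^ m - 1 ∣ i := by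
  obtain ⟨θ, hθ⟩ := SpModels.exists_generator F p m
  refine ⟨(θ : FiniteField.Extension F p m), θ.ne_zero, ?_, fun i hi => ?_⟩
  · rw [← hθ, ← Units.val_pow_eq_pow_val, pow_orderOf_eq_one]
    rfl
  · rw [← hθ]
    apply orderOf_dvd_of_pow_eq_one
    apply Units.ext
    rw [Units.val_pow_eq_pow_val, hi]
    rfl

omit [Fact p.Prime] [CharP F p] in
/-- An element whose order is a multiple of `q - 1`. -/
theorem exists_ord_c :
    ∃ x : Matrix.ProjectiveSpecialLinearGroup (Fin 3) F, ∀ k : ℕ, x ^ k = 1 →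
      Fintype.card F - 1 ∣ k := by
  classical
  obtain ⟨l, hl0, hlord⟩ := exists_gen_elt (F := F)
  obtain ⟨T, hTdef⟩ : ∃ T : Module.End F ((F × F) × F),
      T = ((l • (1 : Module.End F F)).prodMap (l⁻¹ • (1 : Module.End F F))).prodMap
        (1 : Module.End F F) := ⟨_, rfl⟩
  have hTdet : LinearMap.det T = 1 := by
    rw [hTdef, LinearMap.det_prodMap, LinearMap.det_prodMap, LinearMap.det_smul,
      LinearMap.det_smul, Module.finrank_self, map_one, pow_one, pow_one, mul_one, mul_one, mul_one,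
      mul_inv_cancel₀ hl0]
  have hTpow : ∀ i : ℕ, T ^ i = ((l ^ i • (1 : Module.End F F)).prodMap
      ((l⁻¹) ^ i • (1 : Module.End F F))).prodMap (1 : Module.End F F) := by
    intro i
    rw [hTdef, SpModels.prodMap_pow', SpModels.prodMap_pow', _root_.smul_pow, _root_.smul_pow,
      one_pow]
  obtain ⟨g, Φ, hΦ⟩ := exists_sl_of_model 3 ((F × F) × F)
    (by rw [Module.finrank_prod, Module.finrank_prod, Module.finrank_self]) T hTdet
  refine ⟨QuotientGroup.mk g, fun i hi => ?_⟩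
  rw [ProjOrd.mk_pow_eq_one_iff] at hi
  obtain ⟨ε, hε⟩ := hi
  have h3 := (conj_pow_eq_smul_iff Φ (toEnd g) T hΦ i ε).mp hε
  rw [hTpow] at h3
  have h4 : (1 : F) = ε := by
    have := congrArg (fun f : Module.End F ((F × F) × F) => (f ((0, 0), 1)).2) h3
    simpa using this
  have h5 : l ^ i = ε := by
    have := congrArg (fun f : Module.End F ((F × F) × F) => (f ((1, 0), 0)).1.1) h3
    simpa using this
  exact hlord i (by rw [h5, ← h4])

/-- An element whose order is a multiple of `p` and of `(q - 1) / gcd(3, q - 1)`. -/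
theorem exists_ord_d :
    ∃ x : Matrix.ProjectiveSpecialLinearGroup (Fin 3) F, ∀ k : ℕ, x ^ k = 1 →
      p ∣ k ∧ Fintype.card F - 1 ∣ 3 * k := by
  classical
  have hp : p.Prime := Fact.out
  obtain ⟨l, hl0, hlord⟩ := exists_gen_elt (F := F)
  haveI := SpStruct.charP_end' (F := F) (V := Fin (1 + 1) → F) p
  obtain ⟨U, hUdef⟩ : ∃ U : Module.End F (Fin (1 + 1) → F), U = 1 + SpModels.shiftUp F 1 :=
    ⟨_, rfl⟩
  have hUp : U ^ (p ^ 1) = 1 := by
    rw [hUdef, add_pow_char_pow_of_commute p 1 (Commute.one_left _), one_pow,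
      SpModels.shiftUp_pow_eq_zero F 1 (p ^ 1) (by rw [pow_one]; exact hp.two_le), add_zero]
  have hU1ne : U ^ (p ^ 0) ≠ 1 := by
    rw [pow_zero, pow_one, hUdef]
    intro h
    have h2 : SpModels.shiftUp F 1 = 0 := by
      have := congrArg (fun x => x - 1) h
      simpa using this
    exact SpModels.shiftUp_pow_ne_zero F 1 1 le_rfl (by rw [pow_one]; exact h2)
  obtain ⟨hU1, hU2⟩ := unipotent_facts_u p U 1 hUp
  have hdetU : LinearMap.det U = 1 := by
    apply eq_one_of_pow_char_pow p _ 1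
    rw [← map_pow, hUp, map_one]
  obtain ⟨T, hTdef⟩ : ∃ T : Module.End F ((Fin (1 + 1) → F) × F),
      T = (l • U).prodMap ((l⁻¹) ^ 2 • (1 : Module.End F F)) := ⟨_, rfl⟩
  have hTdet : LinearMap.det T = 1 := by
    rw [hTdef, LinearMap.det_prodMap, LinearMap.det_smul, LinearMap.det_smul, hdetU,
      Module.finrank_fin_fun, Module.finrank_self, map_one, mul_one, mul_one, pow_one, ← mul_pow,
      mul_inv_cancel₀ hl0, one_pow]
  have hTpow : ∀ i : ℕ, T ^ i = (l ^ i • U ^ i).prodMap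
      (((l⁻¹) ^ 2) ^ i • (1 : Module.End F F)) := by
    intro i
    rw [hTdef, SpModels.prodMap_pow', _root_.smul_pow, _root_.smul_pow, one_pow]
  obtain ⟨g, Φ, hΦ⟩ := exists_sl_of_model 3 ((Fin (1 + 1) → F) × F)
    (by rw [Module.finrank_prod, Module.finrank_fin_fun, Module.finrank_self]) T hTdet
  refine ⟨QuotientGroup.mk g, fun i hi => ?_⟩
  rw [ProjOrd.mk_pow_eq_one_iff] at hi
  obtain ⟨ε, hε⟩ := hi
  have h3 := (conj_pow_eq_smul_iff Φ (toEnd g) T hΦ i ε).mp hε
  rw [hTpow] at h3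
  have h4 : ((l⁻¹) ^ 2) ^ i = ε := by
    have := congrArg (fun f : Module.End F ((Fin (1 + 1) → F) × F) => (f (0, 1)).2) h3
    simpa using this
  have h5 : ∀ v : Fin (1 + 1) → F, l ^ i • (U ^ i) v = ε • v := by
    intro v
    have := congrArg (fun f : Module.End F ((Fin (1 + 1) → F) × F) => (f (v, 0)).1) h3
    simpa using this
  have hli : l ^ i ≠ 0 := pow_ne_zero _ hl0
  have h6 : U ^ i = ((l ^ i)⁻¹ * ε) • (1 : Module.End F (Fin (1 + 1) → F)) := by
    apply LinearMap.ext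
    intro v
    rw [LinearMap.smul_apply, Module.End.one_apply, mul_smul, ← h5 v, smul_smul,
      inv_mul_cancel₀ hli, one_smul]
  have hUi : U ^ i = 1 := hU1 i _ h6
  have h7 : l ^ i = ε := by
    have h8 := h5 (Pi.single 0 1)
    rw [hUi, Module.End.one_apply] at h8
    have h9 := congrFun h8 0
    simpa using h9
  constructor
  · have h8 := hU2 0 hU1ne i hUi
    simpa using h8
  · apply hlord
    have h10 : l ^ (3 * i) = l ^ i * (l ^ 2) ^ i := by
      rw [← pow_mul, ← pow_add]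
      congr 1
      ring
    rw [h10, h7, ← h4, ← mul_pow, ← mul_pow, inv_mul_cancel₀ hl0, one_pow, one_pow]

/-- For `p = 2`, an element whose order is a multiple of `4`. -/
theorem exists_ord_e (hp2 : p = 2) :
    ∃ x : Matrix.ProjectiveSpecialLinearGroup (Fin 3) F, ∀ k : ℕ, x ^ k = 1 → 4 ∣ k := by
  classical
  have hp : p.Prime := Fact.out
  haveI := SpStruct.charP_end' (F := F) (V := Fin (2 + 1) → F) p
  obtain ⟨U, hUdef⟩ : ∃ U : Module.End F (Fin (2 + 1) → F), U = 1 + SpModels.shiftUp F 2 :=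
    ⟨_, rfl⟩
  have hUpow : ∀ j : ℕ, U ^ (p ^ j) = 1 + (SpModels.shiftUp F 2) ^ (p ^ j) := by
    intro j
    rw [hUdef, add_pow_char_pow_of_commute p j (Commute.one_left _), one_pow]
  have hU4 : U ^ (p ^ 2) = 1 := by
    rw [hUpow, SpModels.shiftUp_pow_eq_zero F 2 (p ^ 2) (by rw [hp2]; norm_num), add_zero]
  have hU2ne : U ^ (p ^ 1) ≠ 1 := by
    rw [hUpow]
    intro h
    have h2 : (SpModels.shiftUp F 2) ^ (p ^ 1) = 0 := by
      have := congrArg (fun x => x - 1) h
      simpa using this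
    exact SpModels.shiftUp_pow_ne_zero F 2 (p ^ 1) (by rw [hp2]; norm_num) h2
  obtain ⟨hU1, hU2⟩ := unipotent_facts_u p U 2 hU4
  have hdetU : LinearMap.det U = 1 := by
    apply eq_one_of_pow_char_pow p _ 2
    rw [← map_pow, hU4, map_one]
  obtain ⟨g, Φ, hΦ⟩ := exists_sl_of_model 3 (Fin (2 + 1) → F) (Module.finrank_fin_fun F) U hdetU
  refine ⟨QuotientGroup.mk g, fun i hi => ?_⟩
  rw [ProjOrd.mk_pow_eq_one_iff] at hi
  obtain ⟨ε, hε⟩ := hi
  have h3 := (conj_pow_eq_smul_iff Φ (toEnd g) U hΦ i ε).mp hε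
  have hUi : U ^ i = 1 := hU1 i ε h3
  have h8 := hU2 1 hU2ne i hUi
  rw [hp2] at h8
  exact h8

/-- An element whose order is a multiple of `(q^2 + q + 1) / gcd(3, q - 1)`. -/
theorem exists_ord_a (_hp : p.Prime) :
    ∃ x : Matrix.ProjectiveSpecialLinearGroup (Fin 3) F, ∀ k : ℕ, x ^ k = 1 →
      Fintype.card F ^ 2 + Fintype.card F + 1 ∣ Nat.gcd 3 (Fintype.card F - 1) * k := by
  classical
  obtain ⟨θ, hθ0, hθ1, hθord⟩ := exists_gen_ext (F := F) p 3
  obtain ⟨q, hq⟩ : ∃ q, q = Fintype.card F := ⟨_, rfl⟩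
  rw [← hq] at hθ1 hθord ⊢
  have hq2 : 2 ≤ q := by rw [hq]; exact Fintype.one_lt_card
  have hdimK := FiniteField.finrank_extension F p 3
  obtain ⟨x, hx⟩ : ∃ x : FiniteField.Extension F p 3, x = θ ^ (q - 1) := ⟨_, rfl⟩
  have h3 := q3_sub_one q (by omega)
  have hxA : x ^ (q ^ 2 + q + 1) = 1 := by
    rw [hx, ← pow_mul, ← h3, hθ1]
  have hx0 : x ≠ 0 := by rw [hx]; exact pow_ne_zero _ hθ0
  have hxord : ∀ i : ℕ, x ^ i = 1 → q ^ 2 + q + 1 ∣ i := by
    intro i hi
    rw [hx, ← pow_mul] at hi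
    have h2 := hθord _ hi
    rw [h3] at h2
    exact Nat.dvd_of_mul_dvd_mul_left (by omega) h2
  have hnorm : Algebra.norm F x = 1 := by
    apply (algebraMap F (FiniteField.Extension F p 3)).injective
    rw [FiniteField.algebraMap_norm_eq_prod_pow F _ x, hdimK, Nat.card_eq_fintype_card, ← hq,
      Finset.prod_range_succ, Finset.prod_range_succ, Finset.prod_range_succ,
      Finset.prod_range_zero, one_mul, pow_zero, pow_one, pow_one, map_one, ← pow_succ', ← pow_add,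
      show q + 1 + q ^ 2 = q ^ 2 + q + 1 by ring, hxA]
  obtain ⟨g, Φ, hΦ⟩ := exists_sl_of_model 3 (FiniteField.Extension F p 3) hdimK
    (LinearMap.mul F _ x) (by have h := hnorm; rw [Algebra.norm_apply] at h; exact h)
  refine ⟨QuotientGroup.mk g, fun i hi => ?_⟩
  rw [ProjOrd.mk_pow_eq_one_iff] at hi
  obtain ⟨ε, hε⟩ := hi
  have h4 := (conj_pow_eq_smul_iff Φ (toEnd g) (LinearMap.mul F _ x) hΦ i ε).mp hε
  rw [mul_pow_eq, mul_eq_smul_iff] at h4
  have hε0 : ε ≠ 0 := by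
    rintro rfl
    rw [map_zero] at h4
    exact (pow_ne_zero i hx0) h4
  obtain ⟨y, hy⟩ : ∃ y, y = x ^ i := ⟨_, rfl⟩
  have hyq : y ^ (q - 1) = 1 := by
    rw [hy, h4, ← map_pow, hq, FiniteField.pow_card_sub_one_eq_one ε hε0, map_one]
  have hyA : y ^ (q ^ 2 + q + 1) = 1 := by rw [hy, ← pow_mul, mul_comm, pow_mul, hxA, one_pow]
  have hy3 : y ^ 3 = 1 := by
    have h5 := hyA
    rw [A_eq q (by omega), pow_add, pow_mul, hyq, one_pow, one_mul] at h5
    exact h5
  have hyd : y ^ (Nat.gcd 3 (q - 1)) = 1 := pow_gcd_eq_one.mpr ⟨hy3, hyq⟩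
  apply hxord
  rw [mul_comm, pow_mul, ← hy, hyd]

/-- An element whose order is a multiple of `(q^2 - 1) / gcd(3, q - 1)`. -/
theorem exists_ord_b (_hp : p.Prime) :
    ∃ x : Matrix.ProjectiveSpecialLinearGroup (Fin 3) F, ∀ k : ℕ, x ^ k = 1 →
      Fintype.card F ^ 2 - 1 ∣ 3 * k ∧ Fintype.card F ^ 2 - 1 ∣ (Fintype.card F - 1) * k := by
  classical
  obtain ⟨κ, hκ0, hκ1, hκord⟩ := exists_gen_ext (F := F) p 2
  obtain ⟨q, hq⟩ : ∃ q, q = Fintype.card F := ⟨_, rfl⟩
  rw [← hq] at hκ1 hκord ⊢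
  have hq2 : 2 ≤ q := by rw [hq]; exact Fintype.one_lt_card
  have hdimK := FiniteField.finrank_extension F p 2
  have hnκ0 : Algebra.norm F κ ≠ 0 := Algebra.norm_ne_zero_iff.mpr hκ0
  obtain ⟨ν, hν⟩ : ∃ ν : F, ν = (Algebra.norm F κ)⁻¹ := ⟨_, rfl⟩
  have hnk : algebraMap F (FiniteField.Extension F p 2) (Algebra.norm F κ) = κ * κ ^ q := by
    rw [FiniteField.algebraMap_norm_eq_prod_pow F (FiniteField.Extension F p 2) κ, hdimK,
      Nat.card_eq_fintype_card, ← hq, Finset.prod_range_succ, Finset.prod_range_succ,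
      Finset.prod_range_zero, one_mul, pow_zero, pow_one, pow_one]
  have hνκ : algebraMap F (FiniteField.Extension F p 2) ν * (κ * κ ^ q) = 1 := by
    rw [hν, map_inv₀, hnk, inv_mul_cancel₀ (mul_ne_zero hκ0 (pow_ne_zero _ hκ0))]
  obtain ⟨T, hTdef⟩ : ∃ T : Module.End F (FiniteField.Extension F p 2 × F),
      T = (LinearMap.mul F (FiniteField.Extension F p 2) κ).prodMap
        (ν • (1 : Module.End F F)) := ⟨_, rfl⟩
  have hTdet : LinearMap.det T = 1 := by
    have hdk : LinearMap.det (LinearMap.mul F (FiniteField.Extension F p 2) κ) =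
        Algebra.norm F κ := by
      rw [Algebra.norm_apply]; rfl
    rw [hTdef, LinearMap.det_prodMap, LinearMap.det_smul, Module.finrank_self, map_one, pow_one,
      mul_one, hdk, hν, mul_inv_cancel₀ hnκ0]
  have hTpow : ∀ i : ℕ, T ^ i = (LinearMap.mul F (FiniteField.Extension F p 2) (κ ^ i)).prodMap
      (ν ^ i • (1 : Module.End F F)) := by
    intro i
    rw [hTdef, SpModels.prodMap_pow', mul_pow_eq, _root_.smul_pow, one_pow]
  obtain ⟨g, Φ, hΦ⟩ := exists_sl_of_model 3 (FiniteField.Extension F p 2 × F)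
    (by rw [Module.finrank_prod, hdimK, Module.finrank_self]) T hTdet
  refine ⟨QuotientGroup.mk g, fun i hi => ?_⟩
  rw [ProjOrd.mk_pow_eq_one_iff] at hi
  obtain ⟨ε, hε⟩ := hi
  have h3 := (conj_pow_eq_smul_iff Φ (toEnd g) T hΦ i ε).mp hε
  rw [hTpow] at h3
  have h4 : ν ^ i = ε := by
    have := congrArg (fun f : Module.End F (FiniteField.Extension F p 2 × F) => (f (0, 1)).2) h3
    simpa using this
  have h5 : κ ^ i = algebraMap F (FiniteField.Extension F p 2) ε := by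
    have := congrArg (fun f : Module.End F (FiniteField.Extension F p 2 × F) => (f (1, 0)).1) h3
    simpa [Algebra.algebraMap_eq_smul_one] using this
  have hε0 : ε ≠ 0 := by
    rintro rfl
    rw [map_zero] at h5
    exact pow_ne_zero i hκ0 h5
  have hB : κ ^ ((q - 1) * i) = 1 := by
    rw [mul_comm, pow_mul, h5, ← map_pow, hq, FiniteField.pow_card_sub_one_eq_one ε hε0, map_one]
  have hA : κ ^ ((q + 2) * i) = 1 := by
    have h6 : κ ^ ((q + 2) * i) = κ ^ i * (κ * κ ^ q) ^ i := by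
      rw [← pow_succ', ← pow_mul, ← pow_add]
      congr 1
      ring
    rw [h6, h5, ← h4, map_pow, ← mul_pow, hνκ, one_pow]
  have hC : κ ^ (3 * i) = 1 := by
    have h7 : κ ^ ((q + 2) * i) = κ ^ ((q - 1) * i) * κ ^ (3 * i) := by
      rw [← pow_add]
      congr 1
      have : q + 2 = q - 1 + 3 := by omega
      rw [this]
      ring
    rw [hA, hB, one_mul] at h7
    exact h7.symm
  exact ⟨hκord _ hC, hκord _ hB⟩

end Cfsg.Agent.Helper42.L3Lower
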