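import Mathlib
import Cfsg.Agent.Helper48.M11UGeo
import Cfsg.Agent.Helper48.M11UTri

/-!
# CALL S0420, piece SCT: there are exactly 11 stars
-/

set_option autoImplicit false
open scoped Pointwise

namespace Cfsg.Agent.Helper42

open Cfsg.Agent.Helper48.M11U

universe u
variable {G : Type u} [Group G] [Finite G]

theorem m11u_star_count (h : M11Gr G)
    (hcard : ∀ R S : Sylow 3 G, Adj R S → (star R S).ncard = 10)
    (htwo : ∀ (z : G) (R S T : Sylow 3 G), orderOf z = 2 → Inv z R → Inv z S → Inv z T →
      R ≠ S → R ≠ T → S ≠ T →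
      star R S ≠ star R T ∧ ∀ P P' : Sylow 3 G, Adj P P' → R ∈ star P P' →
        star P P' = star R S ∨ star P P' = star R T) :
    Nat.card {C : Set (Sylow 3 G) // ∃ R S : Sylow 3 G, Adj R S ∧ C = star R S} = 11 := by
  classical
  have : Fintype (Sylow 3 G) := Fintype.ofFinite _
  have : Fintype {C : Set (Sylow 3 G) // ∃ R S : Sylow 3 G, Adj R S ∧ C = star R S} :=
    Fintype.ofFinite _
  have hdc := Finset.sum_card_bipartiteAbove_eq_sum_card_bipartiteBelow
    (fun (R : Sylow 3 G)
      (C : {C : Set (Sylow 3 G) // ∃ R S : Sylow 3 G, Adj R S ∧ C = star R S}) => R ∈ C.1)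
    (s := Finset.univ) (t := Finset.univ)
  have hL : ∀ R : Sylow 3 G, ((Finset.univ : Finset {C : Set (Sylow 3 G) //
      ∃ R S : Sylow 3 G, Adj R S ∧ C = star R S}).bipartiteAbove (fun R C => R ∈ C.1) R).card
      = 2 := by
    intro R
    obtain ⟨z, S, T, hz, hR, hS, hT, hRS, hRT, hST, -⟩ := tri_exists' h.geo.l1 R
    obtain ⟨hne, hall⟩ := htwo z R S T hz hR hS hT hRS hRT hST
    have hAS : Adj R S := adj_of_tri hz hR hS hRS
    have hAT : Adj R T := adj_of_tri hz hR hT hRT
    have he : (Finset.univ : Finset {C : Set (Sylow 3 G) //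
        ∃ R S : Sylow 3 G, Adj R S ∧ C = star R S}).bipartiteAbove (fun R C => R ∈ C.1) R
        = {⟨star R S, R, S, hAS, rfl⟩, ⟨star R T, R, T, hAT, rfl⟩} := by
      ext C
      simp only [Finset.bipartiteAbove, Finset.mem_filter, Finset.mem_univ, true_and,
        Finset.mem_insert, Finset.mem_singleton]
      constructor
      · intro hC
        obtain ⟨C, P, P', hPP, rfl⟩ := C
        rcases hall P P' hPP hC with e | e
        · left; exact Subtype.ext e
        · right; exact Subtype.ext e
      · rintro (e | e)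
        · rw [e]; exact self_mem_star R S
        · rw [e]; exact self_mem_star R T
    rw [he, Finset.card_pair]
    intro e
    exact hne (Subtype.mk.inj e)
  have hR : ∀ C : {C : Set (Sylow 3 G) // ∃ R S : Sylow 3 G, Adj R S ∧ C = star R S},
      ((Finset.univ : Finset (Sylow 3 G)).bipartiteBelow (fun R C => R ∈ C.1) C).card = 10 := by
    intro C
    obtain ⟨C, P, P', hPP, rfl⟩ := C
    rw [← hcard P P' hPP, ← Set.ncard_coe_finset]
    congr 1
    ext Q
    simp [Finset.bipartiteBelow]
  rw [Finset.sum_congr rfl (fun R _ => hL R), Finset.sum_congr rfl (fun C _ => hR C)] at hdc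
  simp only [Finset.sum_const, Finset.card_univ, smul_eq_mul] at hdc
  have h55 : Fintype.card (Sylow 3 G) = 55 := by
    rw [← Nat.card_eq_fintype_card]
    exact h.geo.l1.raw.num3
  rw [h55] at hdc
  rw [Nat.card_eq_fintype_card]
  omega

end Cfsg.Agent.Helper42
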