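import Mathlib
import Cfsg.Agent.Helper48.M11UGeo
import Cfsg.Agent.Helper48.M11UTri

/-!
# CALL S0420, piece TAD: `G` is transitive on ordered adjacent pairs of Sylow 3-subgroups
-/

set_option autoImplicit false
open scoped Pointwise

namespace Cfsg.Agent.Helper42

open Cfsg.Agent.Helper48.M11U

universe u
variable {G : Type u} [Group G] [Finite G]

theorem m11u_transadj (h : M11Geo G) (R S R' S' : Sylow 3 G) (h1 : Adj R S) (h2 : Adj R' S') :
    ∃ g : G, g • R = R' ∧ g • S = S' := by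
  obtain ⟨g₁, hg₁⟩ := MulAction.exists_smul_eq G R R'
  have hadj : Adj R' (g₁ • S) := by
    have := adj_smul h1 g₁
    rwa [hg₁] at this
  obtain ⟨hne1, z₁, hz₁, hz₁R, hz₁S⟩ := hadj
  obtain ⟨hne2, z₂, hz₂, hz₂R, hz₂S⟩ := h2
  obtain ⟨r, hr, hrz⟩ := h.l1.orbI R' z₁ z₂ hz₁ hz₂ hz₁R hz₂R
  have hrR : r • R' = R' := smul_self_of_mem hr
  have hinv2 : Inv z₂ (r • g₁ • S) := by
    rw [hrz]
    exact inv_conj hz₁S r
  have hne3 : R' ≠ r • g₁ • S := by
    intro e
    apply hne1
    apply smul_left_cancel r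
    rw [hrR]
    exact e
  by_cases hcase : r • g₁ • S = S'
  · refine ⟨r * g₁, ?_, ?_⟩
    · rw [mul_smul, hg₁, hrR]
    · rw [mul_smul, hcase]
  · obtain ⟨T, hT, hRT, hST, hall⟩ := tri_third (h.l1.tri z₂ hz₂) hz₂R hinv2 hne3
    have hS'T : S' = T := by
      rcases hall S' hz₂S with e | e | e
      · exact absurd e.symm hne2
      · exact absurd e.symm hcase
      · exact e
    obtain ⟨g, hgz, hgR, hgS⟩ := h.swap z₂ R' (r • g₁ • S) hz₂ hz₂R hinv2 hne3
    have hinv3 : Inv z₂ (g • r • g₁ • S) := by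
      have := inv_conj hinv2 g
      have e : g * z₂ * g⁻¹ = z₂ := by rw [hgz]; group
      rwa [e] at this
    have hfin : g • r • g₁ • S = S' := by
      rcases hall _ hinv3 with e | e | e
      · exfalso
        apply hne3
        apply smul_left_cancel g
        rw [hgR]
        exact e.symm
      · exact absurd e hgS
      · rw [hS'T]; exact e
    refine ⟨g * r * g₁, ?_, ?_⟩
    · rw [mul_smul, mul_smul, hg₁, hrR, hgR]
    · rw [mul_smul, mul_smul, hfin]

end Cfsg.Agent.Helper42
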