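import Mathlib
import Cfsg.Agent.Helper81.SectionChar
import Cfsg.Agent.Helper80.CharIrr

/-!
# Piece INT3 of CALL S0978 (helper42)

The value of an irreducible character of degree six at an element of order three centralizing an
element of order five on whose nontrivial cosets the character is constant `1`.
-/

set_option autoImplicit false
set_option linter.style.haveILetI false
open Cfsg
open scoped ComplexConjugate

universe u

namespace Cfsg.Agent.Helper42

/-- the homomorphism `ZMod n → G`, `a ↦ y ^ a`, for `y ^ n = 1`. -/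
def o5040ZPow {G : Type*} [Group G] (n : ℕ) [NeZero n] (y : G) (hy : y ^ n = 1) :
    Multiplicative (ZMod n) →* G where
  toFun a := y ^ (Multiplicative.toAdd a).val
  map_one' := by simp
  map_mul' a b := by
    show y ^ (ZMod.val (Multiplicative.toAdd a + Multiplicative.toAdd b)) = _
    rw [ZMod.val_add, ← pow_eq_pow_mod _ hy, pow_add]

theorem o5040ZPow_apply {G : Type*} [Group G] (n : ℕ) [NeZero n] (y : G) (hy : y ^ n = 1)
    (a : Multiplicative (ZMod n)) : o5040ZPow n y hy a = y ^ (Multiplicative.toAdd a).val := rfl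

theorem o5040_sum_zmod3 (F : Multiplicative (ZMod 3) → ℂ) :
    ∑ b, F b = F (Multiplicative.ofAdd 0) + F (Multiplicative.ofAdd 1) +
      F (Multiplicative.ofAdd 2) := by
  rw [← Fintype.sum_equiv Multiplicative.ofAdd (fun b => F (Multiplicative.ofAdd b)) F
    (fun _ => rfl)]
  exact Fin.sum_univ_three (fun b : Fin 3 => F (Multiplicative.ofAdd (b : ZMod 3)))

theorem o5040_int3_key {G : Type u} [Group G] [Finite G] (χ : Cfsg.IrrCharacter G) (y c : G)
    (hyc : y * c = c * y) (hy5 : y ^ 5 = 1) (hc3 : c ^ 3 = 1)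
    (h : ∀ a b : ℕ, ¬ 5 ∣ a → (χ : G → ℂ) (y ^ a * c ^ b) = 1) (v : ℂˣ) (hv : v ^ 3 = 1) :
    ∃ n : ℕ, ((χ : G → ℂ) 1 + 4) + ((χ : G → ℂ) c + 4) * conj (v : ℂ)
      + ((χ : G → ℂ) (c ^ 2) + 4) * conj ((v : ℂ) ^ 2) = 15 * (n : ℂ) := by
  have hcomm : ∀ (m : Multiplicative (ZMod 5)) (n : Multiplicative (ZMod 3)),
      Commute (o5040ZPow 5 y hy5 m) (o5040ZPow 3 c hc3 n) := by
    intro m n
    simp only [o5040ZPow_apply]
    exact (Commute.pow_pow (show Commute y c from hyc) _ _)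
  obtain ⟨n, hn⟩ := Helper81.exists_linMult χ
    (MonoidHom.noncommCoprod (o5040ZPow 5 y hy5) (o5040ZPow 3 c hc3) hcomm)
    ((o5040ZPow 3 v hv).comp (MonoidHom.snd (Multiplicative (ZMod 5)) (Multiplicative (ZMod 3))))
  refine ⟨n, ?_⟩
  have hcard : Fintype.card (Multiplicative (ZMod 5) × Multiplicative (ZMod 3)) = 15 := by
    simp [Fintype.card_prod]
  rw [hcard] at hn
  rw [Fintype.sum_prod_type_right] at hn
  have hinner : ∀ b : Multiplicative (ZMod 3),
      ∑ a : Multiplicative (ZMod 5),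
        (χ : G → ℂ) ((MonoidHom.noncommCoprod (o5040ZPow 5 y hy5) (o5040ZPow 3 c hc3) hcomm)
          (a, b)) *
        conj ((((o5040ZPow 3 v hv).comp
          (MonoidHom.snd (Multiplicative (ZMod 5)) (Multiplicative (ZMod 3)))) (a, b) : ℂˣ) : ℂ)
      = ((χ : G → ℂ) (c ^ (Multiplicative.toAdd b).val) + 4) *
          conj ((v : ℂ) ^ (Multiplicative.toAdd b).val) := by
    intro b
    simp only [MonoidHom.noncommCoprod_apply, MonoidHom.comp_apply, MonoidHom.coe_snd,
      o5040ZPow_apply, Units.val_pow_eq_pow_val]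
    rw [← Finset.sum_mul]
    congr 1
    rw [← Finset.add_sum_erase Finset.univ _ (Finset.mem_univ (1 : Multiplicative (ZMod 5)))]
    have h0 : (Multiplicative.toAdd (1 : Multiplicative (ZMod 5))).val = 0 := by simp
    rw [h0, pow_zero, one_mul]
    congr 1
    rw [Finset.sum_congr rfl (g := fun _ => (1 : ℂ))]
    · simp [Finset.card_erase_of_mem]
    · intro a ha
      apply h
      have ha1 : a ≠ 1 := Finset.ne_of_mem_erase ha
      have hlt : (Multiplicative.toAdd a).val < 5 := ZMod.val_lt _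
      have hne : (Multiplicative.toAdd a).val ≠ 0 := by
        intro h0
        apply ha1
        have : Multiplicative.toAdd a = 0 := (ZMod.val_eq_zero _).mp h0
        exact Multiplicative.toAdd.injective this
      intro hdvd
      have := Nat.le_of_dvd (Nat.pos_of_ne_zero hne) hdvd
      omega
  rw [Finset.sum_congr rfl (fun b _ => hinner b)] at hn
  rw [o5040_sum_zmod3] at hn
  have e0 : (Multiplicative.toAdd (Multiplicative.ofAdd (0 : ZMod 3))).val = 0 := rfl
  have e1 : (Multiplicative.toAdd (Multiplicative.ofAdd (1 : ZMod 3))).val = 1 := rfl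
  have e2 : (Multiplicative.toAdd (Multiplicative.ofAdd (2 : ZMod 3))).val = 2 := rfl
  rw [e0, e1, e2] at hn
  simp only [pow_zero, pow_one, map_one, mul_one] at hn
  rw [hn]
  push_cast
  ring

/-- PIECE INT3: the value at an element of order three centralizing an element of order five. -/
theorem o5040_int3 {G : Type u} [Group G] [Finite G] (χ : Cfsg.IrrCharacter G) (y c : G)
    (hyc : y * c = c * y) (hy : orderOf y = 5) (hc : orderOf c = 3)
    (h1 : (χ : G → ℂ) 1 = 6)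
    (h : ∀ a b : ℕ, ¬ 5 ∣ a → (χ : G → ℂ) (y ^ a * c ^ b) = 1) :
    (χ : G → ℂ) c = 6 ∨ ∃ w : ℂ, w ^ 2 + w + 1 = 0 ∧ (χ : G → ℂ) c = 1 + 5 * w := by
  have hy5 : y ^ 5 = 1 := by rw [← hy]; exact pow_orderOf_eq_one y
  have hc3 : c ^ 3 = 1 := by rw [← hc]; exact pow_orderOf_eq_one c
  have hchar : Cfsg.IsCharacter G (χ : G → ℂ) := Helper80.isCharacter_of_irr χ.2
  have hc2 : (χ : G → ℂ) (c ^ 2) = conj ((χ : G → ℂ) c) := by
    have : c ^ 2 = c⁻¹ := by
      rw [eq_inv_iff_mul_eq_one, ← pow_succ]; exact hc3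
    rw [this]; exact Helper80.isCharacter_inv hchar c
  obtain ⟨ω, hω, hωc, hωre⟩ : ∃ ω : ℂ, ω ^ 2 + ω + 1 = 0 ∧ conj ω = -1 - ω ∧ ω.re = -1/2 := by
    refine ⟨⟨-1/2, Real.sqrt 3 / 2⟩, ?_, ?_, rfl⟩
    · apply Complex.ext
      · simp [pow_two]
        nlinarith [Real.mul_self_sqrt (show (0:ℝ) ≤ 3 by norm_num)]
      · simp [pow_two]
        ring
    · apply Complex.ext
      · simp
        norm_num
      · simp
  have hω3 : ω ^ 3 = 1 := by linear_combination (ω - 1) * hω
  have hω0 : ω ≠ 0 := by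
    rintro rfl; norm_num at hω
  have hdeg : Cfsg.charDegree (χ : G → ℂ) = 6 := by
    have := Helper81.irr_one_eq_charDegree χ
    rw [h1] at this
    exact_mod_cast this.symm
  have hnorm : ‖(χ : G → ℂ) c‖ ≤ 6 := by
    have := Helper80.isCharacter_norm_le hchar c
    rw [hdeg] at this
    exact_mod_cast this
  obtain ⟨n0, hn0⟩ := o5040_int3_key χ y c hyc hy5 hc3 h 1 (by simp)
  obtain ⟨n1, hn1⟩ := o5040_int3_key χ y c hyc hy5 hc3 h (Units.mk0 ω hω0)
    (by ext; simp [hω3])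
  obtain ⟨n2, hn2⟩ := o5040_int3_key χ y c hyc hy5 hc3 h (Units.mk0 ω hω0 ^ 2)
    (by
      ext
      simp only [Units.val_pow_eq_pow_val, Units.val_mk0, Units.val_one]
      calc (ω ^ 2) ^ 3 = (ω ^ 3) ^ 2 := by ring
        _ = 1 := by rw [hω3]; ring)
  rw [hc2, h1] at hn0 hn1 hn2
  generalize (χ : G → ℂ) c = s at hn0 hn1 hn2 hnorm ⊢
  simp only [Units.val_one, Units.val_mk0, Units.val_pow_eq_pow_val, map_one, map_pow, hωc,
    one_pow, mul_one] at hn0 hn1 hn2
  have ht2 : (-1 - ω) ^ 2 = ω := by linear_combination hω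
  have ht4 : ((-1 - ω) ^ 2) ^ 2 = -1 - ω := by rw [ht2]; linear_combination hω
  rw [ht2] at hn1
  rw [ht4, ht2] at hn2
  have hsum : (n0 : ℂ) + n1 + n2 = 2 := by
    linear_combination (-(1/15 : ℂ)) * hn0 - (1/15 : ℂ) * hn1 - (1/15 : ℂ) * hn2
  have hsumN : n0 + n1 + n2 = 2 := by exact_mod_cast hsum
  have hsform : s = 5 * (n0 : ℂ) - 4 + 5 * (n1 : ℂ) * ω + 5 * (n2 : ℂ) * (-1 - ω) := by
    linear_combination (1/3 : ℂ) * hn0 + (ω/3) * hn1 + ((-1-ω)/3) * hn2
      + (2/3 : ℂ) * (s - conj s) * hω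
  have hre : s.re = 5 * (n0 : ℝ) - 4 - 5/2 * (n1 : ℝ) - 5/2 * (n2 : ℝ) := by
    rw [hsform]
    simp [hωre]
    ring
  have habs := (abs_le.mp ((Complex.abs_re_le_norm s).trans hnorm)).1
  rw [hre] at habs
  have hsumR : (n0 : ℝ) + n1 + n2 = 2 := by exact_mod_cast hsumN
  have hn0pos : 1 ≤ n0 := by
    by_contra hcon
    have : n0 = 0 := by omega
    subst this
    norm_num at habs hsumR
    linarith
  have hcases : (n0 = 2 ∧ n1 = 0 ∧ n2 = 0) ∨ (n0 = 1 ∧ n1 = 1 ∧ n2 = 0) ∨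
      (n0 = 1 ∧ n1 = 0 ∧ n2 = 1) := by omega
  rcases hcases with ⟨rfl, rfl, rfl⟩ | ⟨rfl, rfl, rfl⟩ | ⟨rfl, rfl, rfl⟩
  · left
    rw [hsform]; push_cast; ring
  · right
    refine ⟨ω, hω, ?_⟩
    rw [hsform]; push_cast; ring
  · right
    refine ⟨-1 - ω, by linear_combination hω, ?_⟩
    rw [hsform]; push_cast; ring

end Cfsg.Agent.Helper42
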