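import Mathlib
import Cfsg.Agent.Helper42.L3Lower

set_option autoImplicit false

/-!
# Prime graph of `PSL_n(q)`: general tools and adjacency to the characteristic (helper42)

* `exists_factor` : a vector killed by a separable polynomial in `S` but not by a linear map `N`
  has a component with the same property in the kernel of an irreducible factor;
* `dvd_of_irreducible` : irreducible factors of degree at least two of `X^r - c` over a field with
  `q` elements have degree `e` with `r ∣ q^e - 1`;
* `bound` : if `T` has determinant one, `T^(r p)` is scalar but neither `T^r` nor `T^p` is, then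
  the dimension is at least `e(r, q) + 2`, and it is not `3` if `r = 3` and `9 ∤ q - 1`;
* `exists_of_model_order` : transport of a model to `PSL_n(q)`.
-/

namespace Cfsg.Agent.Helper42.PGraphL

open Polynomial UGroup UModels ProjOrd U3Lemmas L3Lemmas

universe u v

section general

variable {F : Type u} [Field F] {V : Type v} [AddCommGroup V] [Module F V]

/-- Passing to an irreducible factor of a separable annihilating polynomial. -/
theorem exists_factor (S : Module.End F V) {W : Type*} [AddCommGroup W] [Module F W]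
    (N : V →ₗ[F] W) :
    ∀ (d : ℕ) (P : F[X]), P.natDegree ≤ d → P.Separable → ∀ v : V, aeval S P v = 0 → N v ≠ 0 →
      ∃ f : F[X], Irreducible f ∧ f ∣ P ∧ ∃ w : V, aeval S f w = 0 ∧ N w ≠ 0 := by
  intro d
  induction d with
  | zero =>
    intro P hP hsep v hv hN
    exfalso
    have hP0 : P ≠ 0 := hsep.ne_zero
    rw [Polynomial.eq_C_of_natDegree_le_zero hP] at hv hP0
    rw [aeval_C, Module.algebraMap_end_apply] at hv
    have ha : P.coeff 0 ≠ 0 := by
      intro h
      apply hP0
      rw [h, map_zero]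
    have hv0 : v = 0 := by
      rcases smul_eq_zero.mp hv with h | h
      · exact absurd h ha
      · exact h
    exact hN (by rw [hv0, map_zero])
  | succ d ih =>
    intro P hP hsep v hv hN
    by_cases hunit : IsUnit P
    · exact ih P (by rw [natDegree_eq_zero_of_isUnit hunit]; omega) hsep v hv hN
    · obtain ⟨f, hf, hfP⟩ := WfDvdMonoid.exists_irreducible_factor hunit hsep.ne_zero
      obtain ⟨Q, rfl⟩ := hfP
      have hcop : IsCoprime f Q := hsep.isCoprime
      have hQsep : Q.Separable := hsep.of_mul_right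
      have hQdeg : Q.natDegree ≤ d := by
        have h1 := Polynomial.natDegree_mul hf.ne_zero hQsep.ne_zero
        have h2 := hf.natDegree_pos
        omega
      have hmem : v ∈ LinearMap.ker (aeval S f) ⊔ LinearMap.ker (aeval S Q) := by
        rw [Polynomial.sup_ker_aeval_eq_ker_aeval_mul_of_coprime S hcop]
        exact LinearMap.mem_ker.mpr hv
      obtain ⟨a, ha, b, hb, rfl⟩ := Submodule.mem_sup.mp hmem
      by_cases hNa : N a = 0
      · have hNb : N b ≠ 0 := by
          intro h
          apply hN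
          rw [map_add, hNa, h, add_zero]
        obtain ⟨g, hg, hgQ, w, hw, hNw⟩ := ih Q hQdeg hQsep b (LinearMap.mem_ker.mp hb) hNb
        exact ⟨g, hg, hgQ.mul_left f, w, hw, hNw⟩
      · exact ⟨f, hf, dvd_mul_right f Q, a, LinearMap.mem_ker.mp ha, hNa⟩

theorem eigen_of_deg_one (s : Module.End F V) (f : F[X]) (hdeg : f.natDegree = 1) :
    ∃ α : F, ∀ w : V, aeval s f w = 0 → s w = α • w := by
  have hf : f = C (f.coeff 1) * X + C (f.coeff 0) :=
    Polynomial.eq_X_add_C_of_natDegree_le_one (by omega)
  have hc1 : f.coeff 1 ≠ 0 := by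
    intro h
    have h3 : f.leadingCoeff = 0 := by rw [Polynomial.leadingCoeff, hdeg, h]
    rw [Polynomial.leadingCoeff_eq_zero] at h3
    rw [h3] at hdeg
    simp at hdeg
  refine ⟨-(f.coeff 0) / (f.coeff 1), fun w h0 => ?_⟩
  rw [hf] at h0
  simp only [map_add, map_mul, aeval_C, aeval_X, LinearMap.add_apply, Module.End.mul_apply,
    Module.algebraMap_end_apply] at h0
  have h2 : f.coeff 1 • s w = f.coeff 1 • ((-(f.coeff 0) / (f.coeff 1)) • w) := by
    rw [smul_smul, mul_div_cancel₀ _ hc1, neg_smul]
    exact eq_neg_of_add_eq_zero_left h0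
  exact smul_right_injective V hc1 h2

theorem pow_apply_eigen (t : Module.End F V) (μ : F) (x : V) (hx : t x = μ • x) (k : ℕ) :
    (t ^ k) x = μ ^ k • x := by
  induction k with
  | zero => simp
  | succ k ih =>
    rw [pow_succ, Module.End.mul_apply, hx, map_smul, ih, smul_smul, pow_succ, mul_comm]

theorem ker_invariant (t : Module.End F V) (f : F[X]) (A : Module.End F V) (hA : Commute A t) :
    ∀ w ∈ LinearMap.ker (aeval t f), A w ∈ LinearMap.ker (aeval t f) := by
  intro w hw
  rw [LinearMap.mem_ker] at hw ⊢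
  have h1 := (SpStruct.commute_aeval' A t hA f).eq
  have h2 := congrArg (fun g : Module.End F V => g w) h1
  simp only [Module.End.mul_apply] at h2
  rw [← h2, hw, map_zero]

end general

section arith

theorem order_dvd_of_dvd (r q e : ℕ) (hq : 1 ≤ q) (h : r ∣ q ^ e - 1) :
    orderOf ((q : ℕ) : ZMod r) ∣ e := by
  apply orderOf_dvd_of_pow_eq_one
  have h1 : ((q ^ e - 1 : ℕ) : ZMod r) = 0 := (ZMod.natCast_eq_zero_iff _ _).mpr h
  rw [Nat.cast_sub (Nat.one_le_pow _ _ hq), Nat.cast_pow, Nat.cast_one] at h1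
  exact sub_eq_zero.mp h1

theorem dvd_pow_order_sub_one (r q : ℕ) : r ∣ q ^ (orderOf ((q : ℕ) : ZMod r)) - 1 := by
  by_cases hq : 1 ≤ q ^ orderOf ((q : ℕ) : ZMod r)
  · rw [← ZMod.natCast_eq_zero_iff, Nat.cast_sub hq, Nat.cast_pow, pow_orderOf_eq_one,
      Nat.cast_one, sub_self]
  · have h0 : q ^ orderOf ((q : ℕ) : ZMod r) = 0 := by omega
    rw [h0]
    exact dvd_zero r

end arith

section fin

variable {F : Type u} [Field F] [Fintype F]

/-- Irreducible factors of degree at least two of `X^r - c`. -/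
theorem dvd_of_irreducible (r : ℕ) (hr : r.Prime) (c : F) (hc : c ≠ 0) (f : F[X])
    (hf : Irreducible f) (hfP : f ∣ X ^ r - C c) (hdeg : 2 ≤ f.natDegree) :
    r ∣ Fintype.card F ^ f.natDegree - 1 := by
  classical
  haveI : Fact (Irreducible f) := ⟨hf⟩
  haveI : Fact r.Prime := ⟨hr⟩
  have hfinE : Module.finrank F (AdjoinRoot f) = f.natDegree := finrank_quotient_span_eq_natDegree
  haveI : Module.Finite F (AdjoinRoot f) :=
    Module.finite_of_finrank_pos (by rw [hfinE]; omega)
  haveI : Finite (AdjoinRoot f) := Module.finite_of_finite F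
  have hroot : (AdjoinRoot.root f) ^ r = algebraMap F (AdjoinRoot f) c := by
    have h0 : aeval (AdjoinRoot.root f) (X ^ r - C c) = 0 := by
      rw [AdjoinRoot.aeval_eq]
      exact AdjoinRoot.mk_eq_zero.mpr hfP
    rw [map_sub, map_pow, aeval_X, aeval_C] at h0
    exact sub_eq_zero.mp h0
  have hlam0 : AdjoinRoot.root f ≠ 0 := by
    intro h
    rw [h, zero_pow hr.ne_zero] at hroot
    exact hc ((algebraMap F (AdjoinRoot f)).injective (by rw [← hroot, map_zero]))
  obtain ⟨q, hq⟩ : ∃ q, q = Fintype.card F := ⟨_, rfl⟩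
  rw [← hq]
  have hq1 : 1 ≤ q := by rw [hq]; exact Fintype.card_pos
  have hnotF : (AdjoinRoot.root f) ^ q ≠ AdjoinRoot.root f := by
    intro h
    rw [hq] at h
    obtain ⟨c', hc'⟩ := mem_range_of_pow_card (F := F) (AdjoinRoot.root f) h
    have h2 : AdjoinRoot.mk f (X - C c') = 0 := by
      rw [map_sub, AdjoinRoot.mk_X, AdjoinRoot.mk_C, ← hc']
      exact sub_self _
    have h3 := AdjoinRoot.mk_eq_zero.mp h2
    have h4 := Polynomial.natDegree_le_of_dvd h3 (X_sub_C_ne_zero c')
    rw [natDegree_X_sub_C] at h4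
    omega
  obtain ⟨z, hz⟩ : ∃ z : AdjoinRoot f, z = (AdjoinRoot.root f) ^ (q - 1) := ⟨_, rfl⟩
  have hz1 : z ≠ 1 := by
    intro h
    apply hnotF
    have h2 : q = (q - 1) + 1 := by omega
    rw [h2, pow_succ, ← hz, h, one_mul]
  have hzr : z ^ r = 1 := by
    rw [hz, ← pow_mul, mul_comm, pow_mul, hroot, ← map_pow, hq,
      FiniteField.pow_card_sub_one_eq_one c hc, map_one]
  have hord : orderOf z = r := orderOf_eq_prime hzr hz1
  have hz0 : z ≠ 0 := by rw [hz]; exact pow_ne_zero _ hlam0
  have hfer : z ^ (q ^ f.natDegree - 1) = 1 := by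
    have h1 := pow_card_ext (F := F) (AdjoinRoot f) f.natDegree hfinE z
    rw [← hq] at h1
    have h2 : 1 ≤ q ^ f.natDegree := Nat.one_le_pow _ _ hq1
    have h3 : z ^ (q ^ f.natDegree - 1) * z = 1 * z := by
      rw [← pow_succ, Nat.sub_add_cancel h2, h1, one_mul]
    exact mul_right_cancel₀ hz0 h3
  rw [← hord]
  exact orderOf_dvd_of_pow_eq_one hfer

end fin

section bound

variable {F : Type u} [Field F] [Fintype F] {V : Type v} [AddCommGroup V] [Module F V]
  [FiniteDimensional F V]

/-- **Elements of order `r p` in `PSL_n(q)` force `n ≥ e(r, q) + 2`.** -/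
theorem bound (p : ℕ) [Fact p.Prime] [CharP F p] (r : ℕ) (hr : r.Prime) (hrp : r ≠ p)
    (T : Module.End F V) (hdet : LinearMap.det T = 1) (c : F) (hc : c ≠ 0)
    (hT : T ^ (r * p) = c • (1 : Module.End F V))
    (hTr : ¬ ∃ c' : F, T ^ r = c' • (1 : Module.End F V))
    (hTp : ¬ ∃ c' : F, T ^ p = c' • (1 : Module.End F V)) :
    orderOf ((Fintype.card F : ℕ) : ZMod r) + 2 ≤ Module.finrank F V ∧
      ¬ (Module.finrank F V = 3 ∧ r = 3 ∧ ¬ 9 ∣ Fintype.card F - 1) := by
  classical
  have hp : p.Prime := Fact.out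
  haveI : Fact r.Prime := ⟨hr⟩
  have hV : Nontrivial V := by
    by_contra h
    rw [not_nontrivial_iff_subsingleton] at h
    apply hTr
    refine ⟨1, ?_⟩
    apply LinearMap.ext
    intro x
    exact Subsingleton.elim _ _
  haveI := SpStruct.charP_end' (F := F) (V := V) p
  obtain ⟨q, hq⟩ : ∃ q, q = Fintype.card F := ⟨_, rfl⟩
  rw [← hq]
  have hq1 : 1 ≤ q := by rw [hq]; exact Fintype.card_pos
  obtain ⟨γ, hγ⟩ : ∃ γ : F, γ ^ p = c := by
    obtain ⟨γ, hγ⟩ := surjective_frobenius F p c
    exact ⟨γ, hγ⟩
  obtain ⟨t, ht⟩ : ∃ t : Module.End F V, t = T ^ p := ⟨_, rfl⟩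
  obtain ⟨N, hN⟩ : ∃ N : Module.End F V, N = T ^ r - γ • (1 : Module.End F V) := ⟨_, rfl⟩
  have htr : t ^ r = c • (1 : Module.End F V) := by rw [ht, ← pow_mul, mul_comm, hT]
  have hNp : N ^ p = 0 := by
    have hcomm : Commute (T ^ r) (γ • (1 : Module.End F V)) :=
      (Commute.one_right _).smul_right γ
    rw [hN, sub_pow_char_of_commute p hcomm, ← pow_mul, hT, _root_.smul_pow, one_pow, hγ, sub_self]
  have hNnil : IsNilpotent N := ⟨p, hNp⟩
  have hN0 : N ≠ 0 := by
    intro h
    apply hTr
    refine ⟨γ, ?_⟩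
    rw [hN] at h
    exact sub_eq_zero.mp h
  have hNt : Commute N t := by
    rw [hN, ht]
    apply Commute.sub_left
    · exact Commute.pow_pow_self T r p
    · exact (Commute.one_left _).smul_left γ
  have htt : Commute t t := Commute.refl t
  obtain ⟨P, hPdef⟩ : ∃ P : F[X], P = X ^ r - C c := ⟨_, rfl⟩
  have hrF : (r : F) ≠ 0 := by
    intro h
    rw [CharP.cast_eq_zero_iff F p r] at h
    exact hrp ((Nat.prime_dvd_prime_iff_eq hp hr).mp h).symm
  have hPsep : P.Separable := by rw [hPdef]; exact separable_X_pow_sub_C c hrF hc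
  have hPt : aeval t P = 0 := by
    rw [hPdef, map_sub, map_pow, aeval_X, aeval_C, htr, Algebra.algebraMap_eq_smul_one, sub_self]
  obtain ⟨v, hv⟩ : ∃ v, N v ≠ 0 := by
    by_contra h
    push Not at h
    exact hN0 (LinearMap.ext h)
  obtain ⟨f, hf, hfP, w, hw, hNw⟩ := exists_factor t N P.natDegree P le_rfl hPsep v
    (by rw [hPt]; rfl) hv
  obtain ⟨Wf, hWf⟩ : ∃ Wf : Submodule F V, Wf = LinearMap.ker (aeval t f) := ⟨_, rfl⟩
  have hWft : ∀ x ∈ Wf, t x ∈ Wf := by rw [hWf]; exact ker_invariant t f t htt
  have hWfN : ∀ x ∈ Wf, N x ∈ Wf := by rw [hWf]; exact ker_invariant t f N hNt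
  have hWf0 : ∀ x ∈ Wf, aeval t f x = 0 := by
    rw [hWf]
    intro x hx
    exact LinearMap.mem_ker.mp hx
  have hwWf : w ∈ Wf := by rw [hWf]; exact LinearMap.mem_ker.mpr hw
  obtain ⟨hdvdf, hnilf⟩ := SpStruct.kmod_sub t f hf Wf hWft hWf0
  have hdegf : 1 ≤ f.natDegree := hf.natDegree_pos
  have hdimWf : 2 * f.natDegree ≤ Module.finrank F Wf := by
    obtain ⟨m, hm⟩ := hdvdf
    have hm2 : 2 ≤ m := by
      by_contra hlt
      have h1 : Module.finrank F Wf ≤ 1 * f.natDegree := by
        rw [hm]
        have h0 : m ≤ 1 := by omega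
        calc f.natDegree * m ≤ f.natDegree * 1 := Nat.mul_le_mul_left _ h0
          _ = 1 * f.natDegree := by ring
      have h2 := hnilf N hNt hNnil hWfN 1 h1 w hwWf
      rw [pow_one] at h2
      exact hNw h2
    rw [hm]
    calc 2 * f.natDegree = f.natDegree * 2 := by ring
      _ ≤ f.natDegree * m := Nat.mul_le_mul_left _ hm2
  have hWfle : Module.finrank F Wf ≤ Module.finrank F V := Submodule.finrank_le Wf
  have hkdvd : ∀ g : F[X], Irreducible g → g ∣ P → 2 ≤ g.natDegree →
      orderOf ((q : ℕ) : ZMod r) ≤ g.natDegree := by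
    intro g hg hgP hdeg
    have h1 := dvd_of_irreducible r hr c hc g hg (by rw [← hPdef]; exact hgP) hdeg
    rw [← hq] at h1
    exact Nat.le_of_dvd (by omega) (order_dvd_of_dvd r q g.natDegree hq1 h1)
  by_cases hdf : 2 ≤ f.natDegree
  · have hk := hkdvd f hf hfP hdf
    constructor
    · omega
    · rintro ⟨h3, -, -⟩
      omega
  · have hdf1 : f.natDegree = 1 := by omega
    obtain ⟨lam, hlam⟩ := eigen_of_deg_one t f hdf1
    have hlamW : ∀ x ∈ Wf, t x = lam • x := fun x hx => hlam x (hWf0 x hx)
    have hw0 : w ≠ 0 := by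
      intro h
      apply hNw
      rw [h, map_zero]
    have hpow_eig : ∀ (μ : F) (x : V), t x = μ • x → x ≠ 0 → μ ^ r = c := by
      intro μ x hx hx0
      have h1 := pow_apply_eigen t μ x hx r
      rw [htr, LinearMap.smul_apply, Module.End.one_apply] at h1
      by_contra hne
      have h2 : (c - μ ^ r) • x = 0 := by rw [sub_smul, h1, sub_self]
      rcases smul_eq_zero.mp h2 with h | h
      · exact hne (sub_eq_zero.mp h).symm
      · exact hx0 h
    have hlamr : lam ^ r = c := hpow_eig lam w (hlamW w hwWf) hw0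
    have hlam0 : lam ≠ 0 := by
      intro h
      rw [h, zero_pow hr.ne_zero] at hlamr
      exact hc hlamr.symm
    obtain ⟨M, hM⟩ : ∃ M : Module.End F V, M = t - lam • (1 : Module.End F V) := ⟨_, rfl⟩
    have hM0 : M ≠ 0 := by
      intro h
      apply hTp
      refine ⟨lam, ?_⟩
      rw [hM] at h
      rw [← ht]
      exact sub_eq_zero.mp h
    obtain ⟨v', hv'⟩ : ∃ v', M v' ≠ 0 := by
      by_contra h
      push Not at h
      exact hM0 (LinearMap.ext h)
    obtain ⟨Q, hQ⟩ := hfP
    have hcop : IsCoprime f Q := by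
      rw [hQ] at hPsep
      exact hPsep.isCoprime
    have hQsep : Q.Separable := by
      rw [hQ] at hPsep
      exact hPsep.of_mul_right
    have hmem : v' ∈ LinearMap.ker (aeval t f) ⊔ LinearMap.ker (aeval t Q) := by
      rw [Polynomial.sup_ker_aeval_eq_ker_aeval_mul_of_coprime t hcop, ← hQ, hPt]
      exact LinearMap.mem_ker.mpr rfl
    obtain ⟨a, ha, b, hb, hab⟩ := Submodule.mem_sup.mp hmem
    have hMa : M a = 0 := by
      rw [hM, LinearMap.sub_apply, LinearMap.smul_apply, Module.End.one_apply,
        hlam a (LinearMap.mem_ker.mp ha), sub_self]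
    have hMb : M b ≠ 0 := by
      intro h
      apply hv'
      rw [← hab, map_add, hMa, h, add_zero]
    obtain ⟨g, hg, hgQ, w', hw', hMw'⟩ := exists_factor t M Q.natDegree Q le_rfl hQsep b
      (LinearMap.mem_ker.mp hb) hMb
    have hgP : g ∣ P := by rw [hQ]; exact hgQ.mul_left f
    have hcopfg : IsCoprime f g := IsCoprime.of_isCoprime_of_dvd_right hcop hgQ
    obtain ⟨Wg, hWg⟩ : ∃ Wg : Submodule F V, Wg = LinearMap.ker (aeval t g) := ⟨_, rfl⟩
    have hWgt : ∀ x ∈ Wg, t x ∈ Wg := by rw [hWg]; exact ker_invariant t g t htt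
    have hWg0 : ∀ x ∈ Wg, aeval t g x = 0 := by
      rw [hWg]
      intro x hx
      exact LinearMap.mem_ker.mp hx
    have hw'Wg : w' ∈ Wg := by rw [hWg]; exact LinearMap.mem_ker.mpr hw'
    have hw'0 : w' ≠ 0 := by
      intro h
      apply hMw'
      rw [h, map_zero]
    obtain ⟨hdvdg, -⟩ := SpStruct.kmod_sub t g hg Wg hWgt hWg0
    have hdisj : Disjoint Wf Wg := by
      rw [hWf, hWg]
      exact Polynomial.disjoint_ker_aeval_of_isCoprime t hcopfg
    have hWgpos : 0 < Module.finrank F Wg := by
      rw [Module.finrank_pos_iff_exists_ne_zero]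
      exact ⟨⟨w', hw'Wg⟩, fun h => hw'0 (congrArg Subtype.val h)⟩
    have hdimWg : g.natDegree ≤ Module.finrank F Wg := Nat.le_of_dvd hWgpos hdvdg
    have hsupdim : Module.finrank F (Wf ⊔ Wg : Submodule F V) =
        Module.finrank F Wf + Module.finrank F Wg := by
      have h1 := Submodule.finrank_sup_add_finrank_inf_eq Wf Wg
      rw [hdisj.eq_bot, finrank_bot, add_zero] at h1
      exact h1
    have hsum : Module.finrank F Wf + Module.finrank F Wg ≤ Module.finrank F V := by
      rw [← hsupdim]
      exact Submodule.finrank_le _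
    have hdegg : 1 ≤ g.natDegree := hg.natDegree_pos
    by_cases hdg : 2 ≤ g.natDegree
    · have hk := hkdvd g hg hgP hdg
      constructor
      · omega
      · rintro ⟨h3, -, -⟩
        omega
    · have hdg1 : g.natDegree = 1 := by omega
      obtain ⟨mu, hmu⟩ := eigen_of_deg_one t g hdg1
      have hmuW : ∀ x ∈ Wg, t x = mu • x := fun x hx => hmu x (hWg0 x hx)
      have hmur : mu ^ r = c := hpow_eig mu w' (hmuW w' hw'Wg) hw'0
      have hne : mu ≠ lam := by
        intro h
        apply hMw'
        rw [hM, LinearMap.sub_apply, LinearMap.smul_apply, Module.End.one_apply,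
          hmuW w' hw'Wg, h, sub_self]
      have hmu0 : mu ≠ 0 := by
        intro h
        rw [h, zero_pow hr.ne_zero] at hmur
        exact hc hmur.symm
      obtain ⟨om, hom⟩ : ∃ om : F, om = mu / lam := ⟨_, rfl⟩
      have hom1 : om ≠ 1 := by
        intro h
        rw [hom, div_eq_one_iff_eq hlam0] at h
        exact hne h
      have homr : om ^ r = 1 := by rw [hom, div_pow, hmur, hlamr, div_self hc]
      have hom0 : om ≠ 0 := by rw [hom]; exact div_ne_zero hmu0 hlam0
      have homord : orderOf om = r := orderOf_eq_prime homr hom1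
      have hrq : r ∣ q - 1 := by
        rw [← homord]
        apply orderOf_dvd_of_pow_eq_one
        rw [hq]
        exact FiniteField.pow_card_sub_one_eq_one om hom0
      have hk1 : orderOf ((q : ℕ) : ZMod r) = 1 := by
        have h1 := order_dvd_of_dvd r q 1 hq1 (by rw [pow_one]; exact hrq)
        exact Nat.dvd_one.mp h1
      constructor
      · rw [hk1]
        omega
      · rintro ⟨h3, hr3, h9⟩
        apply h9
        have hWf2 : Module.finrank F Wf = 2 := by omega
        have hWg1 : Module.finrank F Wg = 1 := by omega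
        have hcompl : IsCompl Wf Wg := by
          refine ⟨hdisj, ?_⟩
          rw [codisjoint_iff]
          apply Submodule.eq_top_of_finrank_eq
          rw [hsupdim]
          omega
        have hdett : LinearMap.det t = 1 := by rw [ht, map_pow, hdet, one_pow]
        have h5 := det_eq_of_isCompl t Wf Wg hcompl hWft hWgt
        have h6 : t.restrict hWft = lam • (1 : Module.End F Wf) := by
          apply LinearMap.ext
          intro x
          apply Subtype.ext
          rw [LinearMap.coe_restrict_apply, hlamW x x.2]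
          rfl
        have h7 : t.restrict hWgt = mu • (1 : Module.End F Wg) := by
          apply LinearMap.ext
          intro x
          apply Subtype.ext
          rw [LinearMap.coe_restrict_apply, hmuW x x.2]
          rfl
        rw [h6, h7, LinearMap.det_smul, LinearMap.det_smul, hWf2, hWg1, map_one, map_one, mul_one,
          mul_one, pow_one, hdett] at h5
        have hmu_eq : mu = om * lam := by rw [hom, div_mul_cancel₀ _ hlam0]
        subst hr3
        have h8 : lam ^ 3 * om = 1 := by
          rw [h5, hmu_eq]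
          ring
        have hlam9 : lam ^ 3 ^ (1 + 1) = 1 := by
          have h10 : (lam ^ 3 * om) ^ 3 = 1 := by rw [h8, one_pow]
          rw [mul_pow, homr, mul_one, ← pow_mul] at h10
          have h12 : (3 : ℕ) ^ (1 + 1) = 3 * 3 := by norm_num
          rw [h12]
          exact h10
        have hlam3 : ¬ lam ^ 3 ^ 1 = 1 := by
          intro h
          rw [pow_one] at h
          rw [h, one_mul] at h8
          exact hom1 h8
        have hord9 : orderOf lam = 3 ^ (1 + 1) := orderOf_eq_prime_pow hlam3 hlam9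
        have h11 : orderOf lam ∣ q - 1 := by
          apply orderOf_dvd_of_pow_eq_one
          rw [hq]
          exact FiniteField.pow_card_sub_one_eq_one lam hlam0
        rw [hord9] at h11
        exact h11

end bound

end Cfsg.Agent.Helper42.PGraphL
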