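import Mathlib
import Cfsg.Agent.Helper42.PGraphL

set_option autoImplicit false

/-!
# Prime graph of `PSL_n(q)`: models (helper42)

Elements of `PSL_n(q)` of order `r p` built from field extensions and unipotent blocks.
-/

namespace Cfsg.Agent.Helper42.PGraphLM

open Polynomial UGroup UModels ProjOrd U3Lemmas L3Lemmas PGraphL

universe u v

variable {F : Type u} [Field F]

/-- Transport of a model to `PSL_n(F)`, with its projective order. -/
theorem exists_of_model_order (n : ℕ) (V : Type v) [AddCommGroup V] [Module F V]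
    [FiniteDimensional F V] (hdim : Module.finrank F V = n) (T : Module.End F V)
    (hdet : LinearMap.det T = 1) (m : ℕ) (hm : ∃ c : F, T ^ m = c • (1 : Module.End F V))
    (hmin : ∀ (i : ℕ) (ε : F), T ^ i = ε • (1 : Module.End F V) → m ∣ i) :
    ∃ x : Matrix.ProjectiveSpecialLinearGroup (Fin n) F, orderOf x = m := by
  obtain ⟨g, Φ, hΦ⟩ := exists_sl_of_model n V hdim T hdet
  refine ⟨QuotientGroup.mk g, Nat.dvd_antisymm ?_ ?_⟩
  · apply orderOf_dvd_of_pow_eq_one
    rw [ProjOrd.mk_pow_eq_one_iff]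
    obtain ⟨c, hc⟩ := hm
    exact ⟨c, (conj_pow_eq_smul_iff Φ (toEnd g) T hΦ m c).mpr hc⟩
  · have h1 := pow_orderOf_eq_one
      (QuotientGroup.mk g : Matrix.ProjectiveSpecialLinearGroup (Fin n) F)
    rw [ProjOrd.mk_pow_eq_one_iff] at h1
    obtain ⟨ε, hε⟩ := h1
    exact hmin _ ε ((conj_pow_eq_smul_iff Φ (toEnd g) T hΦ _ ε).mp hε)

/-- A unipotent block of size two. -/
theorem exists_unip2 (p : ℕ) [Fact p.Prime] [CharP F p] :
    ∃ U : Module.End F (Fin (1 + 1) → F), LinearMap.det U = 1 ∧ U ^ p = 1 ∧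
      (∀ (i : ℕ) (μ : F), U ^ i = μ • (1 : Module.End F (Fin (1 + 1) → F)) → U ^ i = 1) ∧
      (∀ i : ℕ, U ^ i = 1 → p ∣ i) := by
  classical
  have hp : p.Prime := Fact.out
  haveI := SpStruct.charP_end' (F := F) (V := Fin (1 + 1) → F) p
  obtain ⟨U, hUdef⟩ : ∃ U : Module.End F (Fin (1 + 1) → F), U = 1 + SpModels.shiftUp F 1 :=
    ⟨_, rfl⟩
  have hUp : U ^ (p ^ 1) = 1 := by
    rw [hUdef, add_pow_char_pow_of_commute p 1 (Commute.one_left _), one_pow,
      SpModels.shiftUp_pow_eq_zero F 1 (p ^ 1) (by rw [pow_one]; exact hp.two_le), add_zero]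
  have hU1ne : U ^ (p ^ 0) ≠ 1 := by
    rw [pow_zero, pow_one, hUdef]
    intro h
    have h2 : SpModels.shiftUp F 1 = 0 := by
      have := congrArg (fun x => x - 1) h
      simpa using this
    exact SpModels.shiftUp_pow_ne_zero F 1 1 le_rfl (by rw [pow_one]; exact h2)
  obtain ⟨hU1, hU2⟩ := unipotent_facts_u p U 1 hUp
  have hdetU : LinearMap.det U = 1 := by
    apply eq_one_of_pow_char_pow p _ 1
    rw [← map_pow, hUp, map_one]
  refine ⟨U, hdetU, by rw [← pow_one p]; exact hUp, hU1, fun i hi => ?_⟩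
  have h8 := hU2 0 hU1ne i hi
  simpa using h8

variable [Fintype F]

/-- An element of `F` of prescribed order `m ∣ q - 1`. -/
theorem exists_elt_F (m : ℕ) (hm : m ∣ Fintype.card F - 1) :
    ∃ a : F, a ≠ 0 ∧ a ^ m = 1 ∧ ∀ i : ℕ, a ^ i = 1 → m ∣ i := by
  obtain ⟨l, hl0, hlord⟩ := L3Lower.exists_gen_elt (F := F)
  obtain ⟨e, he⟩ := hm
  have hq : 0 < Fintype.card F - 1 := by
    have := Fintype.one_lt_card (α := F)
    omega
  have he0 : 0 < e := by
    rcases Nat.eq_zero_or_pos e with h | h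
    · rw [h, mul_zero] at he
      omega
    · exact h
  refine ⟨l ^ e, pow_ne_zero _ hl0, ?_, fun i hi => ?_⟩
  · rw [← pow_mul, mul_comm, ← he]
    exact FiniteField.pow_card_sub_one_eq_one l hl0
  · rw [← pow_mul] at hi
    have h1 := hlord _ hi
    rw [he, mul_comm m e] at h1
    exact Nat.dvd_of_mul_dvd_mul_left he0 h1

/-- An element of order `r` and norm one in the extension of degree `k`. -/
theorem exists_elt_ext (p : ℕ) [Fact p.Prime] [CharP F p] (k : ℕ) [NeZero k] (r : ℕ)
    (hr : r.Prime) (hrk : r ∣ Fintype.card F ^ k - 1) (hrq : ¬ r ∣ Fintype.card F - 1) :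
    ∃ z : FiniteField.Extension F p k, z ^ r = 1 ∧ Algebra.norm F z = 1 ∧
      ∀ (i : ℕ) (ε : F), z ^ i = algebraMap F (FiniteField.Extension F p k) ε → r ∣ i := by
  obtain ⟨κ, hκ0, hκ1, hκord⟩ := L3Lower.exists_gen_ext (F := F) p k
  obtain ⟨e, he⟩ := hrk
  have hq2 : 2 ≤ Fintype.card F := Fintype.one_lt_card
  have hqk : 0 < Fintype.card F ^ k - 1 := by
    have hk : 1 ≤ k := Nat.pos_of_ne_zero (NeZero.ne k)
    have h1 : Fintype.card F ^ 1 ≤ Fintype.card F ^ k := Nat.pow_le_pow_right (by omega) hk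
    rw [pow_one] at h1
    omega
  have he0 : 0 < e := by
    rcases Nat.eq_zero_or_pos e with h | h
    · rw [h, mul_zero] at he
      omega
    · exact h
  obtain ⟨z, hz⟩ : ∃ z : FiniteField.Extension F p k, z = κ ^ e := ⟨_, rfl⟩
  have hzr : z ^ r = 1 := by rw [hz, ← pow_mul, mul_comm, ← he, hκ1]
  have hz0 : z ≠ 0 := by rw [hz]; exact pow_ne_zero _ hκ0
  have hzord : ∀ i : ℕ, z ^ i = 1 → r ∣ i := by
    intro i hi
    rw [hz, ← pow_mul] at hi
    have h1 := hκord _ hi
    rw [he, mul_comm r e] at h1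
    exact Nat.dvd_of_mul_dvd_mul_left he0 h1
  have hcop : Nat.Coprime r (Fintype.card F - 1) := (Nat.Prime.coprime_iff_not_dvd hr).mpr hrq
  refine ⟨z, hzr, ?_, fun i ε hi => ?_⟩
  · have hn0 : Algebra.norm F z ≠ 0 := Algebra.norm_ne_zero_iff.mpr hz0
    have h1 : Algebra.norm F z ^ r = 1 := by rw [← map_pow, hzr, map_one]
    have h2 : Algebra.norm F z ^ (Fintype.card F - 1) = 1 :=
      FiniteField.pow_card_sub_one_eq_one _ hn0
    have h3 : Algebra.norm F z ^ Nat.gcd r (Fintype.card F - 1) = 1 := pow_gcd_eq_one.mpr ⟨h1, h2⟩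
    rw [hcop.gcd_eq_one, pow_one] at h3
    exact h3
  · have hε0 : ε ≠ 0 := by
      rintro rfl
      rw [map_zero] at hi
      exact pow_ne_zero i hz0 hi
    have h1 : z ^ (i * (Fintype.card F - 1)) = 1 := by
      rw [pow_mul, hi, ← map_pow, FiniteField.pow_card_sub_one_eq_one ε hε0, map_one]
    have h2 := hzord _ h1
    exact (Nat.Coprime.dvd_mul_right hcop).mp h2

/-- The model for `e(r, q) ≥ 2`. -/
theorem model_big (p : ℕ) [Fact p.Prime] [CharP F p] (n k r : ℕ) [NeZero k] (hr : r.Prime)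
    (hrp : r ≠ p) (hrk : r ∣ Fintype.card F ^ k - 1) (hrq : ¬ r ∣ Fintype.card F - 1)
    (hn : k + 2 ≤ n) :
    ∃ x : Matrix.ProjectiveSpecialLinearGroup (Fin n) F, orderOf x = r * p := by
  classical
  have hp : p.Prime := Fact.out
  obtain ⟨z, hzr, hznorm, hzord⟩ := exists_elt_ext p k r hr hrk hrq
  obtain ⟨U, hUdet, hUp, hU1, hU2⟩ := exists_unip2 (F := F) p
  obtain ⟨m, hm⟩ := Nat.exists_eq_add_of_le hn
  obtain ⟨T, hTdef⟩ : ∃ T : Module.End F
      ((FiniteField.Extension F p k × (Fin (1 + 1) → F)) × (Fin m → F)),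
      T = ((LinearMap.mul F (FiniteField.Extension F p k) z).prodMap U).prodMap 1 := ⟨_, rfl⟩
  have hdk : LinearMap.det (LinearMap.mul F (FiniteField.Extension F p k) z) =
      Algebra.norm F z := by
    rw [Algebra.norm_apply]
    rfl
  have hTdet : LinearMap.det T = 1 := by
    rw [hTdef, LinearMap.det_prodMap, LinearMap.det_prodMap, hdk, hznorm, hUdet, map_one, mul_one,
      mul_one]
  have hTpow : ∀ i : ℕ, T ^ i =
      ((LinearMap.mul F (FiniteField.Extension F p k) (z ^ i)).prodMap (U ^ i)).prodMap 1 := by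
    intro i
    rw [hTdef, SpModels.prodMap_pow', SpModels.prodMap_pow', mul_pow_eq, one_pow]
  have hdim : Module.finrank F
      ((FiniteField.Extension F p k × (Fin (1 + 1) → F)) × (Fin m → F)) = n := by
    rw [Module.finrank_prod, Module.finrank_prod, FiniteField.finrank_extension,
      Module.finrank_fin_fun, Module.finrank_fin_fun, hm]
  apply exists_of_model_order n _ hdim T hTdet (r * p)
  · refine ⟨1, ?_⟩
    rw [hTpow, pow_mul, hzr, one_pow, mul_comm, pow_mul, hUp, one_pow, one_smul]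
    apply LinearMap.ext
    intro x
    simp
  · intro i ε hi
    rw [hTpow] at hi
    have h4 : U ^ i = ε • (1 : Module.End F (Fin (1 + 1) → F)) := by
      apply LinearMap.ext
      intro v
      have := congrArg (fun f : Module.End F
        ((FiniteField.Extension F p k × (Fin (1 + 1) → F)) × (Fin m → F)) => (f ((0, v), 0)).1.2) hi
      simpa using this
    have h5 : z ^ i = algebraMap F (FiniteField.Extension F p k) ε := by
      have := congrArg (fun f : Module.End F
        ((FiniteField.Extension F p k × (Fin (1 + 1) → F)) × (Fin m → F)) => (f ((1, 0), 0)).1.1) hi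
      simpa [Algebra.algebraMap_eq_smul_one] using this
    have hUi : U ^ i = 1 := hU1 i ε h4
    exact Nat.Coprime.mul_dvd_of_dvd_of_dvd ((Nat.coprime_primes hr hp).mpr hrp)
      (hzord i ε h5) (hU2 i hUi)

/-- The model for `r ∣ q - 1` and `n ≥ 4`. -/
theorem model_split (p : ℕ) [Fact p.Prime] [CharP F p] (n r : ℕ) (hr : r.Prime)
    (hrp : r ≠ p) (hrq : r ∣ Fintype.card F - 1) (hn : 4 ≤ n) :
    ∃ x : Matrix.ProjectiveSpecialLinearGroup (Fin n) F, orderOf x = r * p := by
  classical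
  have hp : p.Prime := Fact.out
  obtain ⟨a, ha0, har, haord⟩ := exists_elt_F (F := F) r hrq
  obtain ⟨U, hUdet, hUp, hU1, hU2⟩ := exists_unip2 (F := F) p
  obtain ⟨m, hm⟩ := Nat.exists_eq_add_of_le hn
  obtain ⟨T, hTdef⟩ : ∃ T : Module.End F (((F × F) × (Fin (1 + 1) → F)) × (Fin m → F)),
      T = (((a • (1 : Module.End F F)).prodMap (a⁻¹ • (1 : Module.End F F))).prodMap U).prodMap 1 :=
    ⟨_, rfl⟩
  have hTdet : LinearMap.det T = 1 := by
    rw [hTdef, LinearMap.det_prodMap, LinearMap.det_prodMap, LinearMap.det_prodMap,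
      LinearMap.det_smul, LinearMap.det_smul, Module.finrank_self, map_one, pow_one, pow_one,
      mul_one, mul_one, hUdet, mul_one, map_one, mul_one, mul_inv_cancel₀ ha0]
  have hTpow : ∀ i : ℕ, T ^ i = (((a ^ i • (1 : Module.End F F)).prodMap
      ((a⁻¹) ^ i • (1 : Module.End F F))).prodMap (U ^ i)).prodMap 1 := by
    intro i
    rw [hTdef, SpModels.prodMap_pow', SpModels.prodMap_pow', SpModels.prodMap_pow',
      _root_.smul_pow, _root_.smul_pow, one_pow, one_pow]
  have hdim : Module.finrank F (((F × F) × (Fin (1 + 1) → F)) × (Fin m → F)) = n := by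
    rw [Module.finrank_prod, Module.finrank_prod, Module.finrank_prod, Module.finrank_self,
      Module.finrank_fin_fun, Module.finrank_fin_fun, hm]
  apply exists_of_model_order n _ hdim T hTdet (r * p)
  · refine ⟨1, ?_⟩
    rw [hTpow, inv_pow, pow_mul, har, one_pow, inv_one, mul_comm, pow_mul, hUp, one_pow, one_smul]
    apply LinearMap.ext
    intro x
    simp
  · intro i ε hi
    rw [hTpow] at hi
    have h4 : U ^ i = ε • (1 : Module.End F (Fin (1 + 1) → F)) := by
      apply LinearMap.ext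
      intro v
      have := congrArg (fun f : Module.End F
        (((F × F) × (Fin (1 + 1) → F)) × (Fin m → F)) => (f (((0, 0), v), 0)).1.2) hi
      simpa using this
    have h5 : a ^ i = ε := by
      have := congrArg (fun f : Module.End F
        (((F × F) × (Fin (1 + 1) → F)) × (Fin m → F)) => (f (((1, 0), 0), 0)).1.1.1) hi
      simpa using this
    have hUi : U ^ i = 1 := hU1 i ε h4
    have hε : ε = 1 := by
      have h6 := congrArg (fun f : Module.End F (Fin (1 + 1) → F) => f (Pi.single 0 1) 0)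
        (h4.symm.trans hUi)
      simpa using h6
    rw [hε] at h5
    exact Nat.Coprime.mul_dvd_of_dvd_of_dvd ((Nat.coprime_primes hr hp).mpr hrp)
      (haord i h5) (hU2 i hUi)

/-- The model for `n = 3`. -/
theorem model_three (p : ℕ) [Fact p.Prime] [CharP F p] (r : ℕ) (hr : r.Prime)
    (hrp : r ≠ p) (a : F) (ha0 : a ≠ 0) (har : a ^ (3 * r) = 1)
    (haord : ∀ i : ℕ, a ^ (3 * i) = 1 → r ∣ i) :
    ∃ x : Matrix.ProjectiveSpecialLinearGroup (Fin 3) F, orderOf x = r * p := by
  classical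
  have hp : p.Prime := Fact.out
  obtain ⟨U, hUdet, hUp, hU1, hU2⟩ := exists_unip2 (F := F) p
  obtain ⟨T, hTdef⟩ : ∃ T : Module.End F ((Fin (1 + 1) → F) × F),
      T = (a • U).prodMap ((a⁻¹) ^ 2 • (1 : Module.End F F)) := ⟨_, rfl⟩
  have hTdet : LinearMap.det T = 1 := by
    rw [hTdef, LinearMap.det_prodMap, LinearMap.det_smul, LinearMap.det_smul, hUdet,
      Module.finrank_fin_fun, Module.finrank_self, map_one, mul_one, mul_one, pow_one, ← mul_pow,
      mul_inv_cancel₀ ha0, one_pow]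
  have hTpow : ∀ i : ℕ, T ^ i = (a ^ i • U ^ i).prodMap
      (((a⁻¹) ^ 2) ^ i • (1 : Module.End F F)) := by
    intro i
    rw [hTdef, SpModels.prodMap_pow', _root_.smul_pow, _root_.smul_pow, one_pow]
  have hdim : Module.finrank F ((Fin (1 + 1) → F) × F) = 3 := by
    rw [Module.finrank_prod, Module.finrank_fin_fun, Module.finrank_self]
  have hai : ∀ i : ℕ, a ^ i ≠ 0 := fun i => pow_ne_zero _ ha0
  apply exists_of_model_order 3 _ hdim T hTdet (r * p)
  · refine ⟨a ^ (r * p), ?_⟩
    have h1 : ((a⁻¹) ^ 2) ^ (r * p) = a ^ (r * p) := by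
      have h2 : a ^ (r * p) * (a ^ 2) ^ (r * p) = 1 := by
        rw [← pow_mul, ← pow_add]
        have h3 : r * p + 2 * (r * p) = 3 * r * p := by ring
        rw [h3, pow_mul, har, one_pow]
      rw [inv_pow, inv_pow]
      exact (eq_inv_of_mul_eq_one_left h2).symm
    have h4 : U ^ (r * p) = 1 := by rw [mul_comm, pow_mul, hUp, one_pow]
    rw [hTpow, h1, h4]
    apply LinearMap.ext
    intro x
    simp
  · intro i ε hi
    rw [hTpow] at hi
    have h4 : ((a⁻¹) ^ 2) ^ i = ε := by
      have := congrArg (fun f : Module.End F ((Fin (1 + 1) → F) × F) => (f (0, 1)).2) hi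
      simpa using this
    have h5 : ∀ v : Fin (1 + 1) → F, a ^ i • (U ^ i) v = ε • v := by
      intro v
      have := congrArg (fun f : Module.End F ((Fin (1 + 1) → F) × F) => (f (v, 0)).1) hi
      simpa using this
    have h6 : U ^ i = ((a ^ i)⁻¹ * ε) • (1 : Module.End F (Fin (1 + 1) → F)) := by
      apply LinearMap.ext
      intro v
      rw [LinearMap.smul_apply, Module.End.one_apply, mul_smul, ← h5 v, smul_smul,
        inv_mul_cancel₀ (hai i), one_smul]
    have hUi : U ^ i = 1 := hU1 i _ h6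
    have h7 : a ^ i = ε := by
      have h8 := h5 (Pi.single 0 1)
      rw [hUi, Module.End.one_apply] at h8
      have h9 := congrFun h8 0
      simpa using h9
    have h10 : a ^ (3 * i) = 1 := by
      have h11 : a ^ (3 * i) = a ^ i * (a ^ 2) ^ i := by
        rw [← pow_mul, ← pow_add]
        congr 1
        ring
      rw [h11, h7, ← h4, ← mul_pow, ← mul_pow, inv_mul_cancel₀ ha0, one_pow, one_pow]
    exact Nat.Coprime.mul_dvd_of_dvd_of_dvd ((Nat.coprime_primes hr hp).mpr hrp)
      (haord i h10) (hU2 i hUi)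

end Cfsg.Agent.Helper42.PGraphLM
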