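import Mathlib
import Cfsg.Agent.Helper42.PGraphLM

set_option autoImplicit false

/-!
# Prime graph of `PSL_n(q)`: adjacency of two primes different from the characteristic (helper42)

* `exists_order` : the order of the roots of an irreducible factor of `X^m - 1`;
* `bound2`, `bound2'` : if `T^(r s)` is scalar but neither `T^r` nor `T^s` is, then the dimension
  is at least `e(r, q) + e(s, q)` or at least a common multiple of `e(r, q)` and `e(s, q)`;
* `order_le_of_dvd_card` : a prime divisor `s ≠ p` of `|PSL_n(q)|` has `e(s, q) ≤ n`;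
* `model_one`, `model_two` : elements of `PSL_n(q)` of order `r s`.
-/

namespace Cfsg.Agent.Helper42.PGraphL2

open Polynomial UGroup UModels ProjOrd U3Lemmas L3Lemmas PGraphL PGraphLM

universe u v

section arith

theorem dvd_pow_sub_one_of_order_dvd (r q e : ℕ) (h : orderOf ((q : ℕ) : ZMod r) ∣ e) :
    r ∣ q ^ e - 1 := by
  have h1 : ((q : ℕ) : ZMod r) ^ e = 1 := orderOf_dvd_iff_pow_eq_one.mp h
  by_cases hq : 1 ≤ q ^ e
  · rw [← ZMod.natCast_eq_zero_iff, Nat.cast_sub hq, Nat.cast_pow, h1, Nat.cast_one, sub_self]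
  · have h0 : q ^ e = 0 := by omega
    rw [h0]
    exact dvd_zero r

end arith

section fin

variable {F : Type u} [Field F] [Fintype F]

/-- The order of the roots of an irreducible factor of `X^m - 1`. -/
theorem exists_order (h : F[X]) (hh : Irreducible h) (m : ℕ) (hm : m ≠ 0) (hdvd : h ∣ X ^ m - 1) :
    ∃ o : ℕ, o ∣ Fintype.card F ^ h.natDegree - 1 ∧ ∀ j : ℕ, h ∣ X ^ j - 1 ↔ o ∣ j := by
  classical
  haveI : Fact (Irreducible h) := ⟨hh⟩
  have hdeg : 0 < h.natDegree := hh.natDegree_pos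
  have hfinE : Module.finrank F (AdjoinRoot h) = h.natDegree := finrank_quotient_span_eq_natDegree
  haveI : Module.Finite F (AdjoinRoot h) :=
    Module.finite_of_finrank_pos (by rw [hfinE]; exact hdeg)
  haveI : Finite (AdjoinRoot h) := Module.finite_of_finite F
  have key : ∀ j : ℕ, h ∣ X ^ j - 1 ↔ (AdjoinRoot.root h) ^ j = 1 := by
    intro j
    rw [← AdjoinRoot.mk_eq_zero, map_sub, map_pow, AdjoinRoot.mk_X, map_one, sub_eq_zero]
  have hlam0 : AdjoinRoot.root h ≠ 0 := by
    intro h0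
    have h1 := (key m).mp hdvd
    rw [h0, zero_pow hm] at h1
    exact zero_ne_one h1
  refine ⟨orderOf (AdjoinRoot.root h), ?_, fun j => ?_⟩
  · apply orderOf_dvd_of_pow_eq_one
    have h1 := pow_card_ext (F := F) (AdjoinRoot h) h.natDegree hfinE (AdjoinRoot.root h)
    have h2 : 1 ≤ Fintype.card F ^ h.natDegree := Nat.one_le_pow _ _ Fintype.card_pos
    have h3 : (AdjoinRoot.root h) ^ (Fintype.card F ^ h.natDegree - 1) * AdjoinRoot.root h =
        1 * AdjoinRoot.root h := by
      rw [← pow_succ, Nat.sub_add_cancel h2, h1, one_mul]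
    exact mul_right_cancel₀ hlam0 h3
  · rw [key j, orderOf_dvd_iff_pow_eq_one]

end fin

section bound

variable {F : Type u} [Field F] [Fintype F] {V : Type v} [AddCommGroup V] [Module F V]
  [FiniteDimensional F V]

/-- Endomorphisms of order `r s` whose `r`-th and `s`-th powers are nontrivial. -/
theorem bound2 (r s : ℕ) (hr : r.Prime) (hs : s.Prime) (hrF : (r : F) ≠ 0)
    (hsF : (s : F) ≠ 0) (T : Module.End F V) (hT : T ^ (r * s) = 1) (hTs : T ^ s ≠ 1)
    (hTr : T ^ r ≠ 1) :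
    orderOf ((Fintype.card F : ℕ) : ZMod r) + orderOf ((Fintype.card F : ℕ) : ZMod s) ≤
        Module.finrank F V ∨
      ∃ e : ℕ, 0 < e ∧ e ≤ Module.finrank F V ∧ orderOf ((Fintype.card F : ℕ) : ZMod r) ∣ e ∧
        orderOf ((Fintype.card F : ℕ) : ZMod s) ∣ e := by
  classical
  obtain ⟨q, hq⟩ : ∃ q, q = Fintype.card F := ⟨_, rfl⟩
  rw [← hq]
  have hq1 : 1 ≤ q := by rw [hq]; exact Fintype.card_pos
  obtain ⟨P, hPdef⟩ : ∃ P : F[X], P = X ^ (r * s) - 1 := ⟨_, rfl⟩
  have hrsF : ((r * s : ℕ) : F) ≠ 0 := by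
    rw [Nat.cast_mul]
    exact mul_ne_zero hrF hsF
  have hPsep : P.Separable := by
    have h1 := separable_X_pow_sub_C (1 : F) hrsF one_ne_zero
    rw [map_one] at h1
    rw [hPdef]
    exact h1
  have hPT : aeval T P = 0 := by
    rw [hPdef, map_sub, map_pow, aeval_X, map_one, hT, sub_self]
  have hrs0 : r * s ≠ 0 := Nat.mul_ne_zero hr.ne_zero hs.ne_zero
  have hcomp : ∀ (N : Module.End F V), N ≠ 0 → ∃ f : F[X], Irreducible f ∧ f ∣ P ∧
      ∃ w : V, aeval T f w = 0 ∧ N w ≠ 0 := by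
    intro N hN
    obtain ⟨v, hv⟩ : ∃ v, N v ≠ 0 := by
      by_contra h
      push Not at h
      exact hN (LinearMap.ext h)
    exact exists_factor T N P.natDegree P le_rfl hPsep v (by rw [hPT]; rfl) hv
  obtain ⟨f₁, hf₁, hf₁P, w₁, hw₁, hNw₁⟩ := hcomp (T ^ s - 1) (sub_ne_zero.mpr hTs)
  obtain ⟨f₂, hf₂, hf₂P, w₂, hw₂, hNw₂⟩ := hcomp (T ^ r - 1) (sub_ne_zero.mpr hTr)
  have hnd : ∀ (f : F[X]) (w : V) (j : ℕ), aeval T f w = 0 → (T ^ j - 1) w ≠ 0 →
      ¬ f ∣ (X ^ j - 1 : F[X]) := by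
    intro f w j hw hN hdvd
    obtain ⟨g, hg⟩ := hdvd
    apply hN
    have h1 : aeval T (X ^ j - 1 : F[X]) w = 0 := by
      rw [hg, mul_comm, map_mul, Module.End.mul_apply, hw, map_zero]
    rw [map_sub, map_pow, aeval_X, map_one] at h1
    exact h1
  have hnd₁ := hnd f₁ w₁ s hw₁ hNw₁
  have hnd₂ := hnd f₂ w₂ r hw₂ hNw₂
  obtain ⟨o₁, ho₁q, ho₁⟩ := exists_order f₁ hf₁ (r * s) hrs0 (by rw [← hPdef]; exact hf₁P)
  obtain ⟨o₂, ho₂q, ho₂⟩ := exists_order f₂ hf₂ (r * s) hrs0 (by rw [← hPdef]; exact hf₂P)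
  have ho₁rs : o₁ ∣ r * s := (ho₁ _).mp (by rw [← hPdef]; exact hf₁P)
  have ho₂rs : o₂ ∣ r * s := (ho₂ _).mp (by rw [← hPdef]; exact hf₂P)
  have hro₁ : r ∣ o₁ := by
    by_contra hnot
    have hcop : Nat.Coprime o₁ r := ((Nat.Prime.coprime_iff_not_dvd hr).mpr hnot).symm
    have h1 : o₁ ∣ s := hcop.dvd_of_dvd_mul_left ho₁rs
    exact hnd₁ ((ho₁ s).mpr h1)
  have hso₂ : s ∣ o₂ := by
    by_contra hnot
    have hcop : Nat.Coprime o₂ s := ((Nat.Prime.coprime_iff_not_dvd hs).mpr hnot).symm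
    have h1 : o₂ ∣ r := hcop.dvd_of_dvd_mul_right ho₂rs
    exact hnd₂ ((ho₂ r).mpr h1)
  have hk₁ : orderOf ((q : ℕ) : ZMod r) ∣ f₁.natDegree :=
    order_dvd_of_dvd r q _ hq1 (by rw [hq]; exact hro₁.trans ho₁q)
  have hl₂ : orderOf ((q : ℕ) : ZMod s) ∣ f₂.natDegree :=
    order_dvd_of_dvd s q _ hq1 (by rw [hq]; exact hso₂.trans ho₂q)
  have hdim : ∀ (f : F[X]) (w : V), Irreducible f → aeval T f w = 0 → w ≠ 0 →
      f.natDegree ≤ Module.finrank F (LinearMap.ker (aeval T f)) := by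
    intro f w hf hw hw0
    obtain ⟨hdvd, -⟩ := SpStruct.kmod_sub T f hf (LinearMap.ker (aeval T f))
      (ker_invariant T f T (Commute.refl T)) (fun x hx => LinearMap.mem_ker.mp hx)
    have hpos : 0 < Module.finrank F (LinearMap.ker (aeval T f)) := by
      rw [Module.finrank_pos_iff_exists_ne_zero]
      exact ⟨⟨w, LinearMap.mem_ker.mpr hw⟩, fun h => hw0 (congrArg Subtype.val h)⟩
    exact Nat.le_of_dvd hpos hdvd
  have hw₁0 : w₁ ≠ 0 := by
    intro h
    apply hNw₁
    rw [h, map_zero]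
  have hw₂0 : w₂ ≠ 0 := by
    intro h
    apply hNw₂
    rw [h, map_zero]
  have hd₁ := hdim f₁ w₁ hf₁ hw₁ hw₁0
  have hd₂ := hdim f₂ w₂ hf₂ hw₂ hw₂0
  rcases hf₁.isCoprime_or_dvd f₂ with hcop | hdvd
  · left
    have hdisj := Polynomial.disjoint_ker_aeval_of_isCoprime T hcop
    have h1 := Submodule.finrank_sup_add_finrank_inf_eq (LinearMap.ker (aeval T f₁))
      (LinearMap.ker (aeval T f₂))
    rw [hdisj.eq_bot, finrank_bot, add_zero] at h1
    have h2 := Submodule.finrank_le (LinearMap.ker (aeval T f₁) ⊔ LinearMap.ker (aeval T f₂))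
    have h3 := Nat.le_of_dvd hf₁.natDegree_pos hk₁
    have h4 := Nat.le_of_dvd hf₂.natDegree_pos hl₂
    omega
  · right
    have hdvd' : f₂ ∣ f₁ := hf₁.dvd_symm hf₂ hdvd
    have hso₁ : s ∣ o₁ := by
      by_contra hnot
      have hcop : Nat.Coprime o₁ s := ((Nat.Prime.coprime_iff_not_dvd hs).mpr hnot).symm
      have h1 : o₁ ∣ r := hcop.dvd_of_dvd_mul_right ho₁rs
      exact hnd₂ (hdvd'.trans ((ho₁ r).mpr h1))
    have hl₁ : orderOf ((q : ℕ) : ZMod s) ∣ f₁.natDegree :=
      order_dvd_of_dvd s q _ hq1 (by rw [hq]; exact hso₁.trans ho₁q)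
    exact ⟨f₁.natDegree, hf₁.natDegree_pos, hd₁.trans (Submodule.finrank_le _), hk₁, hl₁⟩

/-- The projective version of `bound2`. -/
theorem bound2' (p : ℕ) [Fact p.Prime] [CharP F p] (r s : ℕ) (hr : r.Prime) (hs : s.Prime)
    (hrp : r ≠ p) (hsp : s ≠ p) (hrq : ¬ r ∣ Fintype.card F - 1)
    (hsq : ¬ s ∣ Fintype.card F - 1) (T : Module.End F V) (c : F) (hc : c ≠ 0)
    (hT : T ^ (r * s) = c • (1 : Module.End F V))
    (hTs : ¬ ∃ c' : F, T ^ s = c' • (1 : Module.End F V))
    (hTr : ¬ ∃ c' : F, T ^ r = c' • (1 : Module.End F V)) :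
    orderOf ((Fintype.card F : ℕ) : ZMod r) + orderOf ((Fintype.card F : ℕ) : ZMod s) ≤
        Module.finrank F V ∨
      ∃ e : ℕ, 0 < e ∧ e ≤ Module.finrank F V ∧ orderOf ((Fintype.card F : ℕ) : ZMod r) ∣ e ∧
        orderOf ((Fintype.card F : ℕ) : ZMod s) ∣ e := by
  classical
  have hp : p.Prime := Fact.out
  have hcard : Nat.card Fˣ = Fintype.card F - 1 := by
    rw [Nat.card_units, Nat.card_eq_fintype_card]
  have hcop : (Nat.card Fˣ).Coprime (r * s) := by
    rw [hcard]
    exact Nat.Coprime.mul_right ((Nat.Prime.coprime_iff_not_dvd hr).mpr hrq).symm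
      ((Nat.Prime.coprime_iff_not_dvd hs).mpr hsq).symm
  obtain ⟨u, hu⟩ := (powCoprime hcop).surjective (Units.mk0 c hc)
  have hu' : (u : F) ^ (r * s) = c := by
    have h1 := congrArg Units.val hu
    simpa using h1
  have hu0 : (u : F) ≠ 0 := u.ne_zero
  obtain ⟨T', hT'⟩ : ∃ T' : Module.End F V, T' = (u : F)⁻¹ • T := ⟨_, rfl⟩
  have hpow : ∀ i : ℕ, T' ^ i = ((u : F) ^ i)⁻¹ • T ^ i := by
    intro i
    rw [hT', _root_.smul_pow, inv_pow]
  have hrF : (r : F) ≠ 0 := by
    intro h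
    rw [CharP.cast_eq_zero_iff F p r] at h
    exact hrp ((Nat.prime_dvd_prime_iff_eq hp hr).mp h).symm
  have hsF : (s : F) ≠ 0 := by
    intro h
    rw [CharP.cast_eq_zero_iff F p s] at h
    exact hsp ((Nat.prime_dvd_prime_iff_eq hp hs).mp h).symm
  have hback : ∀ i : ℕ, T' ^ i = 1 → ∃ c' : F, T ^ i = c' • (1 : Module.End F V) := by
    intro i hi
    refine ⟨(u : F) ^ i, ?_⟩
    rw [hpow] at hi
    rw [← hi, smul_smul, mul_inv_cancel₀ (pow_ne_zero _ hu0), one_smul]
  apply bound2 r s hr hs hrF hsF T'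
  · rw [hpow, hT, hu', smul_smul, inv_mul_cancel₀ hc, one_smul]
  · exact fun h => hTs (hback s h)
  · exact fun h => hTr (hback r h)

end bound

section models

variable {F : Type u} [Field F] [Fintype F]

/-- A prime divisor of `|PSL_n(q)|` different from the characteristic divides some `q^i - 1`
with `i ≤ n`. -/
theorem order_le_of_dvd_card (p : ℕ) [Fact p.Prime] [CharP F p] (n : ℕ) (s : ℕ) (hs : s.Prime)
    (hsp : s ≠ p)
    (hsG : s ∣ Nat.card (Matrix.ProjectiveSpecialLinearGroup (Fin n) F)) :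
    orderOf ((Fintype.card F : ℕ) : ZMod s) ≤ n := by
  classical
  have h1 : Nat.card (Matrix.ProjectiveSpecialLinearGroup (Fin n) F) ∣
      Nat.card (Matrix.SpecialLinearGroup (Fin n) F) := Subgroup.card_quotient_dvd_card _
  have h2 : Nat.card (Matrix.SpecialLinearGroup (Fin n) F) ∣ Nat.card (GL (Fin n) F) :=
    Subgroup.card_dvd_of_injective Matrix.SpecialLinearGroup.toGL
      Matrix.SpecialLinearGroup.toGL_injective
  have h3 := (hsG.trans h1).trans h2
  rw [Matrix.card_GL_field] at h3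
  obtain ⟨i, -, hi⟩ := (Prime.dvd_finsetProd_iff (Nat.Prime.prime hs) _).mp h3
  have hin : (i : ℕ) < n := i.2
  have h4 : Fintype.card F ^ n - Fintype.card F ^ (i : ℕ) =
      Fintype.card F ^ (i : ℕ) * (Fintype.card F ^ (n - i) - 1) := by
    rw [Nat.mul_sub, mul_one, ← pow_add]
    congr 2
    omega
  rw [h4] at hi
  rcases (Nat.Prime.dvd_mul hs).mp hi with h5 | h5
  · exfalso
    have h6 := hs.dvd_of_dvd_pow h5
    obtain ⟨a, -, ha⟩ := FiniteField.card F p
    rw [ha] at h6
    have h7 := hs.dvd_of_dvd_pow h6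
    exact hsp ((Nat.prime_dvd_prime_iff_eq hs Fact.out).mp h7)
  · have h6 := order_dvd_of_dvd s (Fintype.card F) _ Fintype.card_pos h5
    have h7 := Nat.le_of_dvd (by omega) h6
    omega

/-- An element of order `m` and norm one in the extension of degree `k`. -/
theorem exists_elt_ext' (p : ℕ) [Fact p.Prime] [CharP F p] (k : ℕ) [NeZero k] (m : ℕ)
    (hmk : m ∣ Fintype.card F ^ k - 1) (hcop : Nat.Coprime m (Fintype.card F - 1)) :
    ∃ z : FiniteField.Extension F p k, z ^ m = 1 ∧ Algebra.norm F z = 1 ∧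
      ∀ (i : ℕ) (ε : F), z ^ i = algebraMap F (FiniteField.Extension F p k) ε → m ∣ i := by
  obtain ⟨κ, hκ0, hκ1, hκord⟩ := L3Lower.exists_gen_ext (F := F) p k
  obtain ⟨e, he⟩ := hmk
  have hq2 : 2 ≤ Fintype.card F := Fintype.one_lt_card
  have hqk : 0 < Fintype.card F ^ k - 1 := by
    have hk : 1 ≤ k := Nat.pos_of_ne_zero (NeZero.ne k)
    have h1 : Fintype.card F ^ 1 ≤ Fintype.card F ^ k := Nat.pow_le_pow_right (by omega) hk
    rw [pow_one] at h1
    omega
  have he0 : 0 < e := by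
    rcases Nat.eq_zero_or_pos e with h | h
    · rw [h, mul_zero] at he
      omega
    · exact h
  obtain ⟨z, hz⟩ : ∃ z : FiniteField.Extension F p k, z = κ ^ e := ⟨_, rfl⟩
  have hzr : z ^ m = 1 := by rw [hz, ← pow_mul, mul_comm, ← he, hκ1]
  have hz0 : z ≠ 0 := by rw [hz]; exact pow_ne_zero _ hκ0
  have hzord : ∀ i : ℕ, z ^ i = 1 → m ∣ i := by
    intro i hi
    rw [hz, ← pow_mul] at hi
    have h1 := hκord _ hi
    rw [he, mul_comm m e] at h1
    exact Nat.dvd_of_mul_dvd_mul_left he0 h1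
  refine ⟨z, hzr, ?_, fun i ε hi => ?_⟩
  · have hn0 : Algebra.norm F z ≠ 0 := Algebra.norm_ne_zero_iff.mpr hz0
    have h1 : Algebra.norm F z ^ m = 1 := by rw [← map_pow, hzr, map_one]
    have h2 : Algebra.norm F z ^ (Fintype.card F - 1) = 1 :=
      FiniteField.pow_card_sub_one_eq_one _ hn0
    have h3 : Algebra.norm F z ^ Nat.gcd m (Fintype.card F - 1) = 1 := pow_gcd_eq_one.mpr ⟨h1, h2⟩
    rw [hcop.gcd_eq_one, pow_one] at h3
    exact h3
  · have hε0 : ε ≠ 0 := by
      rintro rfl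
      rw [map_zero] at hi
      exact pow_ne_zero i hz0 hi
    have h1 : z ^ (i * (Fintype.card F - 1)) = 1 := by
      rw [pow_mul, hi, ← map_pow, FiniteField.pow_card_sub_one_eq_one ε hε0, map_one]
    have h2 := hzord _ h1
    exact (Nat.Coprime.dvd_mul_right hcop).mp h2

/-- A Singer-type element of order `m` in a block of size `l`. -/
theorem model_one (p : ℕ) [Fact p.Prime] [CharP F p] (n l m : ℕ) [NeZero l]
    (hml : m ∣ Fintype.card F ^ l - 1) (hcop : Nat.Coprime m (Fintype.card F - 1)) (hn : l ≤ n) :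
    ∃ x : Matrix.ProjectiveSpecialLinearGroup (Fin n) F, orderOf x = m := by
  classical
  obtain ⟨z, hzr, hznorm, hzord⟩ := exists_elt_ext' p l m hml hcop
  obtain ⟨d, hd⟩ := Nat.exists_eq_add_of_le hn
  obtain ⟨T, hTdef⟩ : ∃ T : Module.End F (FiniteField.Extension F p l × (Fin d → F)),
      T = (LinearMap.mul F (FiniteField.Extension F p l) z).prodMap 1 := ⟨_, rfl⟩
  have hdk : LinearMap.det (LinearMap.mul F (FiniteField.Extension F p l) z) =
      Algebra.norm F z := by
    rw [Algebra.norm_apply]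
    rfl
  have hTdet : LinearMap.det T = 1 := by
    rw [hTdef, LinearMap.det_prodMap, hdk, hznorm, map_one, mul_one]
  have hTpow : ∀ i : ℕ, T ^ i =
      (LinearMap.mul F (FiniteField.Extension F p l) (z ^ i)).prodMap 1 := by
    intro i
    rw [hTdef, SpModels.prodMap_pow', mul_pow_eq, one_pow]
  have hdim : Module.finrank F (FiniteField.Extension F p l × (Fin d → F)) = n := by
    rw [Module.finrank_prod, FiniteField.finrank_extension, Module.finrank_fin_fun, hd]
  apply exists_of_model_order n _ hdim T hTdet m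
  · refine ⟨1, ?_⟩
    rw [hTpow, hzr, one_smul]
    apply LinearMap.ext
    intro x
    simp
  · intro i ε hi
    rw [hTpow] at hi
    have h5 : z ^ i = algebraMap F (FiniteField.Extension F p l) ε := by
      have := congrArg (fun f : Module.End F
        (FiniteField.Extension F p l × (Fin d → F)) => (f (1, 0)).1) hi
      simpa [Algebra.algebraMap_eq_smul_one] using this
    exact hzord i ε h5

/-- Two blocks, of sizes `k` and `l`. -/
theorem model_two (p : ℕ) [Fact p.Prime] [CharP F p] (n k l r s : ℕ) [NeZero k] [NeZero l]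
    (hr : r.Prime) (hs : s.Prime) (hrs : r ≠ s) (hrk : r ∣ Fintype.card F ^ k - 1)
    (hsl : s ∣ Fintype.card F ^ l - 1) (hrq : ¬ r ∣ Fintype.card F - 1)
    (hsq : ¬ s ∣ Fintype.card F - 1) (hn : k + l ≤ n) :
    ∃ x : Matrix.ProjectiveSpecialLinearGroup (Fin n) F, orderOf x = r * s := by
  classical
  obtain ⟨z, hzr, hznorm, hzord⟩ := exists_elt_ext' p k r hrk
    ((Nat.Prime.coprime_iff_not_dvd hr).mpr hrq)
  obtain ⟨y, hys, hynorm, hyord⟩ := exists_elt_ext' p l s hsl
    ((Nat.Prime.coprime_iff_not_dvd hs).mpr hsq)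
  obtain ⟨d, hd⟩ := Nat.exists_eq_add_of_le hn
  obtain ⟨T, hTdef⟩ : ∃ T : Module.End F
      ((FiniteField.Extension F p k × FiniteField.Extension F p l) × (Fin d → F)),
      T = ((LinearMap.mul F (FiniteField.Extension F p k) z).prodMap
        (LinearMap.mul F (FiniteField.Extension F p l) y)).prodMap 1 := ⟨_, rfl⟩
  have hdk : LinearMap.det (LinearMap.mul F (FiniteField.Extension F p k) z) =
      Algebra.norm F z := by
    rw [Algebra.norm_apply]
    rfl
  have hdl : LinearMap.det (LinearMap.mul F (FiniteField.Extension F p l) y) =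
      Algebra.norm F y := by
    rw [Algebra.norm_apply]
    rfl
  have hTdet : LinearMap.det T = 1 := by
    rw [hTdef, LinearMap.det_prodMap, LinearMap.det_prodMap, hdk, hdl, hznorm, hynorm, map_one,
      mul_one, mul_one]
  have hTpow : ∀ i : ℕ, T ^ i =
      ((LinearMap.mul F (FiniteField.Extension F p k) (z ^ i)).prodMap
        (LinearMap.mul F (FiniteField.Extension F p l) (y ^ i))).prodMap 1 := by
    intro i
    rw [hTdef, SpModels.prodMap_pow', SpModels.prodMap_pow', mul_pow_eq, mul_pow_eq, one_pow]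
  have hdim : Module.finrank F
      ((FiniteField.Extension F p k × FiniteField.Extension F p l) × (Fin d → F)) = n := by
    rw [Module.finrank_prod, Module.finrank_prod, FiniteField.finrank_extension,
      FiniteField.finrank_extension, Module.finrank_fin_fun, hd]
  apply exists_of_model_order n _ hdim T hTdet (r * s)
  · refine ⟨1, ?_⟩
    rw [hTpow, pow_mul, hzr, one_pow, mul_comm, pow_mul, hys, one_pow, one_smul]
    apply LinearMap.ext
    intro x
    simp
  · intro i ε hi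
    rw [hTpow] at hi
    have h5 : z ^ i = algebraMap F (FiniteField.Extension F p k) ε := by
      have := congrArg (fun f : Module.End F
        ((FiniteField.Extension F p k × FiniteField.Extension F p l) × (Fin d → F)) =>
          (f ((1, 0), 0)).1.1) hi
      simpa [Algebra.algebraMap_eq_smul_one] using this
    have h6 : y ^ i = algebraMap F (FiniteField.Extension F p l) ε := by
      have := congrArg (fun f : Module.End F
        ((FiniteField.Extension F p k × FiniteField.Extension F p l) × (Fin d → F)) =>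
          (f ((0, 1), 0)).1.2) hi
      simpa [Algebra.algebraMap_eq_smul_one] using this
    exact Nat.Coprime.mul_dvd_of_dvd_of_dvd ((Nat.coprime_primes hr hs).mpr hrs)
      (hzord i ε h5) (hyord i ε h6)

end models

end Cfsg.Agent.Helper42.PGraphL2
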