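import Mathlib
import Cfsg.Agent.Helper42.PGraphL2
import Cfsg.Agent.Helper42.Singer
import Cfsg.Agent.S2904

set_option autoImplicit false

/-!
# Elements of order `q^m + 1` in `PSL_{2m}(q)` (helper42)

`PSL_{2m}(q)`, `q` odd, has an element of order `q^m + 1` iff the `2`-part of `2m` exceeds the
`2`-part of `q - 1`.
-/

namespace Cfsg.Agent.Helper42.OrdQm

open Polynomial UGroup UModels ProjOrd U3Lemmas L3Lemmas PGraphL PGraphLM

universe u v

section arith

/-- `(q^m - 1)/(q - 1) ≡ m` modulo `q - 1`. -/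
theorem geom_modEq (q m : ℕ) (hq : 2 ≤ q) : (q ^ m - 1) / (q - 1) ≡ m [MOD q - 1] := by
  rw [← Nat.geomSum_eq hq m]
  induction m with
  | zero => simp [Nat.ModEq]
  | succ k ih =>
    rw [Finset.sum_range_succ]
    have h1 : q ≡ 1 [MOD q - 1] :=
      ((Nat.modEq_iff_dvd' (by omega : 1 ≤ q)).mpr (dvd_refl _)).symm
    have h2 : q ^ k ≡ 1 [MOD q - 1] := by simpa using h1.pow k
    exact ih.add h2

theorem geom_mul (q m : ℕ) (hq : 2 ≤ q) : (q - 1) * ((q ^ m - 1) / (q - 1)) = q ^ m - 1 := by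
  apply Nat.mul_div_cancel'
  simpa only [one_pow] using Nat.sub_dvd_pow_sub_pow q 1 m

theorem fac (q m : ℕ) (hq : 2 ≤ q) :
    q ^ (2 * m) - 1 = (q - 1) * ((q ^ m - 1) / (q - 1)) * (q ^ m + 1) := by
  rw [geom_mul q m hq, pow_mul']
  obtain ⟨B, hB⟩ : ∃ B, q ^ m = B + 1 := ⟨q ^ m - 1, by
    have : 1 ≤ q ^ m := Nat.one_le_pow _ _ (by omega)
    omega⟩
  rw [hB]
  have : (B + 1) ^ 2 = B * (B + 1 + 1) + 1 := by ring
  rw [this]
  simp

theorem div_eq (q m : ℕ) (hq : 2 ≤ q) :
    (q ^ (2 * m) - 1) / (q - 1) = ((q ^ m - 1) / (q - 1)) * (q ^ m + 1) := by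
  rw [fac q m hq, mul_assoc]
  exact Nat.mul_div_cancel_left _ (by omega)

end arith

variable {F : Type u} [Field F] [Fintype F]

/-- The element of the Singer cycle of `F_{q^{2m}}` with the right order modulo scalars. -/
theorem exists_elt (p : ℕ) [Fact p.Prime] [CharP F p] (m : ℕ) [NeZero (2 * m)] (hm : 1 ≤ m)
    (hodd : Odd (Fintype.card F))
    (hval : padicValNat 2 (Fintype.card F - 1) < padicValNat 2 (2 * m)) :
    ∃ z : FiniteField.Extension F p (2 * m), Algebra.norm F z = 1 ∧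
      (∃ ε : F, z ^ (Fintype.card F ^ m + 1) = algebraMap F (FiniteField.Extension F p (2 * m)) ε) ∧
      ∀ (i : ℕ) (ε : F), z ^ i = algebraMap F (FiniteField.Extension F p (2 * m)) ε →
        (Fintype.card F ^ m + 1) ∣ i := by
  obtain ⟨κ, hκ0, hκ1, hκord⟩ := L3Lower.exists_gen_ext (F := F) p (2 * m)
  obtain ⟨q, hq⟩ : ∃ q, q = Fintype.card F := ⟨_, rfl⟩
  rw [← hq] at hodd hval hκ1 hκord ⊢
  have hq1 : 1 < q := hq ▸ Fintype.one_lt_card
  have hq3 : 3 ≤ q := by
    rcases hodd with ⟨c, hc⟩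
    omega
  have hq2 : 2 ≤ q := by omega
  obtain ⟨t, ht⟩ : ∃ t, t = (q ^ m - 1) / (q - 1) := ⟨_, rfl⟩
  obtain ⟨N, hN⟩ : ∃ N, N = q ^ m + 1 := ⟨_, rfl⟩
  obtain ⟨g0, hg0⟩ : ∃ g0, g0 = Nat.gcd (q - 1) m := ⟨_, rfl⟩
  obtain ⟨a, ha⟩ : ∃ a, a = (q - 1) / g0 := ⟨_, rfl⟩
  have hfac : q ^ (2 * m) - 1 = (q - 1) * t * N := by rw [ht, hN]; exact fac q m hq2
  have hdiv : (q ^ (2 * m) - 1) / (q - 1) = t * N := by rw [ht, hN]; exact div_eq q m hq2
  have htm : t ≡ m [MOD q - 1] := by rw [ht]; exact geom_modEq q m hq2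
  have htmul : (q - 1) * t = q ^ m - 1 := by rw [ht]; exact geom_mul q m hq2
  have hqm1 : 1 ≤ q ^ m := Nat.one_le_pow _ _ (by omega)
  have ht0 : 0 < t := by
    rcases Nat.eq_zero_or_pos t with h | h
    · rw [h, mul_zero] at htmul
      have : q ^ 1 ≤ q ^ m := Nat.pow_le_pow_right (by omega) hm
      rw [pow_one] at this
      omega
    · exact h
  have hg0q : g0 ∣ q - 1 := by rw [hg0]; exact Nat.gcd_dvd_left _ _
  have hg0m : g0 ∣ m := by rw [hg0]; exact Nat.gcd_dvd_right _ _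
  have hag : a * g0 = q - 1 := by rw [ha]; exact Nat.div_mul_cancel hg0q
  have haq : a ∣ q - 1 := ⟨g0, hag.symm⟩
  -- `q - 1` divides `a * t`
  have hat : q - 1 ∣ a * t := by
    have h1 : a * t ≡ a * m [MOD q - 1] := htm.mul_left a
    rw [h1.dvd_iff (dvd_refl _)]
    obtain ⟨c, hc⟩ := hg0m
    refine ⟨c, ?_⟩
    rw [hc, ← hag]
    ring
  -- `a` is odd
  have haodd : ¬ 2 ∣ a := by
    intro h2
    obtain ⟨e, he⟩ : ∃ e, e = padicValNat 2 (q - 1) := ⟨_, rfl⟩
    rw [← he] at hval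
    have h3 : 2 ^ e ∣ q - 1 := by rw [he]; exact pow_padicValNat_dvd
    have h4 : 2 ^ (e + 1) ∣ 2 * m :=
      (padicValNat_dvd_iff_le (by omega)).mpr hval
    have h5 : 2 ^ e ∣ m := by
      rw [pow_succ, mul_comm] at h4
      exact Nat.dvd_of_mul_dvd_mul_left (by norm_num) h4
    have h6 : 2 ^ e ∣ g0 := by rw [hg0]; exact Nat.dvd_gcd h3 h5
    have h7 : 2 ^ (e + 1) ∣ q - 1 := by
      rw [← hag, pow_succ, mul_comm]
      exact Nat.mul_dvd_mul h2 h6
    have h8 := (padicValNat_dvd_iff_le (p := 2) (by omega : q - 1 ≠ 0)).mp h7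
    omega
  have hcopNa : Nat.Coprime N a := by
    apply Nat.coprime_of_dvd
    intro l hl hlN hla
    have h1 : l ∣ q - 1 := hla.trans haq
    have h2 : l ∣ q ^ m - 1 := by
      rw [← htmul]
      exact h1.mul_right t
    have h3 : l ∣ 2 := by
      have h4 : N = (q ^ m - 1) + 2 := by omega
      rw [h4] at hlN
      exact (Nat.dvd_add_right h2).mp hlN
    have h5 : l = 2 := (Nat.prime_dvd_prime_iff_eq hl Nat.prime_two).mp h3
    rw [h5] at hla
    exact haodd hla
  obtain ⟨z, hz⟩ : ∃ z : FiniteField.Extension F p (2 * m), z = κ ^ (t * a) := ⟨_, rfl⟩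
  have hz0 : z ≠ 0 := by rw [hz]; exact pow_ne_zero _ hκ0
  have hnormpow : ∀ x : FiniteField.Extension F p (2 * m),
      algebraMap F (FiniteField.Extension F p (2 * m)) (Algebra.norm F x) = x ^ (t * N) := by
    intro x
    rw [FiniteField.algebraMap_norm_eq_pow, FiniteField.natCard_extension,
      Nat.card_eq_fintype_card, ← hq, hdiv]
  refine ⟨z, ?_, ⟨Algebra.norm F κ ^ a, ?_⟩, fun i ε hi => ?_⟩
  · apply (algebraMap F (FiniteField.Extension F p (2 * m))).injective
    rw [hnormpow, map_one, hz, ← pow_mul]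
    obtain ⟨c, hc⟩ := hat
    have h1 : t * a * (t * N) = (q ^ (2 * m) - 1) * c := by
      rw [hfac]
      calc t * a * (t * N) = (a * t) * (t * N) := by ring
        _ = (q - 1) * c * (t * N) := by rw [hc]
        _ = (q - 1) * t * N * c := by ring
    rw [h1, pow_mul, hκ1, one_pow]
  · rw [map_pow, hnormpow, hz, hN, ← pow_mul, ← pow_mul]
    congr 1
    ring
  · have hε0 : ε ≠ 0 := by
      rintro rfl
      rw [map_zero] at hi
      exact pow_ne_zero i hz0 hi
    have h1 : z ^ (i * (q - 1)) = 1 := by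
      rw [pow_mul, hi, ← map_pow, hq, FiniteField.pow_card_sub_one_eq_one ε hε0, map_one]
    rw [hz, ← pow_mul] at h1
    have h2 := hκord _ h1
    rw [hfac] at h2
    have h3 : t * a * (i * (q - 1)) = (q - 1) * t * (a * i) := by ring
    rw [h3] at h2
    have h4 : N ∣ a * i := Nat.dvd_of_mul_dvd_mul_left (Nat.mul_pos (by omega) ht0) h2
    rw [← hN]
    exact hcopNa.dvd_of_dvd_mul_left h4

/-- Existence of an element of order `q^m + 1`. -/
theorem exists_order (m : ℕ) (hm : 1 ≤ m) (hodd : Odd (Fintype.card F))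
    (hval : padicValNat 2 (Fintype.card F - 1) < padicValNat 2 (2 * m)) :
    ∃ x : Matrix.ProjectiveSpecialLinearGroup (Fin (2 * m)) F,
      orderOf x = Fintype.card F ^ m + 1 := by
  classical
  obtain ⟨p, hchar⟩ := CharP.exists F
  haveI := hchar
  haveI : Fact p.Prime := ⟨CharP.char_is_prime F p⟩
  haveI : NeZero (2 * m) := ⟨by omega⟩
  obtain ⟨z, hznorm, ⟨ε, hzN⟩, hzmin⟩ := exists_elt (F := F) p m hm hodd hval
  obtain ⟨T, hTdef⟩ : ∃ T : Module.End F (FiniteField.Extension F p (2 * m)),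
      T = LinearMap.mul F (FiniteField.Extension F p (2 * m)) z := ⟨_, rfl⟩
  have hTdet : LinearMap.det T = 1 := by
    rw [hTdef, ← hznorm, Algebra.norm_apply]
    rfl
  have hTpow : ∀ i : ℕ, T ^ i = LinearMap.mul F (FiniteField.Extension F p (2 * m)) (z ^ i) := by
    intro i
    rw [hTdef, mul_pow_eq]
  apply exists_of_model_order (2 * m) _ (FiniteField.finrank_extension F p (2 * m)) T hTdet
  · refine ⟨ε, ?_⟩
    rw [hTpow, hzN]
    apply LinearMap.ext
    intro x
    simp [Algebra.smul_def]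
  · intro i ε' hi
    rw [hTpow] at hi
    have h5 : z ^ i = algebraMap F (FiniteField.Extension F p (2 * m)) ε' := by
      have := congrArg (fun f : Module.End F (FiniteField.Extension F p (2 * m)) => f 1) hi
      simpa [Algebra.algebraMap_eq_smul_one] using this
    exact hzmin i ε' h5

/-- An irreducible `f` killing a nonzero vector divides every polynomial killing it. -/
theorem dvd_of_kill {V : Type v} [AddCommGroup V] [Module F V] (T : Module.End F V) (f : F[X])
    (hf : Irreducible f) (w : V) (hw0 : w ≠ 0) (hw : aeval T f w = 0) (Q : F[X])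
    (hQ : aeval T Q w = 0) : f ∣ Q := by
  rcases hf.isCoprime_or_dvd Q with hcop | hd
  · exfalso
    obtain ⟨u, v', huv⟩ := hcop
    have h1 := congrArg (fun R : F[X] => aeval T R w) huv
    simp only [map_add, map_mul, map_one, LinearMap.add_apply, Module.End.mul_apply,
      Module.End.one_apply] at h1
    rw [hw, hQ, map_zero, map_zero, add_zero] at h1
    exact hw0 h1.symm
  · exact hd

/-- Non-existence of an element of order `q^m + 1`. -/
theorem no_elt (m : ℕ) (hm : 2 ≤ m) (hodd : Odd (Fintype.card F))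
    (hval : padicValNat 2 (2 * m) ≤ padicValNat 2 (Fintype.card F - 1))
    (g : Matrix.SpecialLinearGroup (Fin (2 * m)) F)
    (hg : orderOf (QuotientGroup.mk g : Matrix.ProjectiveSpecialLinearGroup (Fin (2 * m)) F) =
      Fintype.card F ^ m + 1) : False := by
  classical
  obtain ⟨p, hchar⟩ := CharP.exists F
  haveI := hchar
  haveI : Fact p.Prime := ⟨CharP.char_is_prime F p⟩
  haveI : NeZero (2 * m) := ⟨by omega⟩
  have hp : p.Prime := Fact.out
  obtain ⟨q, hq⟩ : ∃ q, q = Fintype.card F := ⟨_, rfl⟩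
  rw [← hq] at hodd hval hg
  have hq1 : 1 < q := hq ▸ Fintype.one_lt_card
  have hq3 : 3 ≤ q := by
    rcases hodd with ⟨c, hc⟩
    omega
  have hq2 : 2 ≤ q := by omega
  have hpq : p ∣ q := by
    obtain ⟨f, -, hf⟩ := FiniteField.card F p
    rw [hq, hf]
    exact dvd_pow_self p f.ne_zero
  obtain ⟨N, hN⟩ : ∃ N, N = q ^ m + 1 := ⟨_, rfl⟩
  obtain ⟨t, ht⟩ : ∃ t, t = (q ^ m - 1) / (q - 1) := ⟨_, rfl⟩
  have hfac : q ^ (2 * m) - 1 = (q - 1) * t * N := by rw [ht, hN]; exact fac q m hq2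
  have hdiv : (q ^ (2 * m) - 1) / (q - 1) = t * N := by rw [ht, hN]; exact div_eq q m hq2
  have htm : t ≡ m [MOD q - 1] := by rw [ht]; exact geom_modEq q m hq2
  have htmul : (q - 1) * t = q ^ m - 1 := by rw [ht]; exact geom_mul q m hq2
  have hqm1 : 1 ≤ q ^ m := Nat.one_le_pow _ _ (by omega)
  obtain ⟨T, hT⟩ : ∃ T : Module.End F (Fin (2 * m) → F), T = toEnd g := ⟨_, rfl⟩
  obtain ⟨lam, hlam⟩ : ∃ lam : F, T ^ N = lam • (1 : Module.End F (Fin (2 * m) → F)) := by
    have h1 := pow_orderOf_eq_one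
      (QuotientGroup.mk g : Matrix.ProjectiveSpecialLinearGroup (Fin (2 * m)) F)
    rw [hg, ← hN, ProjOrd.mk_pow_eq_one_iff] at h1
    rw [hT]
    exact h1
  have hmin : ∀ (i : ℕ) (c : F), T ^ i = c • (1 : Module.End F (Fin (2 * m) → F)) → N ∣ i := by
    intro i c hi
    rw [hN, ← hg]
    apply orderOf_dvd_of_pow_eq_one
    rw [ProjOrd.mk_pow_eq_one_iff]
    exact ⟨c, by rw [← hT]; exact hi⟩
  have hdet : LinearMap.det T = 1 := by rw [hT]; exact det_toEnd g
  have hlam0 : lam ≠ 0 := by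
    intro h
    rw [h, zero_smul] at hlam
    have h1 := congrArg LinearMap.det hlam
    rw [map_pow, hdet, one_pow, LinearMap.det_zero, Module.finrank_fin_fun,
      zero_pow (by omega)] at h1
    exact one_ne_zero h1
  have hlamq : lam ^ (q - 1) = 1 := by rw [hq]; exact FiniteField.pow_card_sub_one_eq_one lam hlam0
  -- the Zsigmondy prime
  obtain ⟨r, hr, hrdvd, hrprim⟩ := Cfsg.Agent.S2904.result q (2 * m) hq1 (by omega)
    (by
      rintro ⟨h2, -⟩
      rcases hodd with ⟨c, hc⟩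
      omega)
    (by
      rintro ⟨h2, -⟩
      omega)
  have hrN : r ∣ N := by
    rw [hfac, htmul] at hrdvd
    rcases (Nat.Prime.dvd_mul hr).mp hrdvd with h | h
    · exact absurd h (hrprim m (by omega) (by omega))
    · exact h
  have hrq : ¬ r ∣ q - 1 := by
    have := hrprim 1 (by omega) (by omega)
    rwa [pow_one] at this
  have hcopr : Nat.Coprime r (q - 1) := (Nat.Prime.coprime_iff_not_dvd hr).mpr hrq
  obtain ⟨N', hN'⟩ := hrN
  have hN'0 : 0 < N' := by
    rcases Nat.eq_zero_or_pos N' with h | h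
    · rw [h, mul_zero] at hN'
      omega
    · exact h
  have hTN' : ¬ ∃ c : F, T ^ N' = c • (1 : Module.End F (Fin (2 * m) → F)) := by
    rintro ⟨c, hc⟩
    have h1 := hmin N' c hc
    have h2 := Nat.le_of_dvd hN'0 h1
    have h3 : 2 * N' ≤ r * N' := Nat.mul_le_mul_right _ hr.two_le
    omega
  -- an `r`-th root of `lam`
  obtain ⟨s, -, hs⟩ := Nat.exists_mul_mod_eq_one_of_coprime hcopr (by omega : 1 < q - 1)
  have hrs : r * s = (q - 1) * (r * s / (q - 1)) + 1 := by
    have := Nat.div_add_mod (r * s) (q - 1)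
    rw [hs] at this
    exact this.symm
  obtain ⟨a, ha⟩ : ∃ a : F, a = lam ^ s := ⟨_, rfl⟩
  have har : a ^ r = lam := by
    rw [ha, ← pow_mul, mul_comm s r, hrs, pow_succ, pow_mul, hlamq, one_pow, one_mul]
  have ha0 : a ≠ 0 := by rw [ha]; exact pow_ne_zero _ hlam0
  have haq : a ^ (q - 1) = 1 := by rw [hq]; exact FiniteField.pow_card_sub_one_eq_one a ha0
  obtain ⟨B, hB⟩ : ∃ B : Module.End F (Fin (2 * m) → F),
      B = T ^ N' - a • (1 : Module.End F (Fin (2 * m) → F)) := ⟨_, rfl⟩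
  have hB0 : B ≠ 0 := by
    intro h
    apply hTN'
    refine ⟨a, ?_⟩
    rw [hB] at h
    exact sub_eq_zero.mp h
  obtain ⟨v, hv⟩ : ∃ v, B v ≠ 0 := by
    by_contra h
    push Not at h
    exact hB0 (LinearMap.ext h)
  obtain ⟨M, hM⟩ : ∃ M, M = N * (q - 1) := ⟨_, rfl⟩
  have hMF : (M : F) ≠ 0 := by
    intro h
    rw [CharP.cast_eq_zero_iff F p M, hM] at h
    rcases (Nat.Prime.dvd_mul hp).mp h with h1 | h1
    · have h2 : p ∣ q ^ m := dvd_pow hpq (by omega)
      rw [hN] at h1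
      have h3 := (Nat.dvd_add_right h2).mp h1
      exact hp.one_lt.ne' (Nat.dvd_one.mp h3)
    · have h2 : q = (q - 1) + 1 := by omega
      rw [h2] at hpq
      have h3 := (Nat.dvd_add_right h1).mp hpq
      exact hp.one_lt.ne' (Nat.dvd_one.mp h3)
  obtain ⟨P, hPdef⟩ : ∃ P : F[X], P = X ^ M - C (1 : F) := ⟨_, rfl⟩
  have hPsep : P.Separable := by rw [hPdef]; exact separable_X_pow_sub_C (1 : F) hMF one_ne_zero
  have hPT : aeval T P = 0 := by
    rw [hPdef, map_sub, map_pow, aeval_X, aeval_C, hM, pow_mul, hlam, _root_.smul_pow, one_pow,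
      hlamq, one_smul, map_one, sub_self]
  obtain ⟨f, hf, hfP, w, hw, hBw⟩ := exists_factor T B P.natDegree P le_rfl hPsep v
    (by rw [hPT]; rfl) hv
  have hw0 : w ≠ 0 := by
    intro h
    apply hBw
    rw [h, map_zero]
  have hkill := dvd_of_kill T f hf w hw0 hw
  have hfN : f ∣ X ^ N - C lam := by
    apply hkill
    rw [map_sub, map_pow, aeval_X, aeval_C, hlam, Algebra.algebraMap_eq_smul_one, sub_self]
    rfl
  have hfmin : f ∣ minpoly F T := by
    apply hkill
    rw [minpoly.aeval]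
    rfl
  have hdegpos : 0 < f.natDegree := hf.natDegree_pos
  -- the degree of `f`
  have hdeg : 2 * m ≤ f.natDegree := by
    by_contra hlt
    push Not at hlt
    apply hBw
    haveI : Fact (Irreducible f) := ⟨hf⟩
    have hfinE : Module.finrank F (AdjoinRoot f) = f.natDegree :=
      finrank_quotient_span_eq_natDegree
    haveI : Module.Finite F (AdjoinRoot f) :=
      Module.finite_of_finrank_pos (by rw [hfinE]; omega)
    haveI : Finite (AdjoinRoot f) := Module.finite_of_finite F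
    obtain ⟨α, hα⟩ : ∃ α : AdjoinRoot f, α = AdjoinRoot.root f := ⟨_, rfl⟩
    have hroot : α ^ N = algebraMap F (AdjoinRoot f) lam := by
      have h0 : aeval (AdjoinRoot.root f) (X ^ N - C lam) = 0 := by
        rw [AdjoinRoot.aeval_eq]
        exact AdjoinRoot.mk_eq_zero.mpr hfN
      rw [map_sub, map_pow, aeval_X, aeval_C] at h0
      rw [hα]
      exact sub_eq_zero.mp h0
    have hα0 : α ≠ 0 := by
      intro h
      rw [h, zero_pow (by omega)] at hroot
      exact hlam0 ((algebraMap F (AdjoinRoot f)).injective (by rw [← hroot, map_zero]))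
    have hfer : ∀ x : AdjoinRoot f, x ≠ 0 → x ^ (q ^ f.natDegree - 1) = 1 := by
      intro x hx0
      have h1 := pow_card_ext (F := F) (AdjoinRoot f) f.natDegree hfinE x
      rw [← hq] at h1
      have h2 : 1 ≤ q ^ f.natDegree := Nat.one_le_pow _ _ (by omega)
      have h3 : x ^ (q ^ f.natDegree - 1) * x = 1 * x := by
        rw [← pow_succ, Nat.sub_add_cancel h2, h1, one_mul]
      exact mul_right_cancel₀ hx0 h3
    obtain ⟨a', ha'⟩ : ∃ a' : AdjoinRoot f, a' = algebraMap F (AdjoinRoot f) a := ⟨_, rfl⟩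
    have ha'0 : a' ≠ 0 := by
      rw [ha']
      intro h
      exact ha0 ((algebraMap F (AdjoinRoot f)).injective (by rw [h, map_zero]))
    obtain ⟨γ, hγ⟩ : ∃ γ : AdjoinRoot f, γ = α ^ N' * a'⁻¹ := ⟨_, rfl⟩
    have hγ0 : γ ≠ 0 := by
      rw [hγ]
      exact mul_ne_zero (pow_ne_zero _ hα0) (inv_ne_zero ha'0)
    have hγr : γ ^ r = 1 := by
      rw [hγ, mul_pow, ← pow_mul, mul_comm N' r, ← hN', hroot, inv_pow, ha', ← map_pow, har]
      exact mul_inv_cancel₀ (by
        intro h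
        exact hlam0 ((algebraMap F (AdjoinRoot f)).injective (by rw [h, map_zero])))
    have hγq : γ ^ (q ^ f.natDegree - 1) = 1 := hfer γ hγ0
    have hcop2 : Nat.Coprime r (q ^ f.natDegree - 1) :=
      (Nat.Prime.coprime_iff_not_dvd hr).mpr (hrprim f.natDegree hdegpos hlt)
    have hγ1 : γ = 1 := by
      have h3 : γ ^ Nat.gcd r (q ^ f.natDegree - 1) = 1 := pow_gcd_eq_one.mpr ⟨hγr, hγq⟩
      rw [hcop2.gcd_eq_one, pow_one] at h3
      exact h3
    have hαN' : α ^ N' = a' := by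
      rw [hγ] at hγ1
      have h4 := congrArg (fun x => x * a') hγ1
      simp only [one_mul] at h4
      rw [mul_assoc, inv_mul_cancel₀ ha'0, mul_one] at h4
      exact h4
    have hfN' : f ∣ X ^ N' - C a := by
      apply AdjoinRoot.mk_eq_zero.mp
      rw [map_sub, map_pow, AdjoinRoot.mk_X, AdjoinRoot.mk_C, ← hα, hαN', ha']
      exact sub_self _
    obtain ⟨Q, hQ⟩ := hfN'
    have h5 : B w = aeval T (X ^ N' - C a) w := by
      rw [hB, map_sub, map_pow, aeval_X, aeval_C, Algebra.algebraMap_eq_smul_one]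
    rw [h5, hQ, mul_comm f Q, map_mul, Module.End.mul_apply, hw, map_zero]
  -- `T` is irreducible
  have hirr : Irreducible (minpoly F T) := by
    have hμ0 : minpoly F T ≠ 0 := minpoly.ne_zero (Algebra.IsIntegral.isIntegral T)
    have h1 : (minpoly F T).natDegree ≤ 2 * m := by
      have h2 := Polynomial.natDegree_le_of_dvd (LinearMap.minpoly_dvd_charpoly T)
        (LinearMap.charpoly_monic T).ne_zero
      rw [LinearMap.charpoly_natDegree, Module.finrank_fin_fun] at h2
      exact h2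
    have h3 : Associated f (minpoly F T) :=
      associated_of_dvd_of_natDegree_le hfmin hμ0 (h1.trans hdeg)
    exact h3.irreducible hf
  obtain ⟨k, Φ, hΦ⟩ := Singer.exists_equiv_of_irreducible_minpoly p T hirr
  have hk1 : Algebra.norm F k = 1 := by rw [← Singer.det_eq_norm Φ k T hΦ]; exact hdet
  have hkN : k ^ N = algebraMap F (FiniteField.Extension F p (2 * m)) lam :=
    (Singer.pow_eq_smul_one_iff Φ k T hΦ N lam).mp hlam
  have hlamt : lam ^ t = 1 := by
    apply (algebraMap F (FiniteField.Extension F p (2 * m))).injective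
    rw [map_pow, ← hkN, ← pow_mul, mul_comm N t, ← hdiv, map_one]
    have h1 := FiniteField.algebraMap_norm_eq_pow (K := F)
      (K' := FiniteField.Extension F p (2 * m)) (x := k)
    rw [FiniteField.natCard_extension, Nat.card_eq_fintype_card, ← hq, hk1, map_one] at h1
    exact h1.symm
  -- `lam` is a square
  obtain ⟨G, hG⟩ : ∃ G, G = Nat.gcd m (q - 1) := ⟨_, rfl⟩
  have hlamG : lam ^ G = 1 := by
    have h1 : Nat.gcd t (q - 1) = G := by rw [hG]; exact htm.gcd_eq
    rw [← h1]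
    exact pow_gcd_eq_one.mpr ⟨hlamt, hlamq⟩
  have hGq : G ∣ q - 1 := by rw [hG]; exact Nat.gcd_dvd_right _ _
  have hGm : G ∣ m := by rw [hG]; exact Nat.gcd_dvd_left _ _
  obtain ⟨c, hc⟩ := hGq
  have hceven : 2 ∣ c := by
    by_contra hcodd
    obtain ⟨e, he⟩ : ∃ e, e = padicValNat 2 m := ⟨_, rfl⟩
    have h1 : padicValNat 2 (2 * m) = e + 1 := by
      rw [padicValNat.mul (by norm_num) (by omega), padicValNat_self, he, add_comm]
    rw [h1] at hval
    have h2 : 2 ^ (e + 1) ∣ q - 1 := (padicValNat_dvd_iff_le (by omega)).mpr hval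
    have h3 : Nat.Coprime (2 ^ (e + 1)) c :=
      Nat.Coprime.pow_left _ ((Nat.Prime.coprime_iff_not_dvd Nat.prime_two).mpr hcodd)
    rw [hc] at h2
    have h4 : 2 ^ (e + 1) ∣ G := h3.dvd_of_dvd_mul_right h2
    have h5 : 2 ^ (e + 1) ∣ m := h4.trans hGm
    have h6 := (padicValNat_dvd_iff_le (p := 2) (by omega : m ≠ 0)).mp h5
    omega
  obtain ⟨c', hc'⟩ := hceven
  have hlamh : lam ^ (Fintype.card F / 2) = 1 := by
    have h1 : Fintype.card F / 2 = G * c' := by
      rw [← hq]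
      have h2 : q - 1 = 2 * (G * c') := by rw [hc, hc']; ring
      omega
    rw [h1, pow_mul, hlamG, one_pow]
  have hchar2 : ringChar F ≠ 2 := by
    intro h
    have h1 := FiniteField.even_card_of_char_two h
    rw [← hq] at h1
    rcases hodd with ⟨c2, hc2⟩
    omega
  obtain ⟨μ, hμ⟩ := (FiniteField.isSquare_iff hchar2 hlam0).mpr hlamh
  -- `k ^ (N / 2)` is in `F`
  have hNeven : 2 ∣ N := by
    rw [hN]
    have h1 : Odd (q ^ m) := hodd.pow
    rcases h1 with ⟨c2, hc2⟩
    exact ⟨c2 + 1, by omega⟩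
  obtain ⟨N2, hN2⟩ := hNeven
  have hN20 : 0 < N2 := by omega
  have hsq : (k ^ N2 - algebraMap F (FiniteField.Extension F p (2 * m)) μ) *
      (k ^ N2 + algebraMap F (FiniteField.Extension F p (2 * m)) μ) = 0 := by
    have h1 : k ^ N2 * k ^ N2 = algebraMap F (FiniteField.Extension F p (2 * m)) μ *
        algebraMap F (FiniteField.Extension F p (2 * m)) μ := by
      rw [← pow_add, ← two_mul, ← hN2, hkN, hμ, map_mul]
    linear_combination h1
  rcases mul_eq_zero.mp hsq with h | h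
  · have h1 : k ^ N2 = algebraMap F (FiniteField.Extension F p (2 * m)) μ := sub_eq_zero.mp h
    have h2 := hmin N2 μ ((Singer.pow_eq_smul_one_iff Φ k T hΦ N2 μ).mpr h1)
    have h3 := Nat.le_of_dvd hN20 h2
    omega
  · have h1 : k ^ N2 = algebraMap F (FiniteField.Extension F p (2 * m)) (-μ) := by
      rw [map_neg]
      exact eq_neg_of_add_eq_zero_left h
    have h2 := hmin N2 (-μ) ((Singer.pow_eq_smul_one_iff Φ k T hΦ N2 (-μ)).mpr h1)
    have h3 := Nat.le_of_dvd hN20 h2
    omega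

end Cfsg.Agent.Helper42.OrdQm
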