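import Mathlib
import Cfsg.Agent.Helper42.OrdQm
import Cfsg.Agent.Helper42.SpecPSU
import Cfsg.Agent.Helper5.UnitCard
import Cfsg.Agent.S2904

set_option autoImplicit false

/-!
# Elements of order `q^m + (-1)^m` in `PSU_{2m}(q)` (helper42)

`PSU_{2m}(q)`, `q` odd, has an element of order `q^m + (-1)^m` iff the `2`-part of `2m` exceeds
the `2`-part of `q + 1`.
-/

namespace Cfsg.Agent.Helper42.OrdQmU

open Polynomial UForm UGroup UStruct UModels UTorus ProjOrd PGraphL PGraphL2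

universe u v

section arith

theorem sq_fac (A : ℕ) (hA : 1 ≤ A) : A ^ 2 - 1 = (A - 1) * (A + 1) := by
  obtain ⟨B, rfl⟩ : ∃ B, A = B + 1 := ⟨A - 1, by omega⟩
  have : (B + 1) ^ 2 = B * (B + 1 + 1) + 1 := by ring
  rw [this]
  simp

theorem eq_of_dvd_lt_two_mul (m j : ℕ) (hj0 : 0 < j) (hj : j < 2 * m) (h : m ∣ j) : j = m := by
  obtain ⟨c, hc⟩ := h
  have hc1 : c = 1 := by
    rcases Nat.lt_or_ge c 2 with hc2 | hc2
    · rcases Nat.eq_zero_or_pos c with h0 | h0
      · rw [h0] at hc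
        omega
      · omega
    · have : m * 2 ≤ m * c := Nat.mul_le_mul_left _ hc2
      omega
  rw [hc, hc1, mul_one]

/-- The unitary primitive prime divisor. -/
theorem exists_ppd (q m : ℕ) (hodd : Odd q) (hq3 : 3 ≤ q) (hm : 2 ≤ m) :
    ∃ r : ℕ, r.Prime ∧ r ∣ (if Even m then q ^ m + 1 else q ^ m - 1) ∧ ¬ r ∣ q ∧
      ∀ i : ℕ, i + 1 < 2 * m →
        ¬ r ∣ (if Even i then q ^ (i + 1) + 1 else q ^ (i + 1) - 1) := by
  have hq1 : 1 ≤ q := by omega
  have hqpow : ∀ e, 1 ≤ q ^ e := fun e => Nat.one_le_pow _ _ (by omega)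
  have hplus : ∀ (r j : ℕ), r ∣ q ^ j + 1 → r ∣ q ^ (2 * j) - 1 := by
    intro r j h
    rw [pow_mul', sq_fac _ (hqpow j)]
    exact h.mul_left _
  have hnq : ∀ (r M : ℕ), r.Prime → 0 < M → r ∣ q ^ M - 1 → ¬ r ∣ q := by
    intro r M hr hM h hrq
    have h1 : r ∣ q ^ M := dvd_pow hrq (by omega)
    have h2 : q ^ M = (q ^ M - 1) + 1 := by have := hqpow M; omega
    rw [h2] at h1
    exact hr.one_lt.ne' (Nat.dvd_one.mp ((Nat.dvd_add_right h).mp h1))
  rcases Nat.even_or_odd m with hme | hmo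
  · obtain ⟨r, hr, hrdvd, hrprim⟩ := Cfsg.Agent.S2904.result q (2 * m) (by omega) (by omega)
      (by rintro ⟨h2, -⟩; omega) (by rintro ⟨h2, -⟩; omega)
    have hord : ∀ k, 0 < k → k < 2 * m → ¬ orderOf ((q : ℕ) : ZMod r) ∣ k := by
      intro k hk1 hk2 hdvd
      exact hrprim k hk1 hk2 (dvd_pow_sub_one_of_order_dvd r q k hdvd)
    refine ⟨r, hr, ?_, hnq r (2 * m) hr (by omega) hrdvd, ?_⟩
    · rw [if_pos hme]
      rw [pow_mul', sq_fac _ (hqpow m)] at hrdvd
      rcases (Nat.Prime.dvd_mul hr).mp hrdvd with h | h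
      · exact absurd h (hrprim m (by omega) (by omega))
      · exact h
    · intro i hi
      by_cases hie : Even i
      · rw [if_pos hie]
        intro h
        have h1 := order_dvd_of_dvd r q _ hq1 (hplus r (i + 1) h)
        have h2 := order_dvd_of_dvd r q _ hq1 hrdvd
        have h3 : orderOf ((q : ℕ) : ZMod r) ∣ Nat.gcd (2 * (i + 1)) (2 * m) := Nat.dvd_gcd h1 h2
        rw [Nat.gcd_mul_left] at h3
        have h4 : Nat.gcd (i + 1) m ∣ m := Nat.gcd_dvd_right _ _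
        have h5 : Nat.gcd (i + 1) m ≠ m := by
          intro h6
          have h7 : m ∣ i + 1 := by rw [← h6]; exact Nat.gcd_dvd_left _ _
          have h8 : 2 ∣ i + 1 := (even_iff_two_dvd.mp hme).trans h7
          rcases hie with ⟨c, hc⟩
          omega
        have h6 : Nat.gcd (i + 1) m ≤ m := Nat.le_of_dvd (by omega) h4
        have h7 : 0 < Nat.gcd (i + 1) m := Nat.gcd_pos_of_pos_right _ (by omega)
        exact hord (2 * Nat.gcd (i + 1) m) (by omega) (by omega) h3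
      · rw [if_neg hie]
        exact hrprim (i + 1) (by omega) hi
  · have hm3 : 3 ≤ m := by
      rcases hmo with ⟨c, hc⟩
      omega
    obtain ⟨r, hr, hrdvd, hrprim⟩ := Cfsg.Agent.S2904.result q m (by omega) (by omega)
      (by rintro ⟨h2, -⟩; omega) (by rintro ⟨h2, -⟩; omega)
    have hord : ∀ k, 0 < k → k < m → ¬ orderOf ((q : ℕ) : ZMod r) ∣ k := by
      intro k hk1 hk2 hdvd
      exact hrprim k hk1 hk2 (dvd_pow_sub_one_of_order_dvd r q k hdvd)
    have h2 := order_dvd_of_dvd r q _ hq1 hrdvd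
    have hr2 : r ≠ 2 := by
      rintro rfl
      have h3 := hrprim 1 (by omega) (by omega)
      rw [pow_one] at h3
      rcases hodd with ⟨c, hc⟩
      exact h3 ⟨c, by omega⟩
    have hgcd : ∀ j, orderOf ((q : ℕ) : ZMod r) ∣ j → 0 < j → m ∣ j := by
      intro j hj hj0
      have h3 : orderOf ((q : ℕ) : ZMod r) ∣ Nat.gcd j m := Nat.dvd_gcd hj h2
      have h4 : Nat.gcd j m ∣ m := Nat.gcd_dvd_right _ _
      have h6 : Nat.gcd j m ≤ m := Nat.le_of_dvd (by omega) h4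
      have h7 : 0 < Nat.gcd j m := Nat.gcd_pos_of_pos_right _ (by omega)
      by_contra hcon
      have h5 : Nat.gcd j m ≠ m := by
        intro h8
        exact hcon (by rw [← h8]; exact Nat.gcd_dvd_left _ _)
      exact hord (Nat.gcd j m) h7 (by omega) h3
    refine ⟨r, hr, ?_, hnq r m hr (by omega) hrdvd, ?_⟩
    · rw [if_neg (Nat.not_even_iff_odd.mpr hmo)]
      exact hrdvd
    · intro i hi
      by_cases hie : Even i
      · rw [if_pos hie]
        intro h
        have h1 := order_dvd_of_dvd r q _ hq1 (hplus r (i + 1) h)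
        have h3 : m ∣ 2 * (i + 1) := hgcd _ h1 (by omega)
        have hcop : Nat.Coprime m 2 := Nat.coprime_two_right.mpr hmo
        have h4 : m ∣ i + 1 := hcop.dvd_of_dvd_mul_left h3
        have h5 : i + 1 = m := eq_of_dvd_lt_two_mul m (i + 1) (by omega) hi h4
        rw [h5] at h
        have h6 : r ∣ 2 := by
          have h7 : q ^ m + 1 = (q ^ m - 1) + 2 := by have := hqpow m; omega
          rw [h7] at h
          exact (Nat.dvd_add_right hrdvd).mp h
        exact hr2 ((Nat.prime_dvd_prime_iff_eq hr Nat.prime_two).mp h6)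
      · rw [if_neg hie]
        intro h
        have h1 := order_dvd_of_dvd r q _ hq1 h
        have h3 : m ∣ i + 1 := hgcd _ h1 (by omega)
        have h5 : i + 1 = m := eq_of_dvd_lt_two_mul m (i + 1) (by omega) hi h3
        have hio : Odd i := Nat.not_even_iff_odd.mp hie
        rcases hio with ⟨c2, hc2⟩
        rcases hmo with ⟨c3, hc3⟩
        omega

/-- Prime divisors of the order formula of `GU_d(q)`. -/
theorem dvd_card_imp (r q d : ℕ) (hr : r.Prime)
    (h : r ∣ q ^ (d * (d - 1) / 2) *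
      ∏ i ∈ Finset.range d, (if Even i then q ^ (i + 1) + 1 else q ^ (i + 1) - 1)) :
    r ∣ q ∨ ∃ i, i < d ∧ r ∣ (if Even i then q ^ (i + 1) + 1 else q ^ (i + 1) - 1) := by
  rcases (Nat.Prime.dvd_mul hr).mp h with h1 | h1
  · exact Or.inl (hr.dvd_of_dvd_pow h1)
  · right
    obtain ⟨i, hi, hdvd⟩ := (Prime.dvd_finsetProd_iff hr.prime _).mp h1
    exact ⟨i, Finset.mem_range.mp hi, hdvd⟩

end arith

section form

variable {F : Type u} [Field F] [Fintype F]

/-- A unitary map of prime order `r` on a nondegenerate space of dimension `d` gives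
`r ∣ |GU_d(q)|`. -/
theorem dvd_card_GU_of_order (q : ℕ) (hq2 : 2 ≤ q) (hF : Fintype.card F = q ^ 2) (σ : F →+* F)
    (hσ : ∀ c, σ c = c ^ q) {U : Type v} [AddCommGroup U] [Module F U] [FiniteDimensional F U]
    (H : U → U → F) (hH : IsHerm σ H) (hnd : ∀ v, (∀ w, H v w = 0) → v = 0) (d : ℕ)
    (hdim : Module.finrank F U = d) (s : Module.End F U) (hs : UPres H s) (r : ℕ) (hr : r.Prime)
    (hsr : s ^ r = 1) (hs1 : s ≠ 1) : r ∣ Nat.card (Cfsg.GU d F q) := by
  classical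
  have hinv : IsInvol σ := isInvol_frob q hq2 hF σ hσ
  obtain ⟨Φ, hΦ⟩ := exists_equiv_std hinv d U H hH hnd hdim
  obtain ⟨S, hS⟩ : ∃ S : Module.End F (Fin d → F),
      S = Φ.toLinearMap ∘ₗ s ∘ₗ Φ.symm.toLinearMap := ⟨_, rfl⟩
  have hSapp : ∀ x, S (Φ x) = Φ (s x) := by
    intro x
    rw [hS]
    simp
  have hSpow : ∀ (k : ℕ) (x : U), (S ^ k) (Φ x) = Φ ((s ^ k) x) := by
    intro k
    induction k with
    | zero => intro x; simp
    | succ k ih =>
      intro x
      rw [pow_succ, pow_succ, Module.End.mul_apply, Module.End.mul_apply, hSapp, ih]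
  have hSr : S ^ r = 1 := by
    apply LinearMap.ext
    intro y
    obtain ⟨x, rfl⟩ := Φ.surjective y
    rw [hSpow, hsr]
    rfl
  have hS1 : S ≠ 1 := by
    intro h
    apply hs1
    apply LinearMap.ext
    intro x
    apply Φ.injective
    rw [← hSapp, h]
    rfl
  have hSH : ∀ u v, hermStd σ d (S u) (S v) = hermStd σ d u v := by
    intro u v
    obtain ⟨x, rfl⟩ := Φ.surjective u
    obtain ⟨y, rfl⟩ := Φ.surjective v
    rw [hSapp, hSapp, hΦ, hs, hΦ]
  obtain ⟨A, hA⟩ : ∃ A : Matrix (Fin d) (Fin d) F, A = LinearMap.toMatrix' S := ⟨_, rfl⟩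
  have hAS : Matrix.toLin' A = S := by rw [hA, Matrix.toLin'_toMatrix']
  have hApow : ∀ k : ℕ, Matrix.toLin' (A ^ k) = S ^ k := by
    intro k
    induction k with
    | zero => rw [pow_zero, pow_zero, Matrix.toLin'_one]; rfl
    | succ k ih => rw [pow_succ, pow_succ, Matrix.toLin'_mul, ih, hAS]; rfl
  have hAr : A ^ r = 1 := by
    apply Matrix.toLin'.injective
    rw [hApow, hSr, Matrix.toLin'_one]
    rfl
  obtain ⟨r', hr'⟩ : ∃ r', r = r' + 1 := ⟨r - 1, by have := hr.pos; omega⟩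
  obtain ⟨g, hg⟩ : ∃ g : Matrix.GeneralLinearGroup (Fin d) F,
      (g : Matrix (Fin d) (Fin d) F) = A :=
    ⟨⟨A, A ^ r', by rw [← pow_succ', ← hr', hAr], by rw [← pow_succ, ← hr', hAr]⟩, rfl⟩
  have hgmem : g ∈ Cfsg.GU d F q := by
    rw [Cfsg.Agent.Helper5.mem_GU_iff]
    intro u v
    rw [hg, hermForm_eq σ q hσ, hermForm_eq σ q hσ, ← Matrix.toLin'_apply, ← Matrix.toLin'_apply,
      hAS, hSH]
  obtain ⟨γ, hγ⟩ : ∃ γ : Cfsg.GU d F q, (γ : Matrix.GeneralLinearGroup (Fin d) F) = g :=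
    ⟨⟨g, hgmem⟩, rfl⟩
  have hγr : γ ^ r = 1 := by
    apply Subtype.ext
    apply Units.ext
    rw [Subgroup.coe_pow, Units.val_pow_eq_pow_val, hγ, hg]
    exact hAr
  have hγ1 : γ ≠ 1 := by
    intro h
    apply hS1
    have h1 : A = 1 := by
      rw [← hg, ← hγ, h]
      rfl
    rw [← hAS, h1, Matrix.toLin'_one]
    rfl
  have hord : orderOf γ = r := by
    haveI : Fact r.Prime := ⟨hr⟩
    exact orderOf_eq_prime hγr hγ1
  rw [← hord]
  exact orderOf_dvd_natCard γ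

/-- On a proper orthogonal summand, an isometry of prime order `r` is trivial when `r` is a
unitary primitive prime divisor. -/
theorem trivial_on_summand (q : ℕ) (hq2 : 2 ≤ q) (hF : Fintype.card F = q ^ 2) (σ : F →+* F)
    (hσ : ∀ c, σ c = c ^ q) {V : Type v} [AddCommGroup V] [Module F V] [FiniteDimensional F V]
    (H : V → V → F) (hH : IsHerm σ H) (hnd : ∀ v, (∀ w, H v w = 0) → v = 0) (n : ℕ)
    (s : Module.End F V) (hs : UPres H s) (r : ℕ) (hr : r.Prime) (hsr : s ^ r = 1)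
    (hrq : ¬ r ∣ q)
    (hrprim : ∀ i : ℕ, i + 1 < n → ¬ r ∣ (if Even i then q ^ (i + 1) + 1 else q ^ (i + 1) - 1))
    (W W' : Submodule F V) (hcompl : IsCompl W W') (horth : ∀ x ∈ W, ∀ y ∈ W', H x y = 0)
    (hsW : ∀ v ∈ W, s v ∈ W) (hdW : Module.finrank F W < n) : ∀ v ∈ W, s v = v := by
  classical
  by_contra hcon
  push Not at hcon
  obtain ⟨v₀, hv₀W, hv₀⟩ := hcon
  obtain ⟨H', hH'⟩ : ∃ H' : W → W → F, H' = fun x y => H x.1 y.1 := ⟨_, rfl⟩
  have hHerm : IsHerm σ H' := by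
    rw [hH']
    exact ⟨fun x y z => hH.add_left _ _ _, fun c x y => hH.smul_left _ _ _,
      fun x y => hH.conj _ _⟩
  have hnd' : ∀ v : W, (∀ w : W, H' v w = 0) → v = 0 := by
    intro v hv
    apply Subtype.ext
    apply hnd
    intro y
    have hy : y ∈ W ⊔ W' := by rw [hcompl.sup_eq_top]; exact Submodule.mem_top
    obtain ⟨y₁, hy₁, y₂, hy₂, rfl⟩ := Submodule.mem_sup.mp hy
    rw [hH.add_right, horth v v.2 y₂ hy₂, add_zero]
    have := hv ⟨y₁, hy₁⟩
    rw [hH'] at this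
    exact this
  obtain ⟨s', hs'⟩ : ∃ s' : Module.End F W, s' = s.restrict hsW := ⟨_, rfl⟩
  have hs'U : UPres H' s' := by
    intro x y
    rw [hH', hs']
    simp only [LinearMap.restrict_apply]
    exact hs x y
  have hs'r : s' ^ r = 1 := by
    apply LinearMap.ext
    intro x
    apply Subtype.ext
    rw [hs', Module.End.pow_restrict, LinearMap.restrict_apply]
    simp only [hsr]
    rfl
  have hs'1 : s' ≠ 1 := by
    intro h
    apply hv₀
    have h1 := congrArg (fun f : Module.End F W => ((f ⟨v₀, hv₀W⟩ : W) : V)) h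
    rw [hs'] at h1
    simpa using h1
  have h1 := dvd_card_GU_of_order q hq2 hF σ hσ H' hHerm hnd' _ rfl s' hs'U r hr hs'r hs'1
  rw [Cfsg.Agent.Helper5.card_GU hF] at h1
  rcases dvd_card_imp r q _ hr h1 with h2 | ⟨i, hi, h2⟩
  · exact hrq h2
  · exact hrprim i (by omega) h2

/-- An isometry commuting with a unitary element of primitive prime order is orthogonally
indecomposable. -/
theorem not_orthDec (q : ℕ) (hq2 : 2 ≤ q) (hF : Fintype.card F = q ^ 2) (σ : F →+* F)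
    (hσ : ∀ c, σ c = c ^ q) {V : Type v} [AddCommGroup V] [Module F V] [FiniteDimensional F V]
    (H : V → V → F) (hH : IsHerm σ H) (hnd : ∀ v, (∀ w, H v w = 0) → v = 0) (n : ℕ)
    (hdim : Module.finrank F V = n) (T s : Module.End F V) (hs : UPres H s) (r : ℕ)
    (hr : r.Prime) (hsr : s ^ r = 1) (hs1 : s ≠ 1)
    (hsinv : ∀ W : Submodule F V, (∀ v ∈ W, T v ∈ W) → ∀ v ∈ W, s v ∈ W)
    (hrq : ¬ r ∣ q)
    (hrprim : ∀ i : ℕ, i + 1 < n → ¬ r ∣ (if Even i then q ^ (i + 1) + 1 else q ^ (i + 1) - 1)) :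
    ¬ UOrthDec H T := by
  rintro ⟨V₁, V₂, hcompl, hV₁, hV₂, hT₁, hT₂, horth⟩
  have hsum := Submodule.finrank_add_eq_of_isCompl hcompl
  rw [hdim] at hsum
  have hd₁ : 0 < Module.finrank F V₁ :=
    Nat.pos_of_ne_zero (fun h => hV₁ (Submodule.finrank_eq_zero.mp h))
  have hd₂ : 0 < Module.finrank F V₂ :=
    Nat.pos_of_ne_zero (fun h => hV₂ (Submodule.finrank_eq_zero.mp h))
  have h1 := trivial_on_summand q hq2 hF σ hσ H hH hnd n s hs r hr hsr hrq hrprim V₁ V₂ hcompl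
    horth (hsinv V₁ hT₁) (by omega)
  have h2 := trivial_on_summand q hq2 hF σ hσ H hH hnd n s hs r hr hsr hrq hrprim V₂ V₁
    hcompl.symm (fun x hx y hy => by rw [hH.conj y x, horth y hy x hx, map_zero])
    (hsinv V₂ hT₂) (by omega)
  apply hs1
  apply LinearMap.ext
  intro y
  have hy : y ∈ V₁ ⊔ V₂ := by rw [hcompl.sup_eq_top]; exact Submodule.mem_top
  obtain ⟨y₁, hy₁, y₂, hy₂, rfl⟩ := Submodule.mem_sup.mp hy
  rw [map_add, h1 y₁ hy₁, h2 y₂ hy₂]
  rfl

end form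

section main

variable {F : Type u} [Field F] [Fintype F] (p a : ℕ) [Fact p.Prime] [CharP F p]

omit [Fact p.Prime] [CharP F p] in
theorem inv_pow_e (hF : Fintype.card F = (p ^ a) ^ 2) (m : ℕ) (hm : 1 ≤ m) (c : F)
    (hc : c ^ (p ^ a + 1) = 1) : (c⁻¹) ^ ((p ^ a) ^ (2 * m - 1)) = c := by
  have hodd : Odd (2 * m - 1) := by
    rw [Nat.odd_iff]
    omega
  rw [inv_pow, pow_q_odd_F p a hF c _ hodd]
  rw [pow_succ] at hc
  exact inv_eq_of_mul_eq_one_right hc

omit [Fact p.Prime] [CharP F p] in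
theorem torus_eq_smul_iff (hF : Fintype.card F = (p ^ a) ^ 2) (m : ℕ) (hm : 1 ≤ m)
    {K : Type v} [Field K] [Algebra F K] (k : K) (hk : k ≠ 0) (c : F) :
    torusMap F ((p ^ a) ^ (2 * m - 1)) k = c • (1 : Module.End F (K × K)) ↔
      k = algebraMap F K c ∧ c ^ (p ^ a + 1) = 1 := by
  constructor
  · intro h
    have h1 : k = algebraMap F K c := by
      have := congrArg (fun f : Module.End F (K × K) => (f (1, 0)).1) h
      simp only [torusMap_apply, LinearMap.smul_apply, Module.End.one_apply, Prod.smul_fst,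
        mul_one] at this
      rw [this, Algebra.algebraMap_eq_smul_one]
    have h2 : (k⁻¹) ^ ((p ^ a) ^ (2 * m - 1)) = algebraMap F K c := by
      have := congrArg (fun f : Module.End F (K × K) => (f (0, 1)).2) h
      simp only [torusMap_apply, LinearMap.smul_apply, Module.End.one_apply, Prod.smul_snd,
        mul_one] at this
      rw [this, Algebra.algebraMap_eq_smul_one]
    refine ⟨h1, ?_⟩
    have hc0 : c ≠ 0 := by
      rintro rfl
      rw [map_zero] at h1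
      exact hk h1
    rw [h1, ← map_inv₀, ← map_pow] at h2
    have h3 := (algebraMap F K).injective h2
    have hodd : Odd (2 * m - 1) := by
      rw [Nat.odd_iff]
      omega
    rw [inv_pow, pow_q_odd_F p a hF c _ hodd] at h3
    calc c ^ (p ^ a + 1) = c ^ (p ^ a) * c := pow_succ _ _
      _ = c ^ (p ^ a) * (c ^ (p ^ a))⁻¹ := by rw [h3]
      _ = 1 := mul_inv_cancel₀ (pow_ne_zero _ hc0)
  · rintro ⟨h1, h2⟩
    apply LinearMap.ext
    intro x
    rw [torusMap_apply, h1, ← map_inv₀, ← map_pow, inv_pow_e p a hF m hm c h2,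
      LinearMap.smul_apply, Module.End.one_apply]
    refine Prod.ext ?_ ?_ <;> simp [Algebra.smul_def]

/-- Non-existence of an element of order `q^m + (-1)^m`. -/
theorem no_elt_u (ha : 1 ≤ a) (hF : Fintype.card F = (p ^ a) ^ 2) (m : ℕ) (hm : 2 ≤ m)
    (hodd : Odd (p ^ a)) (hval : padicValNat 2 (2 * m) ≤ padicValNat 2 (p ^ a + 1))
    (g : Cfsg.SU (2 * m) F (p ^ a))
    (hg : orderOf (QuotientGroup.mk g : Cfsg.PSU (2 * m) F (p ^ a)) =
      if Even m then (p ^ a) ^ m + 1 else (p ^ a) ^ m - 1) : False := by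
  classical
  have hp : p.Prime := Fact.out
  have hq2 : 2 ≤ p ^ a := SpecPSU.two_le_q p a ha
  have hq3 : 3 ≤ p ^ a := by
    rcases hodd with ⟨c, hc⟩
    omega
  haveI : NeZero m := ⟨by omega⟩
  obtain ⟨σ, hσ⟩ : ∃ σ : F →+* F, ∀ c, σ c = c ^ (p ^ a) :=
    ⟨iterateFrobenius F p a, fun c => by rw [iterateFrobenius_def]⟩
  have hinv : IsInvol σ := isInvol_frob (p ^ a) hq2 hF σ hσ
  have hσσ := hinv.invol
  have hH := isHerm_hermStd σ hσσ (2 * m)
  obtain ⟨NN, hNN⟩ : ∃ NN, NN = if Even m then (p ^ a) ^ m + 1 else (p ^ a) ^ m - 1 := ⟨_, rfl⟩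
  rw [← hNN] at hg
  have hNNpos : 0 < NN := by
    rw [← hg]
    exact orderOf_pos _
  obtain ⟨T, hT⟩ : ∃ T : Module.End F (Fin (2 * m) → F), T = toEnd g.1 := ⟨_, rfl⟩
  have hTU : UPres (hermStd σ (2 * m)) T := by rw [hT]; exact upres_toEnd σ (p ^ a) hσ g
  have hdet : LinearMap.det T = 1 := by rw [hT]; exact det_toEnd g.1
  obtain ⟨lam, hlam⟩ : ∃ lam : F, T ^ NN = lam • (1 : Module.End F (Fin (2 * m) → F)) := by
    rw [hT, ← hg]
    exact (mk_pow_eq_one_iff (p ^ a) hq2 hF (by omega) g _).mp (pow_orderOf_eq_one _)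
  have hmin : ∀ (i : ℕ) (c : F), T ^ i = c • (1 : Module.End F (Fin (2 * m) → F)) → NN ∣ i := by
    intro i c hi
    rw [← hg]
    apply orderOf_dvd_of_pow_eq_one
    rw [mk_pow_eq_one_iff (p ^ a) hq2 hF (by omega)]
    exact ⟨c, by rw [← hT]; exact hi⟩
  have hlam0 : lam ≠ 0 := by
    intro h
    rw [h, zero_smul] at hlam
    have h1 := congrArg LinearMap.det hlam
    rw [map_pow, hdet, one_pow, LinearMap.det_zero, Module.finrank_fin_fun,
      zero_pow (by omega)] at h1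
    exact one_ne_zero h1
  have hlamq : lam ^ (p ^ a + 1) = 1 := by
    have h1 := (hTU.pow NN) (Pi.single ⟨0, by omega⟩ 1) (Pi.single ⟨0, by omega⟩ 1)
    rw [hlam] at h1
    simp only [LinearMap.smul_apply, Module.End.one_apply] at h1
    rw [hH.smul_left, hH.smul_right, hσ] at h1
    have h2 : hermStd σ (2 * m) (Pi.single ⟨0, by omega⟩ 1) (Pi.single ⟨0, by omega⟩ 1) = 1 := by
      simp [hermStd, Pi.single_apply, apply_ite σ]
    rw [h2, mul_one, mul_comm] at h1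
    rw [pow_succ]
    exact h1
  -- the Zsigmondy prime
  obtain ⟨r, hr, hrN, hrq, hrprim⟩ := exists_ppd (p ^ a) m hodd hq3 hm
  rw [← hNN] at hrN
  obtain ⟨N', hN'⟩ := hrN
  have hN'0 : 0 < N' := by
    rcases Nat.eq_zero_or_pos N' with h | h
    · rw [h, mul_zero] at hN'
      omega
    · exact h
  have hTN' : ¬ ∃ c : F, T ^ N' = c • (1 : Module.End F (Fin (2 * m) → F)) := by
    rintro ⟨c, hc⟩
    have h1 := hmin N' c hc
    have h2 := Nat.le_of_dvd hN'0 h1
    have h3 : 2 * N' ≤ r * N' := Nat.mul_le_mul_right _ hr.two_le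
    omega
  have hrq1 : ¬ r ∣ p ^ a + 1 := by
    have h1 := hrprim 0 (by omega)
    simpa using h1
  have hcopr : Nat.Coprime r (p ^ a + 1) := (Nat.Prime.coprime_iff_not_dvd hr).mpr hrq1
  obtain ⟨s', -, hs'⟩ := Nat.exists_mul_mod_eq_one_of_coprime hcopr (by omega : 1 < p ^ a + 1)
  have hrs : r * s' = (p ^ a + 1) * (r * s' / (p ^ a + 1)) + 1 := by
    have := Nat.div_add_mod (r * s') (p ^ a + 1)
    rw [hs'] at this
    exact this.symm
  obtain ⟨a₀, ha₀⟩ : ∃ a₀ : F, a₀ = lam ^ s' := ⟨_, rfl⟩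
  have har : a₀ ^ r = lam := by
    rw [ha₀, ← pow_mul, mul_comm s' r, hrs, pow_succ, pow_mul, hlamq, one_pow, one_mul]
  have ha₀0 : a₀ ≠ 0 := by rw [ha₀]; exact pow_ne_zero _ hlam0
  have ha₀q : a₀ ^ (p ^ a + 1) = 1 := by
    rw [ha₀, ← pow_mul, mul_comm, pow_mul, hlamq, one_pow]
  obtain ⟨s, hs⟩ : ∃ s : Module.End F (Fin (2 * m) → F), s = a₀⁻¹ • T ^ N' := ⟨_, rfl⟩
  have hsU : UPres (hermStd σ (2 * m)) s := by
    rw [hs]
    apply UPres.smul hH (hTU.pow N') a₀⁻¹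
    rw [hσ, inv_pow, ← mul_inv, ← pow_succ', ha₀q, inv_one]
  have hsr : s ^ r = 1 := by
    rw [hs, _root_.smul_pow, ← pow_mul, mul_comm N' r, ← hN', hlam, smul_smul, inv_pow, har,
      inv_mul_cancel₀ hlam0, one_smul]
  have hs1 : s ≠ 1 := by
    intro h
    apply hTN'
    refine ⟨a₀, ?_⟩
    rw [hs] at h
    have h2 := congrArg (fun f : Module.End F (Fin (2 * m) → F) => a₀ • f) h
    simp only [smul_smul, mul_inv_cancel₀ ha₀0, one_smul] at h2
    exact h2
  have hsinv : ∀ W : Submodule F (Fin (2 * m) → F), (∀ v ∈ W, T v ∈ W) → ∀ v ∈ W, s v ∈ W := by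
    intro W hW v hv
    rw [hs, LinearMap.smul_apply]
    apply W.smul_mem
    have hpw : ∀ (k : ℕ), ∀ v ∈ W, (T ^ k) v ∈ W := by
      intro k
      induction k with
      | zero => intro v hv; simpa using hv
      | succ k ih =>
        intro v hv
        rw [pow_succ, Module.End.mul_apply]
        exact ih _ (hW v hv)
    exact hpw N' v hv
  have hnotdec : ¬ UOrthDec (hermStd σ (2 * m)) T :=
    not_orthDec (p ^ a) hq2 hF σ hσ (hermStd σ (2 * m)) hH (hermStd_nondeg σ (2 * m)) (2 * m)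
      (Module.finrank_fin_fun F) T s hsU r hr hsr hs1 hsinv hrq hrprim
  -- the torus structure
  have hpNN : ¬ p ∣ NN := by
    rw [hNN]
    have h1 : p ∣ (p ^ a) ^ m := dvd_pow (dvd_pow_self p (by omega)) (by omega)
    split_ifs
    · intro h
      exact hp.one_lt.ne' (Nat.dvd_one.mp ((Nat.dvd_add_right h1).mp h))
    · intro h
      have h2 : (p ^ a) ^ m = ((p ^ a) ^ m - 1) + 1 := by
        have := Nat.one_le_pow m (p ^ a) (by omega)
        omega
      rw [h2] at h1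
      exact hp.one_lt.ne' (Nat.dvd_one.mp ((Nat.dvd_add_right h).mp h1))
  have hb : (orderOf (QuotientGroup.mk g : Cfsg.PSU (2 * m) F (p ^ a))).factorization p = 0 := by
    rw [hg]
    exact Nat.factorization_eq_zero_of_not_dvd hpNN
  obtain ⟨M, f, hM, hsM, hf, hfM, hcase⟩ :=
    SpecPSU.semisimple_data p a ha hF (by omega) σ hσ g (by rw [← hT]; exact hnotdec) 0 hb.symm T
      (by rw [pow_zero, pow_one, hT])
  obtain ⟨k₁, Ψ, hk0, hΨ⟩ := even_data p a hF σ hσ hσσ m (by omega)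
    (FiniteField.Extension F p m) (FiniteField.finrank_extension F p m)
    (fun f hf hd => exists_root p m f hf hd) (Module.finrank_fin_fun F) T M hM hsM f hf hfM hcase
  obtain ⟨e, he⟩ : ∃ e, e = (p ^ a) ^ (2 * m - 1) := ⟨_, rfl⟩
  rw [← he] at hΨ
  have hscal : ∀ (i : ℕ) (c : F), T ^ i = c • (1 : Module.End F (Fin (2 * m) → F)) ↔
      (k₁ ^ i = algebraMap F (FiniteField.Extension F p m) c ∧ c ^ (p ^ a + 1) = 1) := by
    intro i c
    rw [← conj_pow_eq_smul_iff Ψ (torusMap F e k₁) T (fun x => (hΨ x).symm) i c, ← torusMap_pow, he,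
      torus_eq_smul_iff p a hF m (by omega) (k₁ ^ i) (pow_ne_zero _ hk0) c]
  have hkN : k₁ ^ NN = algebraMap F (FiniteField.Extension F p m) lam := ((hscal NN lam).mp hlam).1
  have hTconj : T = (Ψ.symm : (FiniteField.Extension F p m × FiniteField.Extension F p m) →ₗ[F]
      (Fin (2 * m) → F)) ∘ₗ torusMap F e k₁ ∘ₗ
      (Ψ.symm.symm : (Fin (2 * m) → F) →ₗ[F]
        (FiniteField.Extension F p m × FiniteField.Extension F p m)) := by
    apply LinearMap.ext
    intro x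
    simp only [LinearMap.coe_comp, LinearEquiv.coe_coe, Function.comp_apply, LinearEquiv.symm_symm]
    rw [← hΨ, Ψ.symm_apply_apply]
  have hdetK : LinearMap.det (torusMap F e k₁) = 1 := by
    rw [hTconj, LinearMap.det_conj] at hdet
    exact hdet
  obtain ⟨ν, hν⟩ : ∃ ν : F, ν = Algebra.norm F k₁ := ⟨_, rfl⟩
  have hninv : Algebra.norm F (k₁⁻¹) = ν⁻¹ := by
    have h2 : Algebra.norm F (k₁⁻¹) * Algebra.norm F k₁ = 1 := by
      rw [← map_mul, inv_mul_cancel₀ hk0, map_one]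
    rw [hν]
    exact eq_inv_of_mul_eq_one_left h2
  have hνe : ν * (ν⁻¹) ^ e = 1 := by
    have h1 : LinearMap.det (UTorus.torusMap F e k₁) =
        Algebra.norm F k₁ * Algebra.norm F ((k₁⁻¹) ^ e) := by
      rw [UTorus.torusMap, LinearMap.det_prodMap, Algebra.norm_apply, Algebra.norm_apply]
      rfl
    rw [h1, map_pow, hninv, ← hν] at hdetK
    exact hdetK
  have hν0 : ν ≠ 0 := by
    rintro rfl
    rw [zero_mul] at hνe
    exact zero_ne_one hνe
  have hodd2 : Odd (2 * m - 1) := by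
    rw [Nat.odd_iff]
    omega
  have hνq : ν ^ (p ^ a) = ν := by
    rw [inv_pow, he, pow_q_odd_F p a hF ν _ hodd2] at hνe
    exact ((mul_inv_eq_one₀ (pow_ne_zero _ hν0)).mp hνe).symm
  have hνq1 : ν ^ (p ^ a - 1) = 1 := by
    have h1 : ν ^ (p ^ a - 1) * ν = 1 * ν := by
      rw [← pow_succ, Nat.sub_add_cancel (by omega), hνq, one_mul]
    exact mul_right_cancel₀ hν0 h1
  have hνN : ν ^ NN = lam ^ m := by
    rw [hν, ← map_pow, hkN, Algebra.norm_algebraMap, FiniteField.finrank_extension]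
  have hqm_odd : Odd ((p ^ a) ^ m) := hodd.pow
  have hNNeven : 2 ∣ NN := by
    rw [hNN]
    rcases hqm_odd with ⟨c, hc⟩
    split_ifs
    · exact ⟨c + 1, by omega⟩
    · exact ⟨c, by omega⟩
  have hlamm : lam ^ m = 1 := by
    rw [← hνN]
    rcases Nat.even_or_odd m with hme | hmo
    · have hNNe : NN = (p ^ a) ^ m + 1 := by rw [hNN, if_pos hme]
      obtain ⟨m₂, hm₂⟩ := hme
      have hm2' : m = m₂ * 2 := by omega
      have hdvd : (p ^ a) ^ 2 - 1 ∣ (p ^ a) ^ m - 1 := by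
        rw [hm2', mul_comm m₂ 2, pow_mul]
        simpa only [one_pow] using Nat.sub_dvd_pow_sub_pow ((p ^ a) ^ 2) 1 m₂
      obtain ⟨u, hu⟩ := hdvd
      have h1 := FiniteField.algebraMap_norm_eq_pow (K := F)
        (K' := FiniteField.Extension F p m) (x := k₁)
      rw [FiniteField.natCard_extension, Nat.card_eq_fintype_card, hF, ← hν] at h1
      have hexp : (((p ^ a) ^ 2) ^ m - 1) / ((p ^ a) ^ 2 - 1) = u * NN := by
        have h2 : ((p ^ a) ^ 2) ^ m - 1 = ((p ^ a) ^ 2 - 1) * (u * NN) := by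
          rw [← pow_mul, mul_comm 2 m, pow_mul, sq_fac _ (Nat.one_le_pow _ _ (by omega)), hu, hNNe]
          ring
        rw [h2]
        exact Nat.mul_div_cancel_left _ (by
          have : 2 * 2 ≤ p ^ a * p ^ a := Nat.mul_le_mul hq2 hq2
          rw [pow_two]
          omega)
      rw [hexp, mul_comm u NN, pow_mul, hkN, ← map_pow] at h1
      have hνlam : ν = lam ^ u := (algebraMap F (FiniteField.Extension F p m)).injective h1
      have hνq1' : ν ^ (p ^ a + 1) = 1 := by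
        rw [hνlam, ← pow_mul, mul_comm, pow_mul, hlamq, one_pow]
      have hν2 : ν ^ 2 = 1 := by
        have h3 : ν ^ Nat.gcd (p ^ a + 1) (p ^ a - 1) = 1 := pow_gcd_eq_one.mpr ⟨hνq1', hνq1⟩
        have h4 : Nat.gcd (p ^ a + 1) (p ^ a - 1) ∣ 2 := by
          have h5 : Nat.gcd (p ^ a + 1) (p ^ a - 1) ∣ (p ^ a + 1) - (p ^ a - 1) :=
            Nat.dvd_sub (Nat.gcd_dvd_left _ _) (Nat.gcd_dvd_right _ _)
          have h6 : (p ^ a + 1) - (p ^ a - 1) = 2 := by omega
          rwa [h6] at h5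
        obtain ⟨c, hc⟩ := h4
        rw [hc, pow_mul, h3, one_pow]
      obtain ⟨c, hc⟩ := hNNeven
      rw [hc, pow_mul, hν2, one_pow]
    · have hNNo : NN = (p ^ a) ^ m - 1 := by rw [hNN, if_neg (Nat.not_even_iff_odd.mpr hmo)]
      have hdvd : p ^ a - 1 ∣ NN := by
        rw [hNNo]
        simpa only [one_pow] using Nat.sub_dvd_pow_sub_pow (p ^ a) 1 m
      obtain ⟨c, hc⟩ := hdvd
      rw [hc, pow_mul, hνq1, one_pow]
  -- `lam` is the square of a norm-one element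
  obtain ⟨G, hG⟩ : ∃ G, G = Nat.gcd m (p ^ a + 1) := ⟨_, rfl⟩
  have hlamG : lam ^ G = 1 := by rw [hG]; exact pow_gcd_eq_one.mpr ⟨hlamm, hlamq⟩
  have hGq : G ∣ p ^ a + 1 := by rw [hG]; exact Nat.gcd_dvd_right _ _
  have hGm : G ∣ m := by rw [hG]; exact Nat.gcd_dvd_left _ _
  obtain ⟨c, hc⟩ := hGq
  have hceven : 2 ∣ c := by
    by_contra hcodd
    obtain ⟨e2, he2⟩ : ∃ e2, e2 = padicValNat 2 m := ⟨_, rfl⟩
    have h1 : padicValNat 2 (2 * m) = e2 + 1 := by
      rw [padicValNat.mul (by norm_num) (by omega), padicValNat_self, he2, add_comm]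
    rw [h1] at hval
    have h2 : 2 ^ (e2 + 1) ∣ p ^ a + 1 := (padicValNat_dvd_iff_le (by omega)).mpr hval
    have h3 : Nat.Coprime (2 ^ (e2 + 1)) c :=
      Nat.Coprime.pow_left _ ((Nat.Prime.coprime_iff_not_dvd Nat.prime_two).mpr hcodd)
    rw [hc] at h2
    have h4 : 2 ^ (e2 + 1) ∣ G := h3.dvd_of_dvd_mul_right h2
    have h5 : 2 ^ (e2 + 1) ∣ m := h4.trans hGm
    have h6 := (padicValNat_dvd_iff_le (p := 2) (by omega : m ≠ 0)).mp h5
    omega
  obtain ⟨c', hc'⟩ := hceven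
  have hq1half : p ^ a + 1 = 2 * (G * c') := by rw [hc, hc']; ring
  have hlamh : lam ^ (G * c') = 1 := by rw [pow_mul, hlamG, one_pow]
  have hGc'pos : 0 < G * c' := by omega
  obtain ⟨ζ, hζord, hζgen⟩ := exists_gen (p ^ a) hF
  obtain ⟨j, hj⟩ := hζgen (Units.mk0 lam hlam0)
  have h1 : ζ ^ (j * (G * c')) = 1 := by
    rw [pow_mul, hj]
    apply Units.ext
    rw [Units.val_pow_eq_pow_val, Units.val_mk0, hlamh]
    rfl
  have h2 : (p ^ a) ^ 2 - 1 ∣ j * (G * c') := by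
    rw [← hζord]
    exact orderOf_dvd_of_pow_eq_one h1
  rw [sq_sub_one (p ^ a) (by omega), hq1half] at h2
  have h3 : 2 * (p ^ a - 1) ∣ j := by
    have h4 : (G * c') * (2 * (p ^ a - 1)) ∣ (G * c') * j := by
      have h5 : 2 * (G * c') * (p ^ a - 1) = (G * c') * (2 * (p ^ a - 1)) := by ring
      rw [← h5, mul_comm (G * c') j]
      exact h2
    exact Nat.dvd_of_mul_dvd_mul_left hGc'pos h4
  obtain ⟨j', hj'⟩ := h3
  obtain ⟨μ, hμ⟩ : ∃ μ : F, μ = ((ζ ^ ((p ^ a - 1) * j') : Fˣ) : F) := ⟨_, rfl⟩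
  have hμ2 : μ ^ 2 = lam := by
    rw [hμ, ← Units.val_pow_eq_pow_val, ← pow_mul]
    have h5 : (p ^ a - 1) * j' * 2 = j := by rw [hj']; ring
    rw [h5, hj]
    rfl
  have hμq : μ ^ (p ^ a + 1) = 1 := by
    rw [hμ, ← Units.val_pow_eq_pow_val, ← pow_mul]
    have h5 : (p ^ a - 1) * j' * (p ^ a + 1) = ((p ^ a) ^ 2 - 1) * j' := by
      rw [sq_sub_one (p ^ a) (by omega)]
      ring
    rw [h5, pow_mul, ← hζord, pow_orderOf_eq_one, one_pow]
    rfl
  obtain ⟨N2, hN2⟩ := hNNeven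
  have hN20 : 0 < N2 := by omega
  have hsq : (k₁ ^ N2 - algebraMap F (FiniteField.Extension F p m) μ) *
      (k₁ ^ N2 + algebraMap F (FiniteField.Extension F p m) μ) = 0 := by
    have h6 : k₁ ^ N2 * k₁ ^ N2 = algebraMap F (FiniteField.Extension F p m) μ *
        algebraMap F (FiniteField.Extension F p m) μ := by
      rw [← pow_add, ← two_mul, ← hN2, hkN, ← hμ2, pow_two, map_mul]
    linear_combination h6
  rcases mul_eq_zero.mp hsq with h | h
  · have h6 : k₁ ^ N2 = algebraMap F (FiniteField.Extension F p m) μ := sub_eq_zero.mp h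
    have h7 := hmin N2 μ ((hscal N2 μ).mpr ⟨h6, hμq⟩)
    have h8 := Nat.le_of_dvd hN20 h7
    omega
  · have h6 : k₁ ^ N2 = algebraMap F (FiniteField.Extension F p m) (-μ) := by
      rw [map_neg]
      exact eq_neg_of_add_eq_zero_left h
    have hμq' : (-μ) ^ (p ^ a + 1) = 1 := by
      rw [Even.neg_pow ⟨G * c', by omega⟩]
      exact hμq
    have h7 := hmin N2 (-μ) ((hscal N2 (-μ)).mpr ⟨h6, hμq'⟩)
    have h8 := Nat.le_of_dvd hN20 h7
    omega

omit [Fintype F] [Fact p.Prime] [CharP F p] in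
theorem even_of_val (q m : ℕ) (hm : 1 ≤ m) (hodd : Odd q)
    (hval : padicValNat 2 (q + 1) < padicValNat 2 (2 * m)) : Even m := by
  have h1 : 1 ≤ padicValNat 2 (q + 1) := by
    apply (padicValNat_dvd_iff_le (p := 2) (by omega : q + 1 ≠ 0)).mp
    rcases hodd with ⟨c, hc⟩
    exact ⟨c + 1, by omega⟩
  have h2 : 2 ^ 2 ∣ 2 * m := (padicValNat_dvd_iff_le (by omega)).mpr (by omega)
  obtain ⟨c, hc⟩ := h2
  exact ⟨c, by omega⟩

/-- The torus element with the right projective order. -/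
theorem exists_torus_elt (hF : Fintype.card F = (p ^ a) ^ 2) (m : ℕ) [NeZero m]
    (hm : 2 ≤ m) (hme : Even m) (hodd : Odd (p ^ a))
    (hval : padicValNat 2 (p ^ a + 1) < padicValNat 2 (2 * m)) :
    ∃ k : FiniteField.Extension F p m, k ≠ 0 ∧ (Algebra.norm F k) ^ (p ^ a - 1) = 1 ∧
      (∃ c₀ : F, k ^ ((p ^ a) ^ m + 1) = algebraMap F (FiniteField.Extension F p m) c₀ ∧
        c₀ ^ (p ^ a + 1) = 1) ∧
      ∀ i : ℕ, k ^ (i * (p ^ a + 1)) = 1 → ((p ^ a) ^ m + 1) ∣ i := by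
  obtain ⟨κ, hκ0, hκ1, hκord⟩ := L3Lower.exists_gen_ext (F := F) p m
  rw [hF] at hκ1 hκord
  obtain ⟨q, hq⟩ : ∃ q, q = p ^ a := ⟨_, rfl⟩
  rw [← hq] at hodd hval hκ1 hκord ⊢
  have hq3 : 3 ≤ q := by
    have h1 : 1 < q := by
      by_contra hle
      have hq01 : q = 0 ∨ q = 1 := by omega
      have h2 := Fintype.one_lt_card (α := F)
      rw [hF, ← hq] at h2
      rcases hq01 with h | h <;> rw [h] at h2 <;> norm_num at h2
    rcases hodd with ⟨c, hc⟩
    omega
  obtain ⟨m₂, hm₂⟩ := hme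
  have hQ2 : 2 ≤ q ^ 2 := by
    have : 3 * 3 ≤ q * q := Nat.mul_le_mul hq3 hq3
    rw [pow_two]
    omega
  obtain ⟨u, hu⟩ : ∃ u, u = ((q ^ 2) ^ m₂ - 1) / (q ^ 2 - 1) := ⟨_, rfl⟩
  have humul : (q ^ 2 - 1) * u = (q ^ 2) ^ m₂ - 1 := by
    rw [hu]
    exact OrdQm.geom_mul (q ^ 2) m₂ hQ2
  have humod : u ≡ m₂ [MOD q ^ 2 - 1] := by
    rw [hu]
    exact OrdQm.geom_modEq (q ^ 2) m₂ hQ2
  have hqm : q ^ m = (q ^ 2) ^ m₂ := by rw [← pow_mul, hm₂, two_mul]
  have hsq : q ^ 2 - 1 = (q + 1) * (q - 1) := sq_sub_one q (by omega)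
  obtain ⟨t, ht⟩ : ∃ t, t = (q - 1) * u := ⟨_, rfl⟩
  obtain ⟨NN, hNN⟩ : ∃ NN, NN = q ^ m + 1 := ⟨_, rfl⟩
  have hqm1 : q ^ m - 1 = (q + 1) * t := by
    rw [hqm, ← humul, hsq, ht]
    ring
  have hqmpos : 1 ≤ q ^ m := Nat.one_le_pow _ _ (by omega)
  have hL : (q ^ 2) ^ m - 1 = (q + 1) * t * NN := by
    rw [← pow_mul, mul_comm 2 m, pow_mul, sq_fac _ hqmpos, hqm1, hNN]
  have hLdiv : ((q ^ 2) ^ m - 1) / (q ^ 2 - 1) = u * NN := by
    have h1 : (q ^ 2) ^ m - 1 = (q ^ 2 - 1) * (u * NN) := by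
      rw [hL, hsq, ht]
      ring
    rw [h1]
    exact Nat.mul_div_cancel_left _ (by omega)
  obtain ⟨g0, hg0⟩ : ∃ g0, g0 = Nat.gcd (q + 1) m := ⟨_, rfl⟩
  obtain ⟨a', ha'⟩ : ∃ a', a' = (q + 1) / g0 := ⟨_, rfl⟩
  have hg0q : g0 ∣ q + 1 := by rw [hg0]; exact Nat.gcd_dvd_left _ _
  have hg0m : g0 ∣ m := by rw [hg0]; exact Nat.gcd_dvd_right _ _
  have hag : a' * g0 = q + 1 := by rw [ha']; exact Nat.div_mul_cancel hg0q
  have haq : a' ∣ q + 1 := ⟨g0, hag.symm⟩
  have htm : q + 1 ∣ t + m := by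
    have h1 : u ≡ m₂ [MOD q + 1] := Nat.ModEq.of_dvd ⟨q - 1, hsq⟩ humod
    have h2 : (q - 1) * u + m ≡ (q - 1) * m₂ + m [MOD q + 1] :=
      (h1.mul_left (q - 1)).add_right m
    have hq1 : q - 1 + 2 = q + 1 := by omega
    have h3 : (q - 1) * m₂ + m = (q + 1) * m₂ := by
      rw [hm₂]
      calc (q - 1) * m₂ + (m₂ + m₂) = (q - 1 + 2) * m₂ := by ring
        _ = (q + 1) * m₂ := by rw [hq1]
    rw [ht]
    exact (h2.dvd_iff (dvd_refl _)).mpr (by rw [h3]; exact dvd_mul_right _ _)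
  have hat : q + 1 ∣ a' * t := by
    have h1 : q + 1 ∣ a' * (t + m) := Dvd.dvd.mul_left htm a'
    have h2 : q + 1 ∣ a' * m := by
      obtain ⟨c, hc⟩ := hg0m
      exact ⟨c, by rw [hc, ← hag]; ring⟩
    rw [mul_add] at h1
    exact (Nat.dvd_add_left h2).mp h1
  have haodd : ¬ 2 ∣ a' := by
    intro h2
    obtain ⟨e2, he2⟩ : ∃ e2, e2 = padicValNat 2 (q + 1) := ⟨_, rfl⟩
    rw [← he2] at hval
    have h3 : 2 ^ e2 ∣ q + 1 := by rw [he2]; exact pow_padicValNat_dvd
    have h4 : 2 ^ (e2 + 1) ∣ 2 * m := (padicValNat_dvd_iff_le (by omega)).mpr hval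
    have h5 : 2 ^ e2 ∣ m := by
      rw [pow_succ, mul_comm] at h4
      exact Nat.dvd_of_mul_dvd_mul_left (by norm_num) h4
    have h6 : 2 ^ e2 ∣ g0 := by rw [hg0]; exact Nat.dvd_gcd h3 h5
    have h7 : 2 ^ (e2 + 1) ∣ q + 1 := by
      rw [← hag, pow_succ, mul_comm]
      exact Nat.mul_dvd_mul h2 h6
    have h8 := (padicValNat_dvd_iff_le (p := 2) (by omega : q + 1 ≠ 0)).mp h7
    omega
  have hcopNa : Nat.Coprime NN a' := by
    apply Nat.coprime_of_dvd
    intro l hl hlN hla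
    have h1 : l ∣ q + 1 := hla.trans haq
    have h2 : l ∣ q ^ m - 1 := by
      rw [hqm1]
      exact h1.mul_right t
    have h3 : l ∣ 2 := by
      have h4 : NN = (q ^ m - 1) + 2 := by omega
      rw [h4] at hlN
      exact (Nat.dvd_add_right h2).mp hlN
    have h5 : l = 2 := (Nat.prime_dvd_prime_iff_eq hl Nat.prime_two).mp h3
    rw [h5] at hla
    exact haodd hla
  have ht0 : 0 < t := by
    rcases Nat.eq_zero_or_pos t with h | h
    · rw [h, mul_zero] at hqm1
      have h1 : q ^ 1 ≤ q ^ m := Nat.pow_le_pow_right (by omega) (by omega)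
      rw [pow_one] at h1
      omega
    · exact h
  obtain ⟨k, hk⟩ : ∃ k : FiniteField.Extension F p m, k = κ ^ (t * a') := ⟨_, rfl⟩
  have hk0 : k ≠ 0 := by rw [hk]; exact pow_ne_zero _ hκ0
  have hnormpow : ∀ x : FiniteField.Extension F p m,
      algebraMap F (FiniteField.Extension F p m) (Algebra.norm F x) = x ^ (u * NN) := by
    intro x
    rw [FiniteField.algebraMap_norm_eq_pow, FiniteField.natCard_extension,
      Nat.card_eq_fintype_card, hF, ← hq, hLdiv]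
  have hnκ : Algebra.norm F κ ^ (q ^ 2 - 1) = 1 := by
    have h1 := FiniteField.pow_card_sub_one_eq_one (Algebra.norm F κ)
      (Algebra.norm_ne_zero_iff.mpr hκ0)
    rwa [hF, ← hq] at h1
  refine ⟨k, hk0, ?_, ⟨Algebra.norm F κ ^ ((q - 1) * a'), ?_, ?_⟩, fun i hi => ?_⟩
  · apply (algebraMap F (FiniteField.Extension F p m)).injective
    rw [map_pow, hnormpow, map_one, hk, ← pow_mul, ← pow_mul]
    obtain ⟨c, hc⟩ := hat
    have h1 : t * a' * (u * NN * (q - 1)) = ((q ^ 2) ^ m - 1) * c := by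
      rw [hL]
      calc t * a' * (u * NN * (q - 1)) = (a' * t) * ((q - 1) * u) * NN := by ring
        _ = (q + 1) * c * t * NN := by rw [hc, ← ht]
        _ = (q + 1) * t * NN * c := by ring
    rw [h1, pow_mul, hκ1, one_pow]
  · rw [map_pow, hnormpow, hk, ← hNN, ← pow_mul, ← pow_mul, ht]
    congr 1
    ring
  · rw [← pow_mul]
    have h1 : (q - 1) * a' * (q + 1) = (q ^ 2 - 1) * a' := by
      rw [hsq]
      ring
    rw [h1, pow_mul, hnκ, one_pow]
  · rw [hk, ← pow_mul] at hi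
    have h2 := hκord _ hi
    rw [hL] at h2
    have h3 : t * a' * (i * (q + 1)) = (q + 1) * t * (a' * i) := by ring
    rw [h3] at h2
    have h4 : NN ∣ a' * i := Nat.dvd_of_mul_dvd_mul_left (Nat.mul_pos (by omega) ht0) h2
    rw [← hNN]
    exact hcopNa.dvd_of_dvd_mul_left h4

/-- Existence of an element of order `q^m + 1`, `m` even. -/
theorem exists_order_u (ha : 1 ≤ a) (hF : Fintype.card F = (p ^ a) ^ 2) (m : ℕ) (hm : 2 ≤ m)
    (hme : Even m) (hodd : Odd (p ^ a))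
    (hval : padicValNat 2 (p ^ a + 1) < padicValNat 2 (2 * m)) :
    ∃ x : Cfsg.PSU (2 * m) F (p ^ a), orderOf x = (p ^ a) ^ m + 1 := by
  classical
  have hp : p.Prime := Fact.out
  have hq2 : 2 ≤ p ^ a := SpecPSU.two_le_q p a ha
  haveI : NeZero m := ⟨by omega⟩
  obtain ⟨σ, hσ⟩ : ∃ σ : F →+* F, ∀ c, σ c = c ^ (p ^ a) :=
    ⟨iterateFrobenius F p a, fun c => by rw [iterateFrobenius_def]⟩
  have hinv : IsInvol σ := isInvol_frob (p ^ a) hq2 hF σ hσ
  obtain ⟨k, hk0, hknorm, ⟨c₀, hkN, hc₀⟩, hkmin⟩ := exists_torus_elt p a hF m hm hme hodd hval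
  have hdim : Module.finrank F (FiniteField.Extension F p m) = m :=
    FiniteField.finrank_extension F p m
  haveI : CharP (FiniteField.Extension F p m) p :=
    charP_of_injective_algebraMap (algebraMap F (FiniteField.Extension F p m)).injective p
  have hKcard : ∀ x : FiniteField.Extension F p m, x ^ ((p ^ a) ^ (2 * m)) = x :=
    card_pow_eq p a hF (FiniteField.Extension F p m) m hdim
  obtain ⟨e, he⟩ : ∃ e, e = (p ^ a) ^ (2 * m - 1) := ⟨_, rfl⟩
  have hee : e * p ^ a = (p ^ a) ^ (2 * m) := by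
    rw [he, ← pow_succ, Nat.sub_add_cancel (by omega)]
  have hodd2 : Odd (2 * m - 1) := by
    rw [Nat.odd_iff]
    omega
  obtain ⟨τ, hτdef⟩ : ∃ τ : FiniteField.Extension F p m →+* FiniteField.Extension F p m,
      τ = iterateFrobenius (FiniteField.Extension F p m) p a := ⟨_, rfl⟩
  obtain ⟨τ', hτ'def⟩ : ∃ τ' : FiniteField.Extension F p m →+* FiniteField.Extension F p m,
      τ' = iterateFrobenius (FiniteField.Extension F p m) p (a * (2 * m - 1)) := ⟨_, rfl⟩
  have hτ : ∀ z, τ z = z ^ (p ^ a) := by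
    intro z
    rw [hτdef, iterateFrobenius_def]
  have hτ' : ∀ z, τ' z = z ^ e := by
    intro z
    rw [hτ'def, iterateFrobenius_def, pow_mul, he]
  have h1 : ∀ z, τ (τ' z) = z := by
    intro z
    rw [hτ, hτ', ← pow_mul, hee, hKcard]
  have h2 : ∀ z, τ' (τ z) = z := by
    intro z
    rw [hτ, hτ', ← pow_mul, mul_comm, hee, hKcard]
  have hτtr : ∀ z, Algebra.trace F (FiniteField.Extension F p m) (τ z) =
      σ (Algebra.trace F (FiniteField.Extension F p m) z) := by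
    intro z
    rw [hτdef, iterateFrobenius_def, trace_pow_char_pow F (FiniteField.Extension F p m) p a z, hσ]
  have hτ'tr : ∀ z, Algebra.trace F (FiniteField.Extension F p m) (τ' z) =
      σ (Algebra.trace F (FiniteField.Extension F p m) z) := by
    intro z
    rw [hτ'def, iterateFrobenius_def,
      trace_pow_char_pow F (FiniteField.Extension F p m) p (a * (2 * m - 1)) z, pow_mul,
      pow_q_odd_F p a hF _ _ hodd2, hσ]
  have hH := isHerm_hypH F (FiniteField.Extension F p m) σ τ τ' hτtr hτ'tr h1 h2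
  have hnd := hypH_nondeg F (FiniteField.Extension F p m) τ τ' h1 h2
  have hdim2 : Module.finrank F (FiniteField.Extension F p m × FiniteField.Extension F p m) =
      2 * m := by
    rw [Module.finrank_prod, hdim]
    ring
  have hdetk : LinearMap.det (UTorus.torusMap F e k) = 1 := by
    obtain ⟨ν, hν⟩ : ∃ ν : F, ν = Algebra.norm F k := ⟨_, rfl⟩
    have hν0 : ν ≠ 0 := by rw [hν]; exact Algebra.norm_ne_zero_iff.mpr hk0
    have hνq : ν ^ (p ^ a) = ν := by
      have h3 : ν ^ (p ^ a - 1) * ν = ν := by rw [hν, hknorm, one_mul]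
      have h4 : ν ^ (p ^ a - 1) * ν = ν ^ (p ^ a) := by
        rw [← pow_succ, Nat.sub_add_cancel (by omega)]
      rw [← h4, h3]
    have hninv : Algebra.norm F (k⁻¹) = ν⁻¹ := by
      have h3 : Algebra.norm F (k⁻¹) * Algebra.norm F k = 1 := by
        rw [← map_mul, inv_mul_cancel₀ hk0, map_one]
      rw [hν]
      exact eq_inv_of_mul_eq_one_left h3
    have hd1 : LinearMap.det (LinearMap.mul F (FiniteField.Extension F p m) k) = ν := by
      rw [hν, Algebra.norm_apply]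
      rfl
    have hd2 : LinearMap.det (LinearMap.mul F (FiniteField.Extension F p m) ((k⁻¹) ^ e)) =
        (ν⁻¹) ^ e := by
      rw [← hninv, ← map_pow, Algebra.norm_apply]
      rfl
    rw [UTorus.torusMap, LinearMap.det_prodMap, hd1, hd2, inv_pow, he,
      pow_q_odd_F p a hF ν _ hodd2, hνq, mul_inv_cancel₀ hν0]
  obtain ⟨g, Φ, hΦ, -⟩ := exists_of_model hinv (p ^ a) hσ (2 * m)
    (FiniteField.Extension F p m × FiniteField.Extension F p m)
    (hypH F (FiniteField.Extension F p m) τ τ') hH hnd hdim2 (UTorus.torusMap F e k)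
    (upres_hyp F (FiniteField.Extension F p m) τ τ' _ _
      (by rw [hτ, ← pow_mul, hee, hKcard, mul_inv_cancel₀ hk0])
      (by rw [hτ', ← mul_pow, inv_mul_cancel₀ hk0, one_pow]))
    hdetk
  have hscal : ∀ (i : ℕ) (c : F),
      toEnd g.1 ^ i = c • (1 : Module.End F (Fin (2 * m) → F)) ↔
      (k ^ i = algebraMap F (FiniteField.Extension F p m) c ∧ c ^ (p ^ a + 1) = 1) := by
    intro i c
    rw [conj_pow_eq_smul_iff Φ (toEnd g.1) (UTorus.torusMap F e k) hΦ i c, ← torusMap_pow, he,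
      torus_eq_smul_iff p a hF m (by omega) (k ^ i) (pow_ne_zero _ hk0) c]
  refine ⟨QuotientGroup.mk g, Nat.dvd_antisymm ?_ ?_⟩
  · apply orderOf_dvd_of_pow_eq_one
    rw [mk_pow_eq_one_iff (p ^ a) hq2 hF (by omega)]
    exact ⟨c₀, (hscal _ c₀).mpr ⟨hkN, hc₀⟩⟩
  · have h3 := pow_orderOf_eq_one (QuotientGroup.mk g : Cfsg.PSU (2 * m) F (p ^ a))
    rw [mk_pow_eq_one_iff (p ^ a) hq2 hF (by omega)] at h3
    obtain ⟨c, hc⟩ := h3
    obtain ⟨h4, h5⟩ := (hscal _ c).mp hc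
    apply hkmin
    rw [pow_mul, h4, ← map_pow, h5, map_one]

end main

end Cfsg.Agent.Helper42.OrdQmU
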