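import Mathlib
import Cfsg.Agent.Helper42.SpGroup
import Cfsg.Agent.Helper42.SpModels
import Cfsg.Agent.Helper42.SpStruct

set_option autoImplicit false

/-!
# Covering element orders of `PSp_{2n}(q)`, `q` odd (helper42)

* `absorb` : an orthogonally decomposable element can be multiplied by a commuting involution;
* `indec_data` : the order of an orthogonally indecomposable element of odd projective order;
* `cover3`, `cover2` : the covering lemmas for the spectrum of direct powers of `PSp_{2n}(q)`.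
-/

namespace Cfsg.Agent.Helper42.SpecPSp

open SpForm SpGroup SpStruct SpModels Polynomial

variable {F : Type*} [Field F] {n : ℕ}

/-- `PSp_{2n}(F)` as a quotient of Mathlib's symplectic group. -/
abbrev PSpQ (n : ℕ) (F : Type*) [Field F] : Type _ :=
  Matrix.symplecticGroup (Fin n) F ⧸ Subgroup.center (Matrix.symplecticGroup (Fin n) F)

/-- An orthogonally decomposable element commutes with an element of projective order two. -/
theorem exists_commute_involution (h2 : (2 : F) ≠ 0) (g : Matrix.symplecticGroup (Fin n) F)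
    (hdec : OrthDec (stdForm n) (toEnd g)) :
    ∃ h : Matrix.symplecticGroup (Fin n) F, Commute g h ∧
      orderOf (QuotientGroup.mk h : PSpQ n F) = 2 := by
  classical
  obtain ⟨V₁, V₂, hc, h1, h2', hi1, hi2, horth⟩ := hdec
  have hskew := skew_of_alt (stdForm (F := F) n) (stdForm_self n)
  obtain ⟨T, hT⟩ : ∃ T, T = toEnd g := ⟨_, rfl⟩
  rw [← hT] at hi1 hi2
  let D : Module.End F (Fin n ⊕ Fin n → F) := LinearMap.ofIsCompl hc (-V₁.subtype) V₂.subtype
  have hD1 : ∀ v ∈ V₁, D v = -v := fun v hv => by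
    have := LinearMap.ofIsCompl_apply_left hc (φ := -V₁.subtype) (ψ := V₂.subtype) ⟨v, hv⟩
    simpa using this
  have hD2 : ∀ v ∈ V₂, D v = v := fun v hv => by
    have := LinearMap.ofIsCompl_apply_right hc (φ := -V₁.subtype) (ψ := V₂.subtype) ⟨v, hv⟩
    simpa using this
  have hdecomp : ∀ v, ∃ v₁ ∈ V₁, ∃ v₂ ∈ V₂, v = v₁ + v₂ := by
    intro v
    have : v ∈ V₁ ⊔ V₂ := by rw [hc.sup_eq_top]; trivial
    obtain ⟨v₁, hv₁, v₂, hv₂, rfl⟩ := Submodule.mem_sup.mp this
    exact ⟨v₁, hv₁, v₂, hv₂, rfl⟩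
  have hDB : Preserves (stdForm n) D := by
    intro x y
    obtain ⟨x₁, hx₁, x₂, hx₂, rfl⟩ := hdecomp x
    obtain ⟨y₁, hy₁, y₂, hy₂, rfl⟩ := hdecomp y
    have e1 : stdForm n x₁ y₂ = 0 := horth x₁ hx₁ y₂ hy₂
    have e2 : stdForm n x₂ y₁ = 0 := by rw [hskew, horth y₁ hy₁ x₂ hx₂, neg_zero]
    simp only [map_add, hD1 _ hx₁, hD2 _ hx₂, hD1 _ hy₁, hD2 _ hy₂, LinearMap.add_apply, map_neg,
      LinearMap.neg_apply, neg_neg, e1, e2, neg_zero, add_zero, zero_add]
  have hTD : T * D = D * T := by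
    apply LinearMap.ext
    intro v
    obtain ⟨v₁, hv₁, v₂, hv₂, rfl⟩ := hdecomp v
    have ht1 : T v₁ ∈ V₁ := hi1 v₁ hv₁
    have ht2 : T v₂ ∈ V₂ := hi2 v₂ hv₂
    simp only [Module.End.mul_apply, map_add, hD1 v₁ hv₁, hD2 v₂ hv₂, hD1 _ ht1, hD2 _ ht2,
      map_neg]
  have hDD : D * D = 1 := by
    apply LinearMap.ext
    intro v
    obtain ⟨v₁, hv₁, v₂, hv₂, rfl⟩ := hdecomp v
    simp only [Module.End.mul_apply, map_add, hD1 v₁ hv₁, hD2 v₂ hv₂, map_neg, neg_neg,
      Module.End.one_apply]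
  have hne_zero : ∀ v : Fin n ⊕ Fin n → F, v = -v → v = 0 := by
    intro v hv
    have h3 : (2 : F) • v = 0 := by
      rw [two_smul]
      nth_rewrite 1 [hv]
      exact neg_add_cancel v
    exact (smul_eq_zero.mp h3).resolve_left h2
  have hDne1 : D ≠ 1 := by
    intro h
    obtain ⟨v₁, hv₁, hv₁0⟩ := Submodule.exists_mem_ne_zero_of_ne_bot h1
    have h3 := congrArg (fun f : Module.End F (Fin n ⊕ Fin n → F) => f v₁) h
    simp only [hD1 v₁ hv₁, Module.End.one_apply] at h3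
    exact hv₁0 (hne_zero v₁ h3.symm)
  have hDne2 : D ≠ -1 := by
    intro h
    obtain ⟨v₂, hv₂, hv₂0⟩ := Submodule.exists_mem_ne_zero_of_ne_bot h2'
    have h3 := congrArg (fun f : Module.End F (Fin n ⊕ Fin n → F) => f v₂) h
    simp only [hD2 v₂ hv₂, LinearMap.neg_apply, Module.End.one_apply] at h3
    exact hv₂0 (hne_zero v₂ h3)
  refine ⟨ofEnd D hDB, ?_, ?_⟩
  · apply toEnd_injective
    rw [toEnd_mul, toEnd_mul, toEnd_ofEnd, ← hT]
    exact hTD
  · have key : ∀ k : ℕ, (QuotientGroup.mk (ofEnd D hDB) : PSpQ n F) ^ k = 1 ↔ 2 ∣ k := by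
      intro k
      rw [mk_pow_eq_one_iff, toEnd_ofEnd]
      constructor
      · intro h
        by_contra hk
        obtain ⟨m, hm⟩ : ∃ m, k = 2 * m + 1 := ⟨k / 2, by omega⟩
        rw [hm, pow_succ, pow_mul, pow_two, hDD, one_pow, one_mul] at h
        rcases h with h | h
        · exact hDne1 h
        · exact hDne2 h
      · rintro ⟨m, rfl⟩
        left
        rw [pow_mul, pow_two, hDD, one_pow]
    exact Nat.dvd_antisymm (orderOf_dvd_of_pow_eq_one ((key 2).mpr dvd_rfl))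
      ((key _).mp (pow_orderOf_eq_one _))

/-- Absorbing the prime `2` into an orthogonally decomposable element. -/
theorem absorb (h2 : (2 : F) ≠ 0) (g : Matrix.symplecticGroup (Fin n) F)
    (hdec : OrthDec (stdForm n) (toEnd g)) :
    ∃ x' : PSpQ n F, ∀ k : ℕ, x' ^ k = 1 →
      (QuotientGroup.mk g : PSpQ n F) ^ k = 1 ∧ 2 ∣ k := by
  obtain ⟨h, hcomm, hord⟩ := exists_commute_involution h2 g hdec
  by_cases hdiv : 2 ∣ orderOf (QuotientGroup.mk g : PSpQ n F)
  · exact ⟨QuotientGroup.mk g, fun k hk => ⟨hk, hdiv.trans (orderOf_dvd_of_pow_eq_one hk)⟩⟩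
  · have hcop : Nat.Coprime (orderOf (QuotientGroup.mk g : PSpQ n F))
        (orderOf (QuotientGroup.mk h : PSpQ n F)) := by
      rw [hord]
      exact Nat.Coprime.symm ((Nat.Prime.coprime_iff_not_dvd Nat.prime_two).mpr hdiv)
    have hc' : Commute (QuotientGroup.mk g : PSpQ n F) (QuotientGroup.mk h) :=
      hcomm.map (QuotientGroup.mk' _)
    have hmul := hc'.orderOf_mul_eq_mul_orderOf_of_coprime hcop
    refine ⟨QuotientGroup.mk g * QuotientGroup.mk h, fun k hk => ?_⟩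
    have hd := orderOf_dvd_of_pow_eq_one hk
    rw [hmul, hord] at hd
    exact ⟨orderOf_dvd_iff_pow_eq_one.mp ((dvd_mul_right _ _).trans hd), (dvd_mul_left _ _).trans hd⟩

section finite

variable [Fintype F]

omit [Fintype F] in
theorem finrank_std (n : ℕ) : Module.finrank F (Fin n ⊕ Fin n → F) = 2 * n := by
  rw [Module.finrank_fintype_fun_eq_card, Fintype.card_sum, Fintype.card_fin]
  ring

/-- The order of an orthogonally indecomposable element of odd projective order. -/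
theorem indec_data (p : ℕ) [Fact p.Prime] [CharP F p] (hp2 : p ≠ 2) (hn : 1 ≤ n)
    (g : Matrix.symplecticGroup (Fin n) F) (hg : ¬ OrthDec (stdForm n) (toEnd g))
    (hodd : ¬ 2 ∣ orderOf (QuotientGroup.mk g : PSpQ n F)) :
    ∃ a' b : ℕ, orderOf (QuotientGroup.mk g : PSpQ n F) = p ^ b * a' ∧ Nat.Coprime (p ^ b) a' ∧
      ((a' = 1 ∧ ∀ j, 2 * n ≤ p ^ j → b ≤ j) ∨
       (∃ e, 1 ≤ e ∧ e ∣ n ∧ a' ∣ Fintype.card F ^ e + 1 ∧ ∀ j, n ≤ e * p ^ j → b ≤ j) ∨
       (∃ d, 1 ≤ d ∧ d ∣ n ∧ a' ∣ Fintype.card F ^ d - 1 ∧ ∀ j, n ≤ d * p ^ j → b ≤ j)) := by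
  classical
  have hp : p.Prime := Fact.out
  obtain ⟨N, hN⟩ : ∃ N, N = orderOf (QuotientGroup.mk g : PSpQ n F) := ⟨_, rfl⟩
  rw [← hN] at hodd ⊢
  have hN0 : N ≠ 0 := by rw [hN]; exact (orderOf_pos _).ne'
  obtain ⟨b, hb⟩ : ∃ b, b = N.factorization p := ⟨_, rfl⟩
  obtain ⟨a', ha'⟩ : ∃ a', a' = ordCompl[p] N := ⟨_, rfl⟩
  have hNab : N = p ^ b * a' := by
    rw [hb, ha']
    exact (Nat.ordProj_mul_ordCompl_eq_self N p).symm
  have hcop : Nat.Coprime (p ^ b) a' := by
    rw [ha']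
    exact (Nat.coprime_ordCompl hp hN0).pow_left b
  have ha'odd : ¬ 2 ∣ a' := fun h => hodd (hNab ▸ h.mul_left _)
  have hpa' : ¬ p ∣ a' := by
    rw [ha']
    exact Nat.not_dvd_ordCompl hp hN0
  have ha'pos : 0 < a' := by
    rw [ha']
    exact Nat.ordCompl_pos p hN0
  obtain ⟨T, hT⟩ : ∃ T, T = toEnd g := ⟨_, rfl⟩
  rw [← hT] at hg
  have hTk : ∀ k : ℕ, T ^ k = 1 → N ∣ k := by
    intro k hk
    rw [hN]
    apply orderOf_dvd_of_pow_eq_one
    rw [mk_pow_eq_one_iff, ← hT]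
    exact Or.inl hk
  have hT2N : T ^ (2 * N) = 1 := by
    have h1 := pow_orderOf_eq_one (QuotientGroup.mk g : PSpQ n F)
    rw [mk_pow_eq_one_iff, ← hT, ← hN] at h1
    rw [mul_comm, pow_mul]
    rcases h1 with h1 | h1
    · rw [h1, one_pow]
    · rw [h1]
      apply LinearMap.ext
      intro x
      simp [pow_two]
  obtain ⟨s, hs⟩ : ∃ s, s = T ^ (p ^ b) := ⟨_, rfl⟩
  obtain ⟨u, hu⟩ : ∃ u, u = T ^ (2 * a') := ⟨_, rfl⟩
  have hsM : s ^ (2 * a') = 1 := by
    rw [hs, ← pow_mul, ← hT2N]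
    congr 1
    rw [hNab]
    ring
  have hub : u ^ (p ^ b) = 1 := by
    rw [hu, ← pow_mul, ← hT2N]
    congr 1
    rw [hNab]
    ring
  have hsT : Commute s T := by rw [hs]; exact (Commute.refl T).pow_left _
  have hus : Commute u s := by rw [hu, hs]; exact ((Commute.refl T).pow_left _).pow_right _
  have hsB : Preserves (stdForm n) s := by rw [hs, hT]; exact (preserves_toEnd g).pow _
  have hss : s.IsSemisimple := by
    have hcast : ((2 * a' : ℕ) : F) ≠ 0 := by
      rw [Ne, CharP.cast_eq_zero_iff F p]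
      intro hdvd
      rcases (Nat.Prime.dvd_mul hp).mp hdvd with h | h
      · exact hp2 ((Nat.prime_dvd_prime_iff_eq hp Nat.prime_two).mp h)
      · exact hpa' h
    have hsep : (X ^ (2 * a') - C (1 : F) : F[X]).Separable :=
      separable_X_pow_sub_C 1 hcast one_ne_zero
    apply Module.End.isSemisimple_of_squarefree_aeval_eq_zero hsep.squarefree
    rw [map_sub, map_pow, aeval_X, aeval_C, hsM, map_one, sub_self]
  have hstruct := struct p (stdForm (F := F) n) n hn (stdForm_nondeg n) (finrank_std n) T hg s hsT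
    hsB (2 * a') (by omega) hsM hss u hus b hub
  have hs_dvd : ∀ k : ℕ, s ^ k = 1 → a' ∣ k := by
    intro k hk
    rw [hs, ← pow_mul] at hk
    have h1 := hTk _ hk
    rw [hNab] at h1
    exact Nat.dvd_of_mul_dvd_mul_left (pow_pos hp.pos b) h1
  have hu_le : ∀ j : ℕ, u ^ (p ^ j) = 1 → b ≤ j := by
    intro j hj
    rw [hu, ← pow_mul] at hj
    have h1 := hTk _ hj
    rw [hNab] at h1
    have h2 : p ^ b ∣ 2 * a' * p ^ j := (dvd_mul_right _ _).trans h1
    have hcop2 : Nat.Coprime (p ^ b) (2 * a') :=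
      Nat.Coprime.mul_right
        (Nat.Coprime.pow_left _ ((Nat.coprime_primes hp Nat.prime_two).mpr hp2)) hcop
    have h3 : p ^ b ∣ p ^ j := hcop2.dvd_of_dvd_mul_left h2
    exact (Nat.pow_dvd_pow_iff_le_right hp.one_lt).mp h3
  refine ⟨a', b, hNab, hcop, ?_⟩
  rcases hstruct with h | ⟨e, he1, hen, hse, hue⟩ | ⟨d, hd1, hdn, hsd, hud⟩
  · left
    have h1 := hs_dvd 2 h
    have h3 : a' = 1 := by
      have hle := Nat.le_of_dvd (by norm_num) h1
      rcases Nat.lt_or_ge a' 2 with h4 | h4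
      · omega
      · have : a' = 2 := le_antisymm hle h4
        exact absurd (this.symm ▸ dvd_refl a') ha'odd
    refine ⟨h3, fun j hj => hu_le j ?_⟩
    haveI : Nontrivial (Fin n ⊕ Fin n → F) :=
      Module.nontrivial_of_finrank_pos (R := F) (by rw [finrank_std]; omega)
    exact unipotent_pow p u b hub j (by rw [finrank_std]; exact hj)
  · right
    left
    exact ⟨e, he1, hen, hs_dvd _ hse, fun j hj => hu_le j (hue j hj)⟩
  · right
    right
    exact ⟨d, hd1, hdn, hs_dvd _ hsd, fun j hj => hu_le j (hud j hj)⟩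

end finite

section cover

variable [Fintype F]

omit [Fintype F] in
theorem two_ne_zero_of_char (p : ℕ) [Fact p.Prime] [CharP F p] (hp2 : p ≠ 2) : (2 : F) ≠ 0 := by
  have hp : p.Prime := Fact.out
  intro h
  have h1 : ((2 : ℕ) : F) = 0 := by exact_mod_cast h
  rw [CharP.cast_eq_zero_iff F p] at h1
  exact hp2 ((Nat.prime_dvd_prime_iff_eq hp Nat.prime_two).mp h1)

omit [Fintype F] in
/-- Elements of even order and orthogonally decomposable elements absorb the prime `2`. -/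
theorem good_absorb (h2 : (2 : F) ≠ 0) (g : Matrix.symplecticGroup (Fin n) F)
    (h : 2 ∣ orderOf (QuotientGroup.mk g : PSpQ n F) ∨ OrthDec (stdForm n) (toEnd g)) :
    ∃ x' : PSpQ n F, ∀ k : ℕ, x' ^ k = 1 →
      (QuotientGroup.mk g : PSpQ n F) ^ k = 1 ∧ 2 ∣ k := by
  rcases h with h | h
  · exact ⟨QuotientGroup.mk g, fun k hk => ⟨hk, h.trans (orderOf_dvd_of_pow_eq_one hk)⟩⟩
  · exact absorb h2 g h

/-- The `p'`-part of the order of an indecomposable element of odd order divides `q^n ± 1`. -/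
theorem indec_torus (p : ℕ) [Fact p.Prime] [CharP F p] (hp2 : p ≠ 2) (hn : 1 ≤ n)
    (g : Matrix.symplecticGroup (Fin n) F) (hg : ¬ OrthDec (stdForm n) (toEnd g))
    (hodd : ¬ 2 ∣ orderOf (QuotientGroup.mk g : PSpQ n F)) :
    ∃ a' b : ℕ, orderOf (QuotientGroup.mk g : PSpQ n F) = p ^ b * a' ∧ Nat.Coprime (p ^ b) a' ∧
      (a' ∣ Fintype.card F ^ n + 1 ∨ a' ∣ Fintype.card F ^ n - 1) := by
  obtain ⟨a', b, hN, hcop, hcases⟩ := indec_data p hp2 hn g hg hodd
  refine ⟨a', b, hN, hcop, ?_⟩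
  obtain ⟨q, hq⟩ : ∃ q, q = Fintype.card F := ⟨_, rfl⟩
  rw [← hq] at hcases ⊢
  rcases hcases with ⟨h1, -⟩ | ⟨e, he1, ⟨c, rfl⟩, hae, -⟩ | ⟨d, hd1, hdn, had, -⟩
  · left
    rw [h1]
    exact one_dvd _
  · by_cases hc : Odd c
    · left
      have h3 := Odd.nat_add_dvd_pow_add_pow (q ^ e) 1 hc
      rw [one_pow, ← pow_mul] at h3
      exact hae.trans h3
    · right
      rw [Nat.not_odd_iff_even] at hc
      obtain ⟨c', rfl⟩ := hc
      have h3 : q ^ e + 1 ∣ q ^ (2 * e) - 1 := by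
        have h4 : q ^ (2 * e) - 1 = (q ^ e) ^ 2 - 1 ^ 2 := by rw [one_pow, ← pow_mul, mul_comm]
        rw [h4, Nat.sq_sub_sq]
        exact dvd_mul_right _ _
      have h5 : q ^ (2 * e) - 1 ∣ q ^ (e * (c' + c')) - 1 :=
        Nat.pow_sub_one_dvd_pow_sub_one q ⟨c', by ring⟩
      exact hae.trans (h3.trans h5)
  · right
    exact had.trans (Nat.pow_sub_one_dvd_pow_sub_one q hdn)

omit [Fintype F] in
theorem two_dvd_of_torus (Q k : ℕ) (hQ : Odd Q) (d1 : Q + 1 ∣ 2 * k) (d2 : Q - 1 ∣ 2 * k) :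
    2 ∣ k := by
  have hQ2 : Q % 2 = 1 := Nat.odd_iff.mp hQ
  have h4 : 4 ∣ 2 * k := by
    rcases (by omega : Q % 4 = 1 ∨ Q % 4 = 3) with h | h
    · exact (Nat.dvd_of_mod_eq_zero (by omega) : 4 ∣ Q - 1).trans d2
    · exact (Nat.dvd_of_mod_eq_zero (by omega) : 4 ∣ Q + 1).trans d1
  omega

/-- Three elements of `PSp_{2n}(q)` can be replaced by three elements covering their orders and
the prime `2`. -/
theorem cover3 (p : ℕ) [Fact p.Prime] [CharP F p] (hp2 : p ≠ 2) (hq : Odd (Fintype.card F))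
    (hn : 1 ≤ n) (x y z : PSpQ n F) :
    ∃ x' y' z' : PSpQ n F, ∀ k : ℕ, x' ^ k = 1 → y' ^ k = 1 → z' ^ k = 1 →
      (x ^ k = 1 ∧ y ^ k = 1 ∧ z ^ k = 1 ∧ 2 ∣ k) := by
  have hp : p.Prime := Fact.out
  have h2 : (2 : F) ≠ 0 := two_ne_zero_of_char p hp2
  obtain ⟨g₁, rfl⟩ := QuotientGroup.mk_surjective x
  obtain ⟨g₂, rfl⟩ := QuotientGroup.mk_surjective y
  obtain ⟨g₃, rfl⟩ := QuotientGroup.mk_surjective z
  by_cases h1 : 2 ∣ orderOf (QuotientGroup.mk g₁ : PSpQ n F) ∨ OrthDec (stdForm n) (toEnd g₁)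
  · obtain ⟨x', hx'⟩ := good_absorb h2 g₁ h1
    exact ⟨x', _, _, fun k hx hy hz => ⟨(hx' k hx).1, hy, hz, (hx' k hx).2⟩⟩
  by_cases h2' : 2 ∣ orderOf (QuotientGroup.mk g₂ : PSpQ n F) ∨ OrthDec (stdForm n) (toEnd g₂)
  · obtain ⟨y', hy'⟩ := good_absorb h2 g₂ h2'
    exact ⟨_, y', _, fun k hx hy hz => ⟨hx, (hy' k hy).1, hz, (hy' k hy).2⟩⟩
  by_cases h3 : 2 ∣ orderOf (QuotientGroup.mk g₃ : PSpQ n F) ∨ OrthDec (stdForm n) (toEnd g₃)
  · obtain ⟨z', hz'⟩ := good_absorb h2 g₃ h3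
    exact ⟨_, _, z', fun k hx hy hz => ⟨hx, hy, (hz' k hz).1, (hz' k hz).2⟩⟩
  push Not at h1 h2' h3
  obtain ⟨γp, hγp⟩ := exists_torus_plus F p h2 n hn
  obtain ⟨γm, hγm⟩ := exists_torus_minus F p n hn
  obtain ⟨t, ht1, ht2, ht3⟩ : ∃ t : Matrix.symplecticGroup (Fin n) F,
      (orderOf (QuotientGroup.mk g₁ : PSpQ n F)).factorization p ≤
        (orderOf (QuotientGroup.mk t : PSpQ n F)).factorization p ∧
      (orderOf (QuotientGroup.mk g₂ : PSpQ n F)).factorization p ≤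
        (orderOf (QuotientGroup.mk t : PSpQ n F)).factorization p ∧
      (orderOf (QuotientGroup.mk g₃ : PSpQ n F)).factorization p ≤
        (orderOf (QuotientGroup.mk t : PSpQ n F)).factorization p := by
    by_cases hab : (orderOf (QuotientGroup.mk g₁ : PSpQ n F)).factorization p ≤
        (orderOf (QuotientGroup.mk g₂ : PSpQ n F)).factorization p
    · by_cases hbc : (orderOf (QuotientGroup.mk g₂ : PSpQ n F)).factorization p ≤
          (orderOf (QuotientGroup.mk g₃ : PSpQ n F)).factorization p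
      · exact ⟨g₃, hab.trans hbc, hbc, le_rfl⟩
      · exact ⟨g₂, hab, le_rfl, (not_le.mp hbc).le⟩
    · by_cases hac : (orderOf (QuotientGroup.mk g₁ : PSpQ n F)).factorization p ≤
          (orderOf (QuotientGroup.mk g₃ : PSpQ n F)).factorization p
      · exact ⟨g₃, hac, ((not_le.mp hab).le).trans hac, le_rfl⟩
      · exact ⟨g₁, le_rfl, (not_le.mp hab).le, (not_le.mp hac).le⟩
  refine ⟨QuotientGroup.mk γp, QuotientGroup.mk γm, QuotientGroup.mk t, fun k hk1 hk2 hk3 => ?_⟩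
  have d1 := hγp k ((mk_pow_eq_one_iff γp k).mp hk1)
  have d2 := hγm k ((mk_pow_eq_one_iff γm k).mp hk2)
  have d3 := orderOf_dvd_of_pow_eq_one hk3
  have hQ : Odd (Fintype.card F ^ n) := hq.pow
  have key : ∀ g : Matrix.symplecticGroup (Fin n) F,
      (¬ 2 ∣ orderOf (QuotientGroup.mk g : PSpQ n F) ∧ ¬ OrthDec (stdForm n) (toEnd g)) →
      (orderOf (QuotientGroup.mk g : PSpQ n F)).factorization p ≤
        (orderOf (QuotientGroup.mk t : PSpQ n F)).factorization p →
      (QuotientGroup.mk g : PSpQ n F) ^ k = 1 := by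
    intro g hg hle
    obtain ⟨a', b, hN, hcop, hdiv⟩ := indec_torus p hp2 hn g hg.2 hg.1
    rw [← orderOf_dvd_iff_pow_eq_one]
    have hN0 : orderOf (QuotientGroup.mk g : PSpQ n F) ≠ 0 := (orderOf_pos _).ne'
    have ha'odd : Nat.Coprime a' 2 := by
      rw [Nat.coprime_comm, Nat.Prime.coprime_iff_not_dvd Nat.prime_two]
      intro h
      exact hg.1 (hN ▸ h.mul_left _)
    have h5 : a' ∣ 2 * k := by
      rcases hdiv with h | h
      · exact h.trans d1
      · exact h.trans d2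
    have h6 : a' ∣ k := ha'odd.dvd_of_dvd_mul_left h5
    have h7 : p ^ b ∣ orderOf (QuotientGroup.mk g : PSpQ n F) := hN ▸ dvd_mul_right _ _
    have h8 : b ≤ (orderOf (QuotientGroup.mk g : PSpQ n F)).factorization p :=
      (hp.pow_dvd_iff_le_factorization hN0).mp h7
    have h9 : p ^ b ∣ k :=
      ((Nat.pow_dvd_pow p (h8.trans hle)).trans (Nat.ordProj_dvd _ _)).trans d3
    rw [hN]
    exact Nat.Coprime.mul_dvd_of_dvd_of_dvd hcop h9 h6
  exact ⟨key g₁ h1 ht1, key g₂ h2' ht2, key g₃ h3 ht3, two_dvd_of_torus _ k hQ d1 d2⟩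

end cover

section cover2

variable [Fintype F]

omit [Fintype F] in
/-- From a model element to a covering element of `PSp`. -/
theorem cover_of_model (g g' : Matrix.symplecticGroup (Fin n) F) (p a' b m j : ℕ)
    (hN : orderOf (QuotientGroup.mk g : PSpQ n F) = p ^ b * a') (hcop : Nat.Coprime (p ^ b) a')
    (hm2 : 2 ∣ m) (ham : a' ∣ m) (hbj : b ≤ j + 1)
    (hg' : ∀ i : ℕ, (toEnd g' ^ i = 1 ∨ toEnd g' ^ i = -1) → m ∣ i ∧ p ^ (j + 1) ∣ i) :
    ∃ w : PSpQ n F, ∀ k : ℕ, w ^ k = 1 → (QuotientGroup.mk g : PSpQ n F) ^ k = 1 ∧ 2 ∣ k := by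
  refine ⟨QuotientGroup.mk g', fun k hk => ?_⟩
  obtain ⟨h1, h3⟩ := hg' k ((mk_pow_eq_one_iff g' k).mp hk)
  refine ⟨?_, hm2.trans h1⟩
  rw [← orderOf_dvd_iff_pow_eq_one, hN]
  exact Nat.Coprime.mul_dvd_of_dvd_of_dvd hcop ((Nat.pow_dvd_pow p hbj).trans h3) (ham.trans h1)

/-- An indecomposable element of odd order lies in a cyclic torus or its order can be doubled. -/
theorem indec_cases (p : ℕ) [Fact p.Prime] [CharP F p] (hp2 : p ≠ 2) (hq : Odd (Fintype.card F))
    (hn : 2 ≤ n) (hnp : ¬ ∃ j : ℕ, 2 * n - 1 = p ^ j)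
    (g : Matrix.symplecticGroup (Fin n) F) (hg : ¬ OrthDec (stdForm n) (toEnd g))
    (hodd : ¬ 2 ∣ orderOf (QuotientGroup.mk g : PSpQ n F)) :
    orderOf (QuotientGroup.mk g : PSpQ n F) ∣ Fintype.card F ^ n + 1 ∨
    orderOf (QuotientGroup.mk g : PSpQ n F) ∣ Fintype.card F ^ n - 1 ∨
    ∃ w : PSpQ n F, ∀ k : ℕ, w ^ k = 1 → (QuotientGroup.mk g : PSpQ n F) ^ k = 1 ∧ 2 ∣ k := by
  have hp : p.Prime := Fact.out
  have h2 : (2 : F) ≠ 0 := two_ne_zero_of_char p hp2
  have hpodd : Odd p := hp.odd_of_ne_two hp2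
  obtain ⟨a', b, hN, hcop, hcases⟩ := indec_data p hp2 (by omega) g hg hodd
  obtain ⟨q, hqdef⟩ : ∃ q, q = Fintype.card F := ⟨_, rfl⟩
  rw [← hqdef] at hcases hq ⊢
  rcases hcases with ⟨h1, hb⟩ | ⟨e, he1, hen, hae, hb⟩ | ⟨d, hd1, hdn, had, hb⟩
  · right
    right
    have hj : p ^ (b - 1) < 2 * (n - 1) := by
      rcases Nat.eq_zero_or_pos b with hb0 | hbpos
      · rw [hb0]
        simp only [zero_tsub, pow_zero]
        omega
      · have h3 : p ^ (b - 1) < 2 * n := by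
          by_contra hcon
          push Not at hcon
          have := hb (b - 1) hcon
          omega
        have h4 : p ^ (b - 1) ≠ 2 * n - 1 := fun h => hnp ⟨b - 1, h.symm⟩
        have h5 : p ^ (b - 1) % 2 = 1 := Nat.odd_iff.mp hpodd.pow
        omega
    obtain ⟨g', hg'⟩ := exists_mixed_minus F p h2 hp2 n 1 (b - 1) le_rfl (by omega) hj
    rw [← hqdef] at hg'
    refine cover_of_model g g' p a' b (q ^ 1 - 1) (b - 1) hN hcop ?_ ?_ (by omega) hg'
    · rw [pow_one]
      have := Nat.odd_iff.mp hq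
      omega
    · rw [h1]
      exact one_dvd _
  · rcases eq_or_ne e n with hen' | hen'
    · left
      have hb0 : b = 0 := by
        have := hb 0 (by rw [hen', pow_zero, mul_one])
        omega
      rw [hN, hb0, pow_zero, one_mul, ← hen']
      exact hae
    · right
      right
      obtain ⟨c, hc⟩ := hen
      have hc2 : 2 ≤ c := by
        rcases Nat.lt_or_ge c 2 with h | h
        · interval_cases c
          · omega
          · rw [mul_one] at hc
            exact absurd hc.symm hen'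
        · exact h
      have h2e : 2 * e ≤ n := by
        rw [hc]
        calc 2 * e = e * 2 := by ring
          _ ≤ e * c := Nat.mul_le_mul_left e hc2
      have hj : p ^ (b - 1) < 2 * (n - e) := by
        rcases Nat.eq_zero_or_pos b with hb0 | hbpos
        · rw [hb0]
          simp only [zero_tsub, pow_zero]
          omega
        · have h3 : e * p ^ (b - 1) < n := by
            by_contra hcon
            push Not at hcon
            have := hb (b - 1) hcon
            omega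
          have h4 : p ^ (b - 1) ≤ e * p ^ (b - 1) := Nat.le_mul_of_pos_left _ he1
          omega
      obtain ⟨g', hg'⟩ := exists_mixed_plus F p h2 hp2 n e (b - 1) he1 (by omega) hj
      rw [← hqdef] at hg'
      refine cover_of_model g g' p a' b (q ^ e + 1) (b - 1) hN hcop ?_ hae (by omega) hg'
      have := Nat.odd_iff.mp (hq.pow (n := e))
      omega
  · rcases eq_or_ne d n with hdn' | hdn'
    · right
      left
      have hb0 : b = 0 := by
        have := hb 0 (by rw [hdn', pow_zero, mul_one])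
        omega
      rw [hN, hb0, pow_zero, one_mul, ← hdn']
      exact had
    · right
      right
      obtain ⟨c, hc⟩ := hdn
      have hc2 : 2 ≤ c := by
        rcases Nat.lt_or_ge c 2 with h | h
        · interval_cases c
          · omega
          · rw [mul_one] at hc
            exact absurd hc.symm hdn'
        · exact h
      have h2d : 2 * d ≤ n := by
        rw [hc]
        calc 2 * d = d * 2 := by ring
          _ ≤ d * c := Nat.mul_le_mul_left d hc2
      have hj : p ^ (b - 1) < 2 * (n - d) := by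
        rcases Nat.eq_zero_or_pos b with hb0 | hbpos
        · rw [hb0]
          simp only [zero_tsub, pow_zero]
          omega
        · have h3 : d * p ^ (b - 1) < n := by
            by_contra hcon
            push Not at hcon
            have := hb (b - 1) hcon
            omega
          have h4 : p ^ (b - 1) ≤ d * p ^ (b - 1) := Nat.le_mul_of_pos_left _ hd1
          omega
      obtain ⟨g', hg'⟩ := exists_mixed_minus F p h2 hp2 n d (b - 1) hd1 (by omega) hj
      rw [← hqdef] at hg'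
      refine cover_of_model g g' p a' b (q ^ d - 1) (b - 1) hN hcop ?_ had (by omega) hg'
      have := Nat.odd_iff.mp (hq.pow (n := d))
      omega

/-- Two elements of `PSp_{2n}(q)` can be replaced by two elements covering their orders and the
prime `2`, provided `2 n - 1` is not a power of `p`. -/
theorem cover2 (p : ℕ) [Fact p.Prime] [CharP F p] (hp2 : p ≠ 2) (hq : Odd (Fintype.card F))
    (hn : 2 ≤ n) (hnp : ¬ ∃ j : ℕ, 2 * n - 1 = p ^ j) (x y : PSpQ n F) :
    ∃ x' y' : PSpQ n F, ∀ k : ℕ, x' ^ k = 1 → y' ^ k = 1 → (x ^ k = 1 ∧ y ^ k = 1 ∧ 2 ∣ k) := by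
  have hp : p.Prime := Fact.out
  have h2 : (2 : F) ≠ 0 := two_ne_zero_of_char p hp2
  obtain ⟨g₁, rfl⟩ := QuotientGroup.mk_surjective x
  obtain ⟨g₂, rfl⟩ := QuotientGroup.mk_surjective y
  by_cases h1 : 2 ∣ orderOf (QuotientGroup.mk g₁ : PSpQ n F) ∨ OrthDec (stdForm n) (toEnd g₁)
  · obtain ⟨x', hx'⟩ := good_absorb h2 g₁ h1
    exact ⟨x', _, fun k hx hy => ⟨(hx' k hx).1, hy, (hx' k hx).2⟩⟩
  by_cases h2' : 2 ∣ orderOf (QuotientGroup.mk g₂ : PSpQ n F) ∨ OrthDec (stdForm n) (toEnd g₂)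
  · obtain ⟨y', hy'⟩ := good_absorb h2 g₂ h2'
    exact ⟨_, y', fun k hx hy => ⟨hx, (hy' k hy).1, (hy' k hy).2⟩⟩
  push Not at h1 h2'
  have c1 := indec_cases p hp2 hq hn hnp g₁ h1.2 h1.1
  have c2 := indec_cases p hp2 hq hn hnp g₂ h2'.2 h2'.1
  by_cases hw1 : ∃ w : PSpQ n F, ∀ k : ℕ, w ^ k = 1 →
      (QuotientGroup.mk g₁ : PSpQ n F) ^ k = 1 ∧ 2 ∣ k
  · obtain ⟨w, hw⟩ := hw1
    exact ⟨w, _, fun k hx hy => ⟨(hw k hx).1, hy, (hw k hx).2⟩⟩
  by_cases hw2 : ∃ w : PSpQ n F, ∀ k : ℕ, w ^ k = 1 →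
      (QuotientGroup.mk g₂ : PSpQ n F) ^ k = 1 ∧ 2 ∣ k
  · obtain ⟨w, hw⟩ := hw2
    exact ⟨_, w, fun k hx hy => ⟨hx, (hw k hy).1, (hw k hy).2⟩⟩
  have c1' : orderOf (QuotientGroup.mk g₁ : PSpQ n F) ∣ Fintype.card F ^ n + 1 ∨
      orderOf (QuotientGroup.mk g₁ : PSpQ n F) ∣ Fintype.card F ^ n - 1 := by
    rcases c1 with h | h | h
    · exact Or.inl h
    · exact Or.inr h
    · exact absurd h hw1
  have c2' : orderOf (QuotientGroup.mk g₂ : PSpQ n F) ∣ Fintype.card F ^ n + 1 ∨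
      orderOf (QuotientGroup.mk g₂ : PSpQ n F) ∣ Fintype.card F ^ n - 1 := by
    rcases c2 with h | h | h
    · exact Or.inl h
    · exact Or.inr h
    · exact absurd h hw2
  obtain ⟨γp, hγp⟩ := exists_torus_plus F p h2 n (by omega)
  obtain ⟨γm, hγm⟩ := exists_torus_minus F p n (by omega)
  refine ⟨QuotientGroup.mk γp, QuotientGroup.mk γm, fun k hk1 hk2 => ?_⟩
  have d1 := hγp k ((mk_pow_eq_one_iff γp k).mp hk1)
  have d2 := hγm k ((mk_pow_eq_one_iff γm k).mp hk2)
  have hQ : Odd (Fintype.card F ^ n) := hq.pow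
  have key : ∀ g : Matrix.symplecticGroup (Fin n) F,
      ¬ 2 ∣ orderOf (QuotientGroup.mk g : PSpQ n F) →
      (orderOf (QuotientGroup.mk g : PSpQ n F) ∣ Fintype.card F ^ n + 1 ∨
        orderOf (QuotientGroup.mk g : PSpQ n F) ∣ Fintype.card F ^ n - 1) →
      (QuotientGroup.mk g : PSpQ n F) ^ k = 1 := by
    intro g hodd hdiv
    rw [← orderOf_dvd_iff_pow_eq_one]
    have hcop : Nat.Coprime (orderOf (QuotientGroup.mk g : PSpQ n F)) 2 := by
      rw [Nat.coprime_comm, Nat.Prime.coprime_iff_not_dvd Nat.prime_two]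
      exact hodd
    have h5 : orderOf (QuotientGroup.mk g : PSpQ n F) ∣ 2 * k := by
      rcases hdiv with h | h
      · exact h.trans d1
      · exact h.trans d2
    exact hcop.dvd_of_dvd_mul_left h5
  exact ⟨key g₁ h1.1 c1', key g₂ h2'.1 c2', two_dvd_of_torus _ k hQ d1 d2⟩

end cover2

end Cfsg.Agent.Helper42.SpecPSp
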