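import Mathlib
import Cfsg.Agent.Helper42.SpecPSp
import Cfsg.Agent.Helper42.PGraphL2

set_option autoImplicit false

/-!
# Prime graph of `PSp_{2n}(q)`: adjacency to the characteristic, structural part (helper42)

* `nondeg_restrict_bil` : orthogonal summands of a nondegenerate alternating space are
  nondegenerate;
* `even_finrank` : nondegenerate alternating spaces have even dimension;
* `struct_bound` : the induction over orthogonal decompositions;
* `bound_sp` : an isometry `T` with `T^(r p) = ± 1`, `T^r ≠ ± 1`, `T^p ≠ ± 1` lives in dimension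
  `2 n` with `n ≥ η(e(r, q)) + 1`.
-/

namespace Cfsg.Agent.Helper42.PGraphS

open Polynomial SpForm SpGroup SpModels SpStruct PGraphL PGraphL2

universe u v

section forms

variable {F : Type u} [Field F] {V : Type v} [AddCommGroup V] [Module F V]

theorem nondeg_restrict_bil (B : LinearMap.BilinForm F V) (halt : ∀ v, B v v = 0)
    (hnd : ∀ v, (∀ w, B v w = 0) → v = 0) (V₁ V₂ : Submodule F V) (hc : IsCompl V₁ V₂)
    (horth : ∀ x ∈ V₁, ∀ y ∈ V₂, B x y = 0) :
    (∀ x : V₁, (∀ y : V₁, B.restrict V₁ x y = 0) → x = 0) ∧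
      (∀ x : V₂, (∀ y : V₂, B.restrict V₂ x y = 0) → x = 0) := by
  have hskew := skew_of_alt B halt
  constructor
  · intro x hx
    apply Subtype.ext
    apply hnd
    intro w
    obtain ⟨w₁, hw₁, w₂, hw₂, rfl⟩ := U3Lemmas.exists_decomp V₁ V₂ hc w
    have h1 := hx ⟨w₁, hw₁⟩
    rw [LinearMap.BilinForm.restrict_apply] at h1
    simp only [LinearMap.domRestrict_apply] at h1
    rw [map_add, h1, horth x x.2 w₂ hw₂, add_zero]
  · intro x hx
    apply Subtype.ext
    apply hnd
    intro w
    obtain ⟨w₁, hw₁, w₂, hw₂, rfl⟩ := U3Lemmas.exists_decomp V₁ V₂ hc w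
    have h1 := hx ⟨w₂, hw₂⟩
    rw [LinearMap.BilinForm.restrict_apply] at h1
    simp only [LinearMap.domRestrict_apply] at h1
    rw [map_add, h1, hskew, horth w₁ hw₁ x x.2, neg_zero, add_zero]

/-- Nondegenerate alternating spaces have even dimension. -/
theorem even_finrank (d : ℕ) : ∀ (V : Type v) [AddCommGroup V] [Module F V]
    [FiniteDimensional F V] (B : LinearMap.BilinForm F V), (∀ v, B v v = 0) →
    (∀ v, (∀ w, B v w = 0) → v = 0) → Module.finrank F V = d → Even d := by
  induction d using Nat.strong_induction_on with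
  | _ d ih =>
    intro V _ _ _ B halt hnd hdim
    rcases Nat.eq_zero_or_pos d with hd0 | hpos
    · rw [hd0]
      exact Even.zero
    have hskew := skew_of_alt B halt
    rw [← hdim] at hpos
    obtain ⟨v, hv⟩ := Module.finrank_pos_iff_exists_ne_zero.mp hpos
    obtain ⟨w₀, hw₀⟩ : ∃ w, B v w ≠ 0 := by
      by_contra hcon
      push Not at hcon
      exact hv (hnd v hcon)
    obtain ⟨w, hw⟩ : ∃ w, B v w = 1 :=
      ⟨(B v w₀)⁻¹ • w₀, by rw [map_smul, smul_eq_mul, inv_mul_cancel₀ hw₀]⟩
    have hwv : B w v = -1 := by rw [hskew, hw]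
    let φ : V →ₗ[F] F × F := (B v).prod (B w)
    have hφ : ∀ x, φ x = (B v x, B w x) := fun x => rfl
    have hφsurj : Function.Surjective φ := by
      rintro ⟨a, b⟩
      refine ⟨a • w - b • v, ?_⟩
      rw [hφ]
      simp only [map_sub, map_smul, smul_eq_mul, hw, halt, hwv, Prod.mk.injEq]
      constructor <;> ring
    let P : Submodule F V := LinearMap.ker φ
    have hPmem : ∀ x, x ∈ P ↔ B v x = 0 ∧ B w x = 0 := by
      intro x
      show φ x = 0 ↔ _
      rw [hφ, Prod.mk_eq_zero]
    have hPdim : Module.finrank F P + 2 = d := by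
      have h1 := LinearMap.finrank_range_add_finrank_ker φ
      rw [LinearMap.range_eq_top.mpr hφsurj, finrank_top, Module.finrank_prod,
        Module.finrank_self] at h1
      show Module.finrank F (LinearMap.ker φ) + 2 = d
      omega
    let BP : LinearMap.BilinForm F P := B.restrict P
    have hBP : ∀ x y : P, BP x y = B x y := fun x y => rfl
    have hBPnd : ∀ x : P, (∀ y : P, BP x y = 0) → x = 0 := by
      intro x hx
      apply Subtype.ext
      apply hnd
      intro z
      have hz' : z + (B w z) • v - (B v z) • w ∈ P := by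
        rw [hPmem]
        simp only [map_add, map_sub, map_smul, smul_eq_mul, halt, hw, hwv]
        constructor <;> ring
      have h1 := hx ⟨_, hz'⟩
      rw [hBP] at h1
      simp only [map_add, map_sub, map_smul, smul_eq_mul] at h1
      have hx1 := (hPmem x).mp x.2
      have h2 : B x v = 0 := by rw [hskew, hx1.1, neg_zero]
      have h3 : B x w = 0 := by rw [hskew, hx1.2, neg_zero]
      rw [h2, h3] at h1
      simpa using h1
    have h4 := ih (Module.finrank F P) (by omega) P BP (fun x => by rw [hBP]; exact halt _) hBPnd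
      rfl
    rw [← hPdim]
    exact h4.add even_two

theorem aeval_restrict_eq_zero [FiniteDimensional F V] (T : Module.End F V) (W : Submodule F V)
    (hW : ∀ w ∈ W, T w ∈ W) (a : F[X]) (h : aeval T a = 0) : aeval (T.restrict hW) a = 0 := by
  apply LinearMap.ext
  intro w
  apply Subtype.ext
  rw [SpStruct.aeval_restrict, h]
  rfl

theorem aeval_ne_zero_split [FiniteDimensional F V] (T : Module.End F V) (V₁ V₂ : Submodule F V)
    (hc : IsCompl V₁ V₂)
    (h₁ : ∀ w ∈ V₁, T w ∈ V₁) (h₂ : ∀ w ∈ V₂, T w ∈ V₂) (a : F[X]) (h : aeval T a ≠ 0) :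
    aeval (T.restrict h₁) a ≠ 0 ∨ aeval (T.restrict h₂) a ≠ 0 := by
  by_contra hcon
  push Not at hcon
  apply h
  apply LinearMap.ext
  intro x
  obtain ⟨x₁, hx₁, x₂, hx₂, rfl⟩ := U3Lemmas.exists_decomp V₁ V₂ hc x
  have e1 := SpStruct.aeval_restrict T V₁ h₁ a ⟨x₁, hx₁⟩
  have e2 := SpStruct.aeval_restrict T V₂ h₂ a ⟨x₂, hx₂⟩
  rw [hcon.1] at e1
  rw [hcon.2] at e2
  simp only [LinearMap.zero_apply, Submodule.coe_zero] at e1 e2
  rw [map_add, ← e1, ← e2, add_zero]
  rfl

end forms

section main

variable {F : Type u} [Field F] [Fintype F]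

theorem q2e_sub_one (q e : ℕ) (hq : 1 ≤ q) : q ^ (2 * e) - 1 = (q ^ e - 1) * (q ^ e + 1) := by
  obtain ⟨a, ha⟩ : ∃ a, q ^ e = a + 1 := ⟨q ^ e - 1, by have := Nat.one_le_pow e q hq; omega⟩
  rw [two_mul, pow_add, ha]
  simp only [Nat.add_sub_cancel]
  have h : (a + 1) * (a + 1) = a * (a + 1 + 1) + 1 := by ring
  rw [h, Nat.add_sub_cancel]

/-- The induction over orthogonal decompositions. -/
theorem struct_bound (p : ℕ) [Fact p.Prime] [CharP F p] (r : ℕ) (hr : r.Prime) (hr2 : r ≠ 2)
    (hrp : r ≠ p) (k ηk : ℕ) (hk : k = orderOf ((Fintype.card F : ℕ) : ZMod r)) (hk1 : 1 ≤ k)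
    (hηk : (Odd k ∧ ηk = k) ∨ (Even k ∧ 2 * ηk = k)) (A A' : F[X]) :
    ∀ (m : ℕ) (V : Type v) [AddCommGroup V] [Module F V] [FiniteDimensional F V]
      (B : LinearMap.BilinForm F V) (T : Module.End F V),
      (∀ v, B v v = 0) → (∀ v, (∀ w, B v w = 0) → v = 0) → Module.finrank F V = 2 * m →
      aeval T (A ^ r - 1) = 0 → aeval T (A' ^ p - 1) = 0 → Preserves B (aeval T A) →
      (aeval T (A - 1) ≠ 0 → ηk ≤ m) ∧
        (aeval T (A - 1) ≠ 0 → aeval T (A' - 1) ≠ 0 → ηk + 1 ≤ m) := by
  classical
  have hp : p.Prime := Fact.out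
  obtain ⟨q, hq⟩ : ∃ q, q = Fintype.card F := ⟨_, rfl⟩
  rw [← hq] at hk
  have hq1 : 1 ≤ q := by rw [hq]; exact Fintype.card_pos
  have hrF : (r : F) ≠ 0 := by
    intro h
    rw [CharP.cast_eq_zero_iff F p r] at h
    exact hrp ((Nat.prime_dvd_prime_iff_eq hp hr).mp h).symm
  have hηle : ηk ≤ k := by
    rcases hηk with ⟨_, h⟩ | ⟨_, h⟩ <;> omega
  intro m
  induction m using Nat.strong_induction_on with
  | _ m ih =>
    intro V _ _ _ B T halt hnd hdim hA hA' hpres
    by_cases hdec : OrthDec B T
    · obtain ⟨V₁, V₂, hc, h1, h2, hi1, hi2, horth⟩ := hdec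
      obtain ⟨hnd₁, hnd₂⟩ := nondeg_restrict_bil B halt hnd V₁ V₂ hc horth
      have halt₁ : ∀ x : V₁, B.restrict V₁ x x = 0 := fun x => halt _
      have halt₂ : ∀ x : V₂, B.restrict V₂ x x = 0 := fun x => halt _
      obtain ⟨m₁, hm₁⟩ := even_finrank _ V₁ (B.restrict V₁) halt₁ hnd₁ rfl
      obtain ⟨m₂, hm₂⟩ := even_finrank _ V₂ (B.restrict V₂) halt₂ hnd₂ rfl
      have hsum := Submodule.finrank_add_eq_of_isCompl hc
      have hpos₁ : 0 < Module.finrank F V₁ := by
        rcases Nat.eq_zero_or_pos (Module.finrank F V₁) with h | h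
        · exact absurd (Submodule.finrank_eq_zero.mp h) h1
        · exact h
      have hpos₂ : 0 < Module.finrank F V₂ := by
        rcases Nat.eq_zero_or_pos (Module.finrank F V₂) with h | h
        · exact absurd (Submodule.finrank_eq_zero.mp h) h2
        · exact h
      have hpres₁ : Preserves (B.restrict V₁) (aeval (T.restrict hi1) A) := by
        intro x y
        show B ((aeval (T.restrict hi1) A) x : V) ((aeval (T.restrict hi1) A) y : V) = B x y
        rw [SpStruct.aeval_restrict, SpStruct.aeval_restrict]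
        exact hpres x y
      have hpres₂ : Preserves (B.restrict V₂) (aeval (T.restrict hi2) A) := by
        intro x y
        show B ((aeval (T.restrict hi2) A) x : V) ((aeval (T.restrict hi2) A) y : V) = B x y
        rw [SpStruct.aeval_restrict, SpStruct.aeval_restrict]
        exact hpres x y
      obtain ⟨ia₁, ib₁⟩ := ih m₁ (by omega) V₁ (B.restrict V₁) (T.restrict hi1) halt₁ hnd₁
        (by omega) (aeval_restrict_eq_zero T V₁ hi1 _ hA) (aeval_restrict_eq_zero T V₁ hi1 _ hA')
        hpres₁
      obtain ⟨ia₂, ib₂⟩ := ih m₂ (by omega) V₂ (B.restrict V₂) (T.restrict hi2) halt₂ hnd₂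
        (by omega) (aeval_restrict_eq_zero T V₂ hi2 _ hA) (aeval_restrict_eq_zero T V₂ hi2 _ hA')
        hpres₂
      constructor
      · intro hs
        rcases aeval_ne_zero_split T V₁ V₂ hc hi1 hi2 _ hs with h | h
        · have := ia₁ h
          omega
        · have := ia₂ h
          omega
      · intro hs hu
        rcases aeval_ne_zero_split T V₁ V₂ hc hi1 hi2 _ hs with h | h
        · by_cases hu₁ : aeval (T.restrict hi1) (A' - 1) = 0
          · have := ia₁ h
            omega
          · have := ib₁ h hu₁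
            omega
        · by_cases hu₂ : aeval (T.restrict hi2) (A' - 1) = 0
          · have := ia₂ h
            omega
          · have := ib₂ h hu₂
            omega
    · by_cases hm0 : m = 0
      · have hsub : Subsingleton V := by
          rw [← Module.finrank_zero_iff (R := F), hdim, hm0]
        have hz : ∀ E : Module.End F V, E = 0 := fun E =>
          LinearMap.ext (fun x => Subsingleton.elim _ _)
        exact ⟨fun h => absurd (hz _) h, fun h _ => absurd (hz _) h⟩
      have hm1 : 1 ≤ m := by omega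
      haveI : Nontrivial V := Module.nontrivial_of_finrank_pos (R := F) (by omega)
      obtain ⟨s, hs⟩ : ∃ s : Module.End F V, s = aeval T A := ⟨_, rfl⟩
      obtain ⟨u, hu⟩ : ∃ u : Module.End F V, u = aeval T A' := ⟨_, rfl⟩
      have hsr : s ^ r = 1 := by
        have h1 := hA
        rw [map_sub, map_pow, map_one, ← hs] at h1
        exact sub_eq_zero.mp h1
      have hup : u ^ (p ^ 1) = 1 := by
        have h1 := hA'
        rw [map_sub, map_pow, map_one, ← hu] at h1
        rw [pow_one]
        exact sub_eq_zero.mp h1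
      have hsT : Commute s T := by
        rw [hs]
        exact (commute_aeval' T T (Commute.refl T) A).symm
      have hus : Commute u s := by
        rw [hu, hs]
        show aeval T A' * aeval T A = aeval T A * aeval T A'
        rw [← map_mul, ← map_mul, mul_comm]
      have hsB : Preserves B s := by rw [hs]; exact hpres
      have hss : s.IsSemisimple := by
        have hsep : (X ^ r - C (1 : F) : F[X]).Separable :=
          separable_X_pow_sub_C 1 hrF one_ne_zero
        apply Module.End.isSemisimple_of_squarefree_aeval_eq_zero hsep.squarefree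
        rw [map_sub, map_pow, aeval_X, aeval_C, hsr, map_one, sub_self]
      have hs1 : aeval T (A - 1) ≠ 0 ↔ s ≠ 1 := by
        rw [map_sub, map_one, ← hs, Ne, sub_eq_zero]
      have hu1 : aeval T (A' - 1) ≠ 0 ↔ u ≠ 1 := by
        rw [map_sub, map_one, ← hu, Ne, sub_eq_zero]
      rw [hs1, hu1]
      have key := struct p B m hm1 hnd hdim T hdec s hsT hsB r hr.pos hsr hss u hus 1 hup
      rw [← hq] at key
      have hsdvd : s ≠ 1 → ∀ N : ℕ, s ^ N = 1 → r ∣ N := by
        intro hne N hN
        by_contra hnd'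
        have hcop : Nat.Coprime r N := (Nat.Prime.coprime_iff_not_dvd hr).mpr hnd'
        have h1 : s ^ Nat.gcd r N = 1 := pow_gcd_eq_one.mpr ⟨hsr, hN⟩
        rw [hcop.gcd_eq_one, pow_one] at h1
        exact hne h1
      have hr_not_dvd_two : ¬ r ∣ 2 := by
        intro h
        have h1 := Nat.le_of_dvd (by norm_num) h
        have h2 := hr.two_le
        omega
      have hmul2 : ∀ a t : ℕ, 0 < a → a < a * t → a * 2 ≤ a * t := by
        intro a t ha hat
        have ht2 : 2 ≤ t := by
          by_contra hlt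
          have h01 : t = 0 ∨ t = 1 := by omega
          rcases h01 with h0 | h1'
          · rw [h0, mul_zero] at hat
            omega
          · rw [h1', mul_one] at hat
            omega
        exact Nat.mul_le_mul_left a ht2
      rcases key with h2 | ⟨e, he1, hem, hse, hue⟩ | ⟨d, hd1, hdm, hsd, hud⟩
      · have hs_one : s = 1 := by
          by_contra hne
          exact hr_not_dvd_two (hsdvd hne 2 h2)
        exact ⟨fun h => absurd hs_one h, fun h _ => absurd hs_one h⟩
      · have hη : s ≠ 1 → ηk ≤ e ∧ 1 ≤ ηk := by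
          intro hne
          have h1 : r ∣ q ^ e + 1 := hsdvd hne _ hse
          have h2 : r ∣ q ^ (2 * e) - 1 := by
            rw [q2e_sub_one q e hq1]
            exact h1.mul_left _
          have h3 : k ∣ 2 * e := by
            rw [hk]
            exact order_dvd_of_dvd r q (2 * e) hq1 h2
          have h4 : ¬ k ∣ e := by
            intro h
            have h5 : r ∣ q ^ e - 1 := by
              rw [hk] at h
              exact dvd_pow_sub_one_of_order_dvd r q e h
            have h6 : r ∣ (q ^ e + 1) - (q ^ e - 1) := Nat.dvd_sub h1 h5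
            have h7 : (q ^ e + 1) - (q ^ e - 1) = 2 := by
              have := Nat.one_le_pow e q hq1
              omega
            rw [h7] at h6
            exact hr_not_dvd_two h6
          rcases hηk with ⟨hodd, hη⟩ | ⟨heven, hη⟩
          · exfalso
            have hcop : Nat.Coprime k 2 := Nat.coprime_two_right.mpr hodd
            exact h4 (hcop.dvd_of_dvd_mul_left h3)
          · have h8 : ηk ∣ e := by
              rw [← hη] at h3
              exact Nat.dvd_of_mul_dvd_mul_left (by norm_num) h3
            exact ⟨Nat.le_of_dvd he1 h8, by omega⟩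
        constructor
        · intro hne
          have h1 := (hη hne).1
          have h2 := Nat.le_of_dvd hm1 hem
          omega
        · intro hne hune
          obtain ⟨h1, h2⟩ := hη hne
          have h3 : e < m := by
            by_contra hle
            have h4 := hue 0 (by rw [pow_zero, mul_one]; omega)
            rw [pow_zero, pow_one] at h4
            exact hune h4
          obtain ⟨t, ht⟩ := hem
          have h5 := hmul2 e t he1 (by rw [← ht]; exact h3)
          omega
      · have hη : s ≠ 1 → k ≤ d := by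
          intro hne
          have h1 : r ∣ q ^ d - 1 := hsdvd hne _ hsd
          have h3 : k ∣ d := by
            rw [hk]
            exact order_dvd_of_dvd r q d hq1 h1
          exact Nat.le_of_dvd hd1 h3
        constructor
        · intro hne
          have h1 := hη hne
          have h2 := Nat.le_of_dvd hm1 hdm
          omega
        · intro hne hune
          have h1 := hη hne
          have h3 : d < m := by
            by_contra hle
            have h4 := hud 0 (by rw [pow_zero, mul_one]; omega)
            rw [pow_zero, pow_one] at h4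
            exact hune h4
          obtain ⟨t, ht⟩ := hdm
          have h5 := hmul2 d t hd1 (by rw [← ht]; exact h3)
          omega

omit [Fintype F] in
theorem neg_one_pow_char_succ (p : ℕ) [Fact p.Prime] [CharP F p] : (-1 : F) ^ (p + 1) = 1 := by
  have hp : p.Prime := Fact.out
  by_cases hp2 : p = 2
  · subst hp2
    have h2 : (2 : F) = 0 := by
      have h := CharP.cast_eq_zero F 2
      exact_mod_cast h
    have h1 : (-1 : F) = 1 := by
      rw [neg_eq_iff_add_eq_zero, one_add_one_eq_two]
      exact h2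
    rw [h1, one_pow]
  · have hodd : Odd p := hp.odd_of_ne_two hp2
    exact Even.neg_one_pow hodd.add_one

/-- **Elements of order `r p` in `PSp_{2n}(q)` force `n ≥ η(e(r, q)) + 1`.** -/
theorem bound_sp (p : ℕ) [Fact p.Prime] [CharP F p] (r : ℕ) (hr : r.Prime) (hr2 : r ≠ 2)
    (hrp : r ≠ p) (k ηk : ℕ) (hk : k = orderOf ((Fintype.card F : ℕ) : ZMod r))
    (hηk : (Odd k ∧ ηk = k) ∨ (Even k ∧ 2 * ηk = k)) (n : ℕ)
    {V : Type v} [AddCommGroup V] [Module F V] [FiniteDimensional F V]
    (B : LinearMap.BilinForm F V) (halt : ∀ v, B v v = 0) (hnd : ∀ v, (∀ w, B v w = 0) → v = 0)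
    (hdim : Module.finrank F V = 2 * n) (T : Module.End F V) (hT : Preserves B T)
    (hTrp : T ^ (r * p) = 1 ∨ T ^ (r * p) = -1) (hTr : ¬ (T ^ r = 1 ∨ T ^ r = -1))
    (hTp : ¬ (T ^ p = 1 ∨ T ^ p = -1)) : ηk + 1 ≤ n := by
  classical
  have hp : p.Prime := Fact.out
  haveI : Fact r.Prime := ⟨hr⟩
  have hqr : ((Fintype.card F : ℕ) : ZMod r) ≠ 0 := by
    intro h
    rw [ZMod.natCast_eq_zero_iff] at h
    obtain ⟨a, -, ha⟩ := FiniteField.card F p
    rw [ha] at h
    have h2 := hr.dvd_of_dvd_pow h
    exact hrp ((Nat.prime_dvd_prime_iff_eq hr hp).mp h2)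
  have hk1 : 1 ≤ k := by
    rw [hk]
    have h1 := orderOf_dvd_of_pow_eq_one (ZMod.pow_card_sub_one_eq_one hqr)
    have h2 : 0 < r - 1 := by
      have := hr.two_le
      omega
    exact Nat.pos_of_dvd_of_pos h1 h2
  obtain ⟨ε, hε, hTε⟩ : ∃ ε : F, (ε = 1 ∨ ε = -1) ∧ T ^ (r * p) = ε • (1 : Module.End F V) := by
    rcases hTrp with h | h
    · exact ⟨1, Or.inl rfl, by rw [h, one_smul]⟩
    · exact ⟨-1, Or.inr rfl, by rw [h, neg_smul, one_smul]⟩
  have hε2 : ε * ε = 1 := by
    rcases hε with h | h <;> rw [h] <;> ring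
  have hεr : ε ^ (r + 1) = 1 := by
    rcases hε with h | h
    · rw [h, one_pow]
    · rw [h]
      exact Even.neg_one_pow (hr.odd_of_ne_two hr2).add_one
  have hεp : ε ^ (p + 1) = 1 := by
    rcases hε with h | h
    · rw [h, one_pow]
    · rw [h]
      exact neg_one_pow_char_succ p
  obtain ⟨A, hAdef⟩ : ∃ A : F[X], A = C ε * X ^ p := ⟨_, rfl⟩
  obtain ⟨A', hA'def⟩ : ∃ A' : F[X], A' = C ε * X ^ r := ⟨_, rfl⟩
  have hAe : aeval T A = ε • T ^ p := by
    rw [hAdef, map_mul, aeval_C, map_pow, aeval_X, Algebra.algebraMap_eq_smul_one, smul_mul_assoc,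
      one_mul]
  have hA'e : aeval T A' = ε • T ^ r := by
    rw [hA'def, map_mul, aeval_C, map_pow, aeval_X, Algebra.algebraMap_eq_smul_one,
      smul_mul_assoc, one_mul]
  have hA : aeval T (A ^ r - 1) = 0 := by
    rw [map_sub, map_pow, map_one, hAe, _root_.smul_pow, ← pow_mul, mul_comm p r, hTε, smul_smul,
      ← pow_succ, hεr, one_smul, sub_self]
  have hA' : aeval T (A' ^ p - 1) = 0 := by
    rw [map_sub, map_pow, map_one, hA'e, _root_.smul_pow, ← pow_mul, hTε, smul_smul, ← pow_succ,
      hεp, one_smul, sub_self]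
  have hpres : Preserves B (aeval T A) := by
    rw [hAe]
    intro x y
    have h1 := hT.pow p x y
    simp only [LinearMap.smul_apply, map_smul, smul_eq_mul]
    rw [← mul_assoc, hε2, one_mul]
    exact h1
  have hgen : ∀ j : ℕ, ¬ (T ^ j = 1 ∨ T ^ j = -1) → ε • T ^ j - 1 ≠ 0 := by
    intro j hj h
    apply hj
    have h1 : ε • T ^ j = 1 := sub_eq_zero.mp h
    rcases hε with h2 | h2
    · left
      rw [h2, one_smul] at h1
      exact h1
    · right
      rw [h2, neg_smul, one_smul] at h1
      exact neg_eq_iff_eq_neg.mp h1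
  have hs : aeval T (A - 1) ≠ 0 := by
    rw [map_sub, map_one, hAe]
    exact hgen p hTp
  have hu : aeval T (A' - 1) ≠ 0 := by
    rw [map_sub, map_one, hA'e]
    exact hgen r hTr
  exact (struct_bound p r hr hr2 hrp k ηk hk hk1 hηk A A' n V B T halt hnd hdim hA hA'
    hpres).2 hs hu

end main

end Cfsg.Agent.Helper42.PGraphS
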