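import Mathlib
import Cfsg.Agent.Helper42.PGraphS

set_option autoImplicit false

/-!
# Prime graph of `PSp_{2n}(q)`: models (helper42)

Elements of `PSp_{2n}(q)` of order `r p`, in every characteristic.
-/

namespace Cfsg.Agent.Helper42.PGraphSM

open Polynomial SpForm SpGroup SpModels SpStruct PGraphL PGraphL2 PGraphS

universe u v

variable {F : Type u} [Field F]

/-- Transport of a model to `PSp_{2n}(F)`, with its projective order. -/
theorem exists_psp_of_model (n : ℕ) (V : Type v) [AddCommGroup V] [Module F V]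
    [FiniteDimensional F V] (B : LinearMap.BilinForm F V) (halt : ∀ v, B v v = 0)
    (hnd : ∀ v, (∀ w, B v w = 0) → v = 0) (hdim : Module.finrank F V = 2 * n)
    (T : Module.End F V) (hT : Preserves B T) (m : ℕ) (hm : T ^ m = 1 ∨ T ^ m = -1)
    (hmin : ∀ i : ℕ, (T ^ i = 1 ∨ T ^ i = -1) → m ∣ i) :
    ∃ x : Matrix.symplecticGroup (Fin n) F ⧸ Subgroup.center (Matrix.symplecticGroup (Fin n) F),
      orderOf x = m := by
  obtain ⟨g, hg⟩ := exists_of_model n V B halt hnd hdim T hT
  refine ⟨QuotientGroup.mk g, Nat.dvd_antisymm ?_ ?_⟩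
  · apply orderOf_dvd_of_pow_eq_one
    rw [mk_pow_eq_one_iff, (hg m).1, (hg m).2]
    exact hm
  · have h1 := pow_orderOf_eq_one (QuotientGroup.mk g :
      Matrix.symplecticGroup (Fin n) F ⧸ Subgroup.center (Matrix.symplecticGroup (Fin n) F))
    rw [mk_pow_eq_one_iff, (hg _).1, (hg _).2] at h1
    exact hmin _ h1

/-- The unipotent map `(a, b) ↦ (a + b, b)`. -/
noncomputable def unip2 : Module.End F (F × F) :=
  (LinearMap.fst F F F + LinearMap.snd F F F).prod (LinearMap.snd F F F)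

theorem unip2_apply (x : F × F) : unip2 x = (x.1 + x.2, x.2) := rfl

theorem unip2_pow (i : ℕ) (x : F × F) : (unip2 ^ i) x = (x.1 + (i : F) * x.2, x.2) := by
  induction i with
  | zero => simp
  | succ i ih =>
    rw [pow_succ', Module.End.mul_apply, ih, unip2_apply]
    apply Prod.ext
    · simp only
      push_cast
      ring
    · rfl

theorem preserves_unip2 : Preserves (hypForm F F) (unip2 : Module.End F (F × F)) := by
  intro x y
  rw [hypForm_apply, hypForm_apply, unip2_apply, unip2_apply]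
  simp only [Algebra.trace_self_apply]
  ring

theorem unip2_facts (p : ℕ) [Fact p.Prime] [CharP F p] :
    (unip2 : Module.End F (F × F)) ^ p = 1 ∧ ∀ i : ℕ,
      ((unip2 : Module.End F (F × F)) ^ i = 1 ∨ (unip2 : Module.End F (F × F)) ^ i = -1) →
      p ∣ i := by
  constructor
  · apply LinearMap.ext
    intro x
    rw [unip2_pow, CharP.cast_eq_zero F p, zero_mul, add_zero]
    rfl
  · intro i hi
    rw [← CharP.cast_eq_zero_iff F p i]
    rcases hi with h | h
    · have h1 := congrArg (fun f : Module.End F (F × F) => (f (0, 1)).1) h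
      simpa [unip2_pow] using h1
    · have h1 := congrArg (fun f : Module.End F (F × F) => (f (0, 1)).1) h
      simpa [unip2_pow] using h1

variable [Fintype F]

/-- An element of order `m` in the extension of degree `k`. -/
theorem exists_elt_order (p : ℕ) [Fact p.Prime] [CharP F p] (k : ℕ) [NeZero k] (m : ℕ)
    (hmk : m ∣ Fintype.card F ^ k - 1) :
    ∃ z : FiniteField.Extension F p k, z ≠ 0 ∧ z ^ m = 1 ∧ ∀ i : ℕ, z ^ i = 1 → m ∣ i := by
  obtain ⟨κ, hκ0, hκ1, hκord⟩ := L3Lower.exists_gen_ext (F := F) p k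
  obtain ⟨e, he⟩ := hmk
  have hq2 : 2 ≤ Fintype.card F := Fintype.one_lt_card
  have hqk : 0 < Fintype.card F ^ k - 1 := by
    have hk : 1 ≤ k := Nat.pos_of_ne_zero (NeZero.ne k)
    have h1 : Fintype.card F ^ 1 ≤ Fintype.card F ^ k := Nat.pow_le_pow_right (by omega) hk
    rw [pow_one] at h1
    omega
  have he0 : 0 < e := by
    rcases Nat.eq_zero_or_pos e with h | h
    · rw [h, mul_zero] at he
      omega
    · exact h
  refine ⟨κ ^ e, pow_ne_zero _ hκ0, ?_, fun i hi => ?_⟩
  · rw [← pow_mul, mul_comm, ← he, hκ1]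
  · rw [← pow_mul] at hi
    have h1 := hκord _ hi
    rw [he, mul_comm m e] at h1
    exact Nat.dvd_of_mul_dvd_mul_left he0 h1

/-- The split model: `e(r, q) = k` with a torus in `GL_k(q) ≤ Sp_{2k}(q)`. -/
theorem model_odd (p : ℕ) [Fact p.Prime] [CharP F p] (n k r : ℕ) [NeZero k] (hr : r.Prime)
    (hr2 : r ≠ 2) (hrp : r ≠ p) (hrk : r ∣ Fintype.card F ^ k - 1) (hn : k + 1 ≤ n) :
    ∃ x : Matrix.symplecticGroup (Fin n) F ⧸ Subgroup.center (Matrix.symplecticGroup (Fin n) F),
      orderOf x = r * p := by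
  classical
  have hp : p.Prime := Fact.out
  obtain ⟨z, hz0, hzr, hzord⟩ := exists_elt_order p k r hrk
  obtain ⟨hUp, hUord⟩ := unip2_facts (F := F) p
  obtain ⟨d, hd⟩ := Nat.exists_eq_add_of_le hn
  apply exists_psp_of_model n
    (((FiniteField.Extension F p k × FiniteField.Extension F p k) × (F × F)) ×
      (Fin d ⊕ Fin d → F))
    (sumForm (sumForm (hypForm F (FiniteField.Extension F p k)) (hypForm F F)) (stdForm d))
    (sumForm_alt _ _ (sumForm_alt _ _ (hypForm_alt F _) (hypForm_alt F F)) (stdForm_self d))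
    (sumForm_nondeg _ _ (sumForm_nondeg _ _ (hypForm_nondeg F _) (hypForm_nondeg F F))
      (stdForm_nondeg d))
    (by
      rw [Module.finrank_prod, Module.finrank_prod, Module.finrank_prod, Module.finrank_prod,
        FiniteField.finrank_extension, Module.finrank_self, SpecPSp.finrank_std, hd]
      ring)
    (((hypMap F (FiniteField.Extension F p k) z).prodMap unip2).prodMap 1)
    (preserves_prodMap (preserves_prodMap (preserves_hypMap F _ z hz0) preserves_unip2)
      (preserves_one _))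
    (r * p)
  · left
    rw [prodMap_pow', prodMap_pow', prodMap_eq_one_iff, prodMap_eq_one_iff, hypMap_pow,
      hypMap_eq_one_iff]
    refine ⟨⟨?_, ?_⟩, one_pow _⟩
    · rw [pow_mul, hzr, one_pow]
    · rw [mul_comm, pow_mul, hUp, one_pow]
  · intro i hi
    rw [prodMap_pow', prodMap_pow', prodMap_eq_one_iff, prodMap_eq_one_iff,
      prodMap_eq_neg_one_iff, prodMap_eq_neg_one_iff, hypMap_pow, hypMap_eq_one_iff,
      hypMap_eq_neg_one_iff] at hi
    have hz2 : z ^ (2 * i) = 1 := by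
      rw [mul_comm, pow_mul]
      rcases hi with ⟨⟨h, -⟩, -⟩ | ⟨⟨h, -⟩, -⟩
      · rw [h, one_pow]
      · rw [h]
        norm_num
    have hri : r ∣ i :=
      (Nat.Coprime.dvd_mul_left ((Nat.coprime_primes hr Nat.prime_two).mpr hr2)).mp
        (hzord _ hz2)
    have hpi : p ∣ i := by
      apply hUord
      rcases hi with ⟨⟨-, h⟩, -⟩ | ⟨⟨-, h⟩, -⟩
      · exact Or.inl h
      · exact Or.inr h
    exact Nat.Coprime.mul_dvd_of_dvd_of_dvd ((Nat.coprime_primes hr hp).mpr hrp) hri hpi

/-- Data for the anisotropic torus of order `q^e + 1`, with the explicit involution. -/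
theorem exists_unit_data' (p : ℕ) [Fact p.Prime] [CharP F p] (e : ℕ) [NeZero (2 * e)]
    (he : 1 ≤ e) :
    ∃ (σ : FiniteField.Extension F p (2 * e) ≃ₐ[F] FiniteField.Extension F p (2 * e))
      (c γ : FiniteField.Extension F p (2 * e)),
      (∀ x, σ x = x ^ (Fintype.card F ^ e)) ∧ (∀ x, σ (σ x) = x) ∧ σ c = -c ∧ c ≠ 0 ∧
      γ * σ γ = 1 ∧ (∀ i : ℕ, γ ^ i = 1 → (Fintype.card F ^ e + 1) ∣ i) := by
  obtain ⟨q, hq⟩ : ∃ q, q = Fintype.card F := ⟨_, rfl⟩
  rw [← hq]
  have hq1 : 1 < q := hq ▸ Fintype.one_lt_card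
  obtain ⟨κ, hκ⟩ := exists_generator F p (2 * e)
  rw [← hq] at hκ
  have hσ : ∀ x : FiniteField.Extension F p (2 * e),
      ((FiniteField.Extension.frob F p (2 * e)) ^ e) x = x ^ (q ^ e) := by
    intro x
    rw [FiniteField.Extension.frob_iterate_apply, Nat.card_eq_fintype_card, hq]
  have hcardK : ∀ x : FiniteField.Extension F p (2 * e), x ^ (q ^ (2 * e)) = x := by
    intro x
    have := Fintype.ofFinite (FiniteField.Extension F p (2 * e))
    have := FiniteField.pow_card x
    rwa [Fintype.card_eq_nat_card, FiniteField.natCard_extension, Nat.card_eq_fintype_card,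
      ← hq] at this
  have hσσ : ∀ x : FiniteField.Extension F p (2 * e),
      ((FiniteField.Extension.frob F p (2 * e)) ^ e)
        (((FiniteField.Extension.frob F p (2 * e)) ^ e) x) = x := by
    intro x
    rw [hσ, hσ, ← pow_mul, ← pow_add, ← two_mul, hcardK]
  have hqe : 1 < q ^ e := Nat.one_lt_pow (by omega) hq1
  have hfac : q ^ (2 * e) - 1 = (q ^ e - 1) * (q ^ e + 1) := q2e_sub_one q e hq1.le
  rw [hfac] at hκ
  refine ⟨(FiniteField.Extension.frob F p (2 * e)) ^ e,
    (κ : FiniteField.Extension F p (2 * e)) - ((FiniteField.Extension.frob F p (2 * e)) ^ e) κ,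
    ((κ ^ (q ^ e - 1) : (FiniteField.Extension F p (2 * e))ˣ) : FiniteField.Extension F p (2 * e)),
    hσ, hσσ, ?_, ?_, ?_, ?_⟩
  · rw [map_sub, hσσ]
    ring
  · intro hc
    have h1 : (κ : FiniteField.Extension F p (2 * e)) ^ (q ^ e) = κ := by
      rw [← hσ]
      exact (sub_eq_zero.mp hc).symm
    have h3 : κ ^ (q ^ e - 1) = 1 := by
      apply Units.ext
      rw [Units.val_pow_eq_pow_val, Units.val_one]
      have h4 : (κ : FiniteField.Extension F p (2 * e)) ^ (q ^ e - 1) * κ = 1 * κ := by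
        rw [← pow_succ, Nat.sub_add_cancel hqe.le, h1, one_mul]
      exact mul_right_cancel₀ κ.ne_zero h4
    have h5 := orderOf_dvd_of_pow_eq_one h3
    rw [hκ] at h5
    have h6 : 0 < q ^ e - 1 := by omega
    have h7 := Nat.le_of_dvd h6 h5
    nlinarith
  · rw [hσ, ← pow_succ', ← Units.val_pow_eq_pow_val, ← pow_mul, ← hκ, pow_orderOf_eq_one]
    rfl
  · intro i hi
    have horder : orderOf (κ ^ (q ^ e - 1)) = q ^ e + 1 := by
      have h := orderOf_pow_orderOf_div (x := κ) (n := q ^ e + 1)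
        (by rw [hκ]; exact Nat.mul_ne_zero (by omega) (by omega))
        (by rw [hκ]; exact dvd_mul_left _ _)
      rw [hκ, Nat.mul_div_cancel _ (by omega)] at h
      exact h
    rw [← horder]
    apply orderOf_dvd_of_pow_eq_one
    apply Units.ext
    rw [Units.val_pow_eq_pow_val, Units.val_one]
    exact hi

/-- The form `tr(c x σ(y))` is alternating, in every characteristic. -/
theorem unitForm_alt' (p : ℕ) [Fact p.Prime] [CharP F p] (e : ℕ) [NeZero (2 * e)]
    (σ : FiniteField.Extension F p (2 * e) ≃ₐ[F] FiniteField.Extension F p (2 * e))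
    (c : FiniteField.Extension F p (2 * e)) (hσ : ∀ x, σ x = x ^ (Fintype.card F ^ e))
    (hσσ : ∀ x, σ (σ x) = x) (hc : σ c = -c) (x : FiniteField.Extension F p (2 * e)) :
    unitForm F (FiniteField.Extension F p (2 * e)) σ c x x = 0 := by
  rw [unitForm_apply]
  obtain ⟨z, hz⟩ : ∃ z, z = c * x * σ x := ⟨_, rfl⟩
  rw [← hz]
  obtain ⟨q, hq⟩ : ∃ q, q = Fintype.card F := ⟨_, rfl⟩
  rw [← hq] at hσ
  have h1 : z ^ (q ^ e) = -z := by
    rw [← hσ, hz, map_mul, map_mul, hσσ, hc]
    ring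
  have hneg : ∀ i : ℕ, (-1 : FiniteField.Extension F p (2 * e)) ^ (q ^ i) = -1 := by
    intro i
    induction i with
    | zero => rw [pow_zero, pow_one]
    | succ i ih =>
      rw [pow_succ, pow_mul, ih]
      have h := FiniteField.pow_card (-1 : F)
      have h2 := congrArg (algebraMap F (FiniteField.Extension F p (2 * e))) h
      rw [map_pow, map_neg, map_one, ← hq] at h2
      exact h2
  apply (algebraMap F (FiniteField.Extension F p (2 * e))).injective
  have h2e : Finset.range (2 * e) = Finset.range (e + e) := by rw [two_mul]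
  rw [map_zero, FiniteField.algebraMap_trace_eq_sum_pow, FiniteField.finrank_extension,
    Nat.card_eq_fintype_card, ← hq, h2e, Finset.sum_range_add, ← Finset.sum_add_distrib]
  apply Finset.sum_eq_zero
  intro i _
  rw [pow_add, pow_mul, h1, neg_pow, hneg]
  ring

/-- An element of order `r` in the anisotropic torus. -/
theorem exists_unit_elt (p : ℕ) [Fact p.Prime] [CharP F p] (e : ℕ) [NeZero (2 * e)]
    (he : 1 ≤ e) (r : ℕ) (hre : r ∣ Fintype.card F ^ e + 1) :
    ∃ (σ : FiniteField.Extension F p (2 * e) ≃ₐ[F] FiniteField.Extension F p (2 * e))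
      (c γ : FiniteField.Extension F p (2 * e)),
      (∀ x, σ x = x ^ (Fintype.card F ^ e)) ∧ (∀ x, σ (σ x) = x) ∧ σ c = -c ∧ c ≠ 0 ∧
      γ * σ γ = 1 ∧ γ ^ r = 1 ∧ (∀ i : ℕ, γ ^ i = 1 → r ∣ i) := by
  obtain ⟨σ, c, γ₀, hσ, hσσ, hc, hc0, hγ₀, hord⟩ := exists_unit_data' (F := F) p e he
  obtain ⟨t, ht⟩ := hre
  have ht0 : 0 < t := by
    rcases Nat.eq_zero_or_pos t with h | h
    · rw [h, mul_zero] at ht
      omega
    · exact h
  have hγ₀1 : γ₀ ^ (Fintype.card F ^ e + 1) = 1 := by
    rw [pow_succ', ← hσ]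
    exact hγ₀
  refine ⟨σ, c, γ₀ ^ t, hσ, hσσ, hc, hc0, ?_, ?_, fun i hi => ?_⟩
  · rw [map_pow, ← mul_pow, hγ₀, one_pow]
  · rw [← pow_mul, mul_comm t r, ← ht, hγ₀1]
  · rw [← pow_mul] at hi
    have h1 := hord _ hi
    rw [ht, mul_comm r t] at h1
    exact Nat.dvd_of_mul_dvd_mul_left ht0 h1

/-- The anisotropic model: `e(r, q) = 2 e` with a torus in `Sp_{2e}(q)`. -/
theorem model_even (p : ℕ) [Fact p.Prime] [CharP F p] (n e r : ℕ) (he : 1 ≤ e) (hr : r.Prime)
    (hr2 : r ≠ 2) (hrp : r ≠ p) (hre : r ∣ Fintype.card F ^ e + 1) (hn : e + 1 ≤ n) :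
    ∃ x : Matrix.symplecticGroup (Fin n) F ⧸ Subgroup.center (Matrix.symplecticGroup (Fin n) F),
      orderOf x = r * p := by
  classical
  have hp : p.Prime := Fact.out
  haveI : NeZero (2 * e) := ⟨by omega⟩
  obtain ⟨σ, c, γ, hσ, hσσ, hc, hc0, hγ, hγr, hγord⟩ := exists_unit_elt (F := F) p e he r hre
  obtain ⟨hUp, hUord⟩ := unip2_facts (F := F) p
  obtain ⟨d, hd⟩ := Nat.exists_eq_add_of_le hn
  apply exists_psp_of_model n
    ((FiniteField.Extension F p (2 * e) × (F × F)) × (Fin d ⊕ Fin d → F))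
    (sumForm (sumForm (unitForm F (FiniteField.Extension F p (2 * e)) σ c) (hypForm F F))
      (stdForm d))
    (sumForm_alt _ _ (sumForm_alt _ _ (unitForm_alt' p e σ c hσ hσσ hc) (hypForm_alt F F))
      (stdForm_self d))
    (sumForm_nondeg _ _ (sumForm_nondeg _ _ (unitForm_nondeg F _ σ c hσσ hc0)
      (hypForm_nondeg F F)) (stdForm_nondeg d))
    (by
      rw [Module.finrank_prod, Module.finrank_prod, Module.finrank_prod,
        FiniteField.finrank_extension, Module.finrank_self, SpecPSp.finrank_std, hd]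
      ring)
    (((LinearMap.mulLeft F γ).prodMap unip2).prodMap 1)
    (preserves_prodMap (preserves_prodMap (preserves_mulLeft F _ σ c γ hγ) preserves_unip2)
      (preserves_one _))
    (r * p)
  · left
    rw [prodMap_pow', prodMap_pow', prodMap_eq_one_iff, prodMap_eq_one_iff, mulLeft_pow',
      mulLeft_eq_one_iff]
    refine ⟨⟨?_, ?_⟩, one_pow _⟩
    · rw [pow_mul, hγr, one_pow]
    · rw [mul_comm, pow_mul, hUp, one_pow]
  · intro i hi
    rw [prodMap_pow', prodMap_pow', prodMap_eq_one_iff, prodMap_eq_one_iff,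
      prodMap_eq_neg_one_iff, prodMap_eq_neg_one_iff, mulLeft_pow', mulLeft_eq_one_iff,
      mulLeft_eq_neg_one_iff] at hi
    have hz2 : γ ^ (2 * i) = 1 := by
      rw [mul_comm 2 i, pow_mul]
      rcases hi with ⟨⟨h, -⟩, -⟩ | ⟨⟨h, -⟩, -⟩
      · rw [h, one_pow]
      · rw [h]
        norm_num
    have hri : r ∣ i :=
      (Nat.Coprime.dvd_mul_left ((Nat.coprime_primes hr Nat.prime_two).mpr hr2)).mp
        (hγord _ hz2)
    have hpi : p ∣ i := by
      apply hUord
      rcases hi with ⟨⟨-, h⟩, -⟩ | ⟨⟨-, h⟩, -⟩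
      · exact Or.inl h
      · exact Or.inr h
    exact Nat.Coprime.mul_dvd_of_dvd_of_dvd ((Nat.coprime_primes hr hp).mpr hrp) hri hpi

end Cfsg.Agent.Helper42.PGraphSM
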