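import Mathlib
import Cfsg.Agent.Helper42.PGraphSM

set_option autoImplicit false

/-!
# Prime graph of `PSp_{2n}(q)`: adjacency of two primes different from the characteristic (helper42)

* `struct_bound2` : the induction over orthogonal decompositions for isometries of order `r s`;
* `bound_sp2` : the resulting criterion in `PSp_{2n}(q)`;
* `eta_le_of_dvd_card` : prime divisors `s ≠ p` of `|PSp_{2n}(q)|` have `η(e(s, q)) ≤ n`;
* `exists_block_minus`, `exists_block_plus`, `two_blocks` : the models.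
-/

namespace Cfsg.Agent.Helper42.PGraphS2

open Polynomial SpForm SpGroup SpModels SpStruct PGraphL PGraphL2 PGraphS PGraphSM

universe u v

section arith

theorem arith_plus (k l ηk ηl e t₁ t₂ m : ℕ) (hk2 : 2 * ηk = k) (hl2 : 2 * ηl = l)
    (h1 : e = ηk * t₁) (h2 : e = ηl * t₂) (ht₁ : Odd t₁) (ht₂ : Odd t₂) (hη : ηk ≤ ηl)
    (hem : e ≤ m) : ηk + ηl ≤ m ∨ ∃ t, Odd t ∧ l = k * t := by
  by_cases ht : t₂ = 1
  · right
    refine ⟨t₁, ht₁, ?_⟩
    rw [ht, mul_one] at h2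
    rw [← hl2, ← hk2, ← h2, h1]
    ring
  · left
    have h3 : 3 ≤ t₂ := by
      obtain ⟨c, hc⟩ := ht₂
      omega
    have h4 : ηl * 3 ≤ ηl * t₂ := Nat.mul_le_mul_left ηl h3
    omega

theorem arith_minus (k l ηk ηl d m : ℕ) (hηk : (Odd k ∧ ηk = k) ∨ (Even k ∧ 2 * ηk = k))
    (hηl : (Odd l ∧ ηl = l) ∨ (Even l ∧ 2 * ηl = l)) (hl1 : 1 ≤ l)
    (hkd : k ∣ d) (hld : l ∣ d) (hd1 : 1 ≤ d) (hη : ηk ≤ ηl) (hdm : d ≤ m) :
    ηk + ηl ≤ m ∨ ∃ t, Odd t ∧ l = k * t := by
  have hηkle : ηk ≤ k := by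
    rcases hηk with ⟨_, h⟩ | ⟨_, h⟩ <;> omega
  have hηlle : ηl ≤ l := by
    rcases hηl with ⟨_, h⟩ | ⟨_, h⟩ <;> omega
  obtain ⟨t, ht⟩ := hld
  by_cases ht1 : t = 1
  · rw [ht1, mul_one] at ht
    rw [ht] at hkd
    obtain ⟨t', ht'⟩ := hkd
    rcases Nat.even_or_odd t' with hev | hodd
    · left
      obtain ⟨c, hc⟩ := hev
      have hc1 : 1 ≤ c := by
        rcases Nat.eq_zero_or_pos c with h | h
        · rw [hc, h, add_zero, mul_zero] at ht'
          omega
        · exact h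
      have hl_even : Even l := ⟨k * c, by rw [ht', hc]; ring⟩
      rcases hηl with ⟨hodd, -⟩ | ⟨-, h2⟩
      · exact absurd hl_even (Nat.not_even_iff_odd.mpr hodd)
      · have h5 : ηl = k * c := by
          have h6 : 2 * ηl = 2 * (k * c) := by rw [h2, ht', hc]; ring
          omega
        have h7 : k * 1 ≤ k * c := Nat.mul_le_mul_left k hc1
        omega
    · right
      exact ⟨t', hodd, ht'⟩
  · left
    have h2 : 2 ≤ t := by
      rcases Nat.eq_zero_or_pos t with h | h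
      · rw [h, mul_zero] at ht
        omega
      · omega
    have h3 : l * 2 ≤ l * t := Nat.mul_le_mul_left l h2
    omega

/-- Data from `r ∣ q^e + 1`. -/
theorem plus_data (r q k ηk e : ℕ) (hr : r.Prime) (hq1 : 1 ≤ q)
    (hk : k = orderOf ((q : ℕ) : ZMod r)) (hηk : (Odd k ∧ ηk = k) ∨ (Even k ∧ 2 * ηk = k))
    (h1 : r ∣ q ^ e + 1) (hr2 : r ≠ 2) :
    2 * ηk = k ∧ ∃ t, Odd t ∧ e = ηk * t := by
  have hr_not_dvd_two : ¬ r ∣ 2 := by
    intro h
    have h1 := Nat.le_of_dvd (by norm_num) h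
    have h2 := hr.two_le
    omega
  have h2 : r ∣ q ^ (2 * e) - 1 := by
    rw [q2e_sub_one q e hq1]
    exact h1.mul_left _
  have h3 : k ∣ 2 * e := by
    rw [hk]
    exact order_dvd_of_dvd r q (2 * e) hq1 h2
  have h4 : ¬ k ∣ e := by
    intro h
    have h5 : r ∣ q ^ e - 1 := by
      rw [hk] at h
      exact dvd_pow_sub_one_of_order_dvd r q e h
    have h6 : r ∣ (q ^ e + 1) - (q ^ e - 1) := Nat.dvd_sub h1 h5
    have h7 : (q ^ e + 1) - (q ^ e - 1) = 2 := by
      have := Nat.one_le_pow e q hq1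
      omega
    rw [h7] at h6
    exact hr_not_dvd_two h6
  rcases hηk with ⟨hodd, hη⟩ | ⟨heven, hη⟩
  · exfalso
    have hcop : Nat.Coprime k 2 := Nat.coprime_two_right.mpr hodd
    exact h4 (hcop.dvd_of_dvd_mul_left h3)
  · refine ⟨hη, ?_⟩
    have h8 : ηk ∣ e := by
      rw [← hη] at h3
      exact Nat.dvd_of_mul_dvd_mul_left (by norm_num) h3
    obtain ⟨t, ht⟩ := h8
    refine ⟨t, ?_, ht⟩
    rcases Nat.even_or_odd t with hev | hodd
    · exfalso
      obtain ⟨c, hc⟩ := hev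
      apply h4
      refine ⟨c, ?_⟩
      rw [ht, hc, ← hη]
      ring
    · exact hodd

/-- `r ∣ q^η + 1` when `e(r, q) = 2 η`. -/
theorem dvd_plus (r q k ηk : ℕ) (hr : r.Prime) (hq1 : 1 ≤ q)
    (hk : k = orderOf ((q : ℕ) : ZMod r)) (h2 : 2 * ηk = k) (hη1 : 1 ≤ ηk) :
    r ∣ q ^ ηk + 1 := by
  have hrk : r ∣ q ^ k - 1 := by
    rw [hk]
    exact dvd_pow_order_sub_one r q
  rw [← h2, q2e_sub_one q ηk hq1] at hrk
  rcases (Nat.Prime.dvd_mul hr).mp hrk with h | h
  · exfalso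
    have h1 := order_dvd_of_dvd r q ηk hq1 h
    rw [← hk] at h1
    have h3 := Nat.le_of_dvd hη1 h1
    omega
  · exact h

end arith

section main

variable {F : Type u} [Field F] [Fintype F]

/-- The induction over orthogonal decompositions, for isometries of order `r s`. -/
theorem struct_bound2 (p : ℕ) [Fact p.Prime] [CharP F p] (r s : ℕ) (hr : r.Prime) (hs : s.Prime)
    (hr2 : r ≠ 2) (hs2 : s ≠ 2) (hrp : r ≠ p) (hsp : s ≠ p) (hrs : r ≠ s) (k l ηk ηl : ℕ)
    (hk : k = orderOf ((Fintype.card F : ℕ) : ZMod r))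
    (hl : l = orderOf ((Fintype.card F : ℕ) : ZMod s)) (hl1 : 1 ≤ l)
    (hηk : (Odd k ∧ ηk = k) ∨ (Even k ∧ 2 * ηk = k))
    (hηl : (Odd l ∧ ηl = l) ∨ (Even l ∧ 2 * ηl = l)) (hkl : ηk ≤ ηl) :
    ∀ (m : ℕ) (V : Type v) [AddCommGroup V] [Module F V] [FiniteDimensional F V]
      (B : LinearMap.BilinForm F V) (T : Module.End F V),
      (∀ v, B v v = 0) → (∀ v, (∀ w, B v w = 0) → v = 0) → Module.finrank F V = 2 * m →
      aeval T (X ^ (r * s) - 1 : F[X]) = 0 → Preserves B T →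
      (aeval T (X ^ s - 1 : F[X]) ≠ 0 → ηk ≤ m) ∧ (aeval T (X ^ r - 1 : F[X]) ≠ 0 → ηl ≤ m) ∧
        (aeval T (X ^ s - 1 : F[X]) ≠ 0 → aeval T (X ^ r - 1 : F[X]) ≠ 0 →
          ηk + ηl ≤ m ∨ ∃ t, Odd t ∧ l = k * t) := by
  classical
  have hp : p.Prime := Fact.out
  obtain ⟨q, hq⟩ : ∃ q, q = Fintype.card F := ⟨_, rfl⟩
  rw [← hq] at hk hl
  have hq1 : 1 ≤ q := by rw [hq]; exact Fintype.card_pos
  have hrF : (r : F) ≠ 0 := by
    intro h
    rw [CharP.cast_eq_zero_iff F p r] at h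
    exact hrp ((Nat.prime_dvd_prime_iff_eq hp hr).mp h).symm
  have hsF : (s : F) ≠ 0 := by
    intro h
    rw [CharP.cast_eq_zero_iff F p s] at h
    exact hsp ((Nat.prime_dvd_prime_iff_eq hp hs).mp h).symm
  have hrsF : ((r * s : ℕ) : F) ≠ 0 := by
    rw [Nat.cast_mul]
    exact mul_ne_zero hrF hsF
  have hηkle : ηk ≤ k := by
    rcases hηk with ⟨_, h⟩ | ⟨_, h⟩ <;> omega
  have hηlle : ηl ≤ l := by
    rcases hηl with ⟨_, h⟩ | ⟨_, h⟩ <;> omega
  intro m
  induction m using Nat.strong_induction_on with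
  | _ m ih =>
    intro V _ _ _ B T halt hnd hdim hA hpres
    by_cases hdec : OrthDec B T
    · obtain ⟨V₁, V₂, hc, h1, h2, hi1, hi2, horth⟩ := hdec
      obtain ⟨hnd₁, hnd₂⟩ := nondeg_restrict_bil B halt hnd V₁ V₂ hc horth
      have halt₁ : ∀ x : V₁, B.restrict V₁ x x = 0 := fun x => halt _
      have halt₂ : ∀ x : V₂, B.restrict V₂ x x = 0 := fun x => halt _
      obtain ⟨m₁, hm₁⟩ := even_finrank _ V₁ (B.restrict V₁) halt₁ hnd₁ rfl
      obtain ⟨m₂, hm₂⟩ := even_finrank _ V₂ (B.restrict V₂) halt₂ hnd₂ rfl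
      have hsum := Submodule.finrank_add_eq_of_isCompl hc
      have hpos₁ : 0 < Module.finrank F V₁ := by
        rcases Nat.eq_zero_or_pos (Module.finrank F V₁) with h | h
        · exact absurd (Submodule.finrank_eq_zero.mp h) h1
        · exact h
      have hpos₂ : 0 < Module.finrank F V₂ := by
        rcases Nat.eq_zero_or_pos (Module.finrank F V₂) with h | h
        · exact absurd (Submodule.finrank_eq_zero.mp h) h2
        · exact h
      have hpres₁ : Preserves (B.restrict V₁) (T.restrict hi1) := fun x y => hpres x y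
      have hpres₂ : Preserves (B.restrict V₂) (T.restrict hi2) := fun x y => hpres x y
      obtain ⟨ia₁, ib₁, ic₁⟩ := ih m₁ (by omega) V₁ (B.restrict V₁) (T.restrict hi1) halt₁ hnd₁
        (by omega) (aeval_restrict_eq_zero T V₁ hi1 _ hA) hpres₁
      obtain ⟨ia₂, ib₂, ic₂⟩ := ih m₂ (by omega) V₂ (B.restrict V₂) (T.restrict hi2) halt₂ hnd₂
        (by omega) (aeval_restrict_eq_zero T V₂ hi2 _ hA) hpres₂
      refine ⟨?_, ?_, ?_⟩
      · intro hs'
        rcases aeval_ne_zero_split T V₁ V₂ hc hi1 hi2 _ hs' with h | h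
        · have := ia₁ h
          omega
        · have := ia₂ h
          omega
      · intro hr'
        rcases aeval_ne_zero_split T V₁ V₂ hc hi1 hi2 _ hr' with h | h
        · have := ib₁ h
          omega
        · have := ib₂ h
          omega
      · intro hs' hr'
        rcases aeval_ne_zero_split T V₁ V₂ hc hi1 hi2 _ hs' with h | h
        · by_cases hu₁ : aeval (T.restrict hi1) (X ^ r - 1 : F[X]) = 0
          · rcases aeval_ne_zero_split T V₁ V₂ hc hi1 hi2 _ hr' with h' | h'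
            · exact absurd hu₁ h'
            · left
              have e1 := ia₁ h
              have e2 := ib₂ h'
              omega
          · rcases ic₁ h hu₁ with h3 | h3
            · left
              omega
            · exact Or.inr h3
        · by_cases hu₂ : aeval (T.restrict hi2) (X ^ r - 1 : F[X]) = 0
          · rcases aeval_ne_zero_split T V₁ V₂ hc hi1 hi2 _ hr' with h' | h'
            · left
              have e1 := ia₂ h
              have e2 := ib₁ h'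
              omega
            · exact absurd hu₂ h'
          · rcases ic₂ h hu₂ with h3 | h3
            · left
              omega
            · exact Or.inr h3
    · by_cases hm0 : m = 0
      · have hsub : Subsingleton V := by
          rw [← Module.finrank_zero_iff (R := F), hdim, hm0]
        have hz : ∀ E : Module.End F V, E = 0 := fun E =>
          LinearMap.ext (fun x => Subsingleton.elim _ _)
        exact ⟨fun h => absurd (hz _) h, fun h => absurd (hz _) h, fun h _ => absurd (hz _) h⟩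
      have hm1 : 1 ≤ m := by omega
      haveI : Nontrivial V := Module.nontrivial_of_finrank_pos (R := F) (by omega)
      have hT1 : T ^ (r * s) = 1 := by
        have h1 := hA
        rw [map_sub, map_pow, aeval_X, map_one] at h1
        exact sub_eq_zero.mp h1
      have hss : T.IsSemisimple := by
        have hsep : (X ^ (r * s) - C (1 : F) : F[X]).Separable :=
          separable_X_pow_sub_C 1 hrsF one_ne_zero
        apply Module.End.isSemisimple_of_squarefree_aeval_eq_zero hsep.squarefree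
        rw [map_sub, map_pow, aeval_X, aeval_C, hT1, map_one, sub_self]
      have hs1 : aeval T (X ^ s - 1 : F[X]) ≠ 0 ↔ T ^ s ≠ 1 := by
        rw [map_sub, map_pow, aeval_X, map_one, Ne, sub_eq_zero]
      have hr1 : aeval T (X ^ r - 1 : F[X]) ≠ 0 ↔ T ^ r ≠ 1 := by
        rw [map_sub, map_pow, aeval_X, map_one, Ne, sub_eq_zero]
      rw [hs1, hr1]
      have key := struct p B m hm1 hnd hdim T hdec T (Commute.refl T) hpres (r * s)
        (Nat.mul_pos hr.pos hs.pos) hT1 hss 1 (Commute.one_left T) 0 (one_pow _)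
      rw [← hq] at key
      have hrdvd : T ^ s ≠ 1 → ∀ N : ℕ, T ^ N = 1 → r ∣ N := by
        intro hne N hN
        by_contra hnd'
        have hcop : Nat.Coprime r N := (Nat.Prime.coprime_iff_not_dvd hr).mpr hnd'
        have h1 : T ^ Nat.gcd (r * s) N = 1 := pow_gcd_eq_one.mpr ⟨hT1, hN⟩
        rw [Nat.Coprime.gcd_mul_left_cancel s hcop] at h1
        exact hne (pow_gcd_eq_one.mp h1).1
      have hsdvd : T ^ r ≠ 1 → ∀ N : ℕ, T ^ N = 1 → s ∣ N := by
        intro hne N hN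
        by_contra hnd'
        have hcop : Nat.Coprime s N := (Nat.Prime.coprime_iff_not_dvd hs).mpr hnd'
        have h1 : T ^ Nat.gcd (r * s) N = 1 := pow_gcd_eq_one.mpr ⟨hT1, hN⟩
        rw [Nat.Coprime.gcd_mul_right_cancel r hcop] at h1
        exact hne (pow_gcd_eq_one.mp h1).1
      have hnot2 : ∀ r' : ℕ, r'.Prime → r' ≠ 2 → ¬ r' ∣ 2 := by
        intro r' hr' hr'2 h
        have h1 := Nat.le_of_dvd (by norm_num) h
        have h2 := hr'.two_le
        omega
      rcases key with h2 | ⟨e, he1, hem, hse, -⟩ | ⟨d, hd1, hdm, hsd, -⟩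
      · have hTs : T ^ s = 1 := by
          by_contra hne
          exact hnot2 r hr hr2 (hrdvd hne 2 h2)
        have hTr : T ^ r = 1 := by
          by_contra hne
          exact hnot2 s hs hs2 (hsdvd hne 2 h2)
        exact ⟨fun h => absurd hTs h, fun h => absurd hTr h, fun h _ => absurd hTs h⟩
      · have hem' := Nat.le_of_dvd hm1 hem
        have hkdata : T ^ s ≠ 1 → 2 * ηk = k ∧ ∃ t, Odd t ∧ e = ηk * t := fun hne =>
          plus_data r q k ηk e hr hq1 hk hηk (hrdvd hne _ hse) hr2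
        have hldata : T ^ r ≠ 1 → 2 * ηl = l ∧ ∃ t, Odd t ∧ e = ηl * t := fun hne =>
          plus_data s q l ηl e hs hq1 hl hηl (hsdvd hne _ hse) hs2
        refine ⟨?_, ?_, ?_⟩
        · intro hne
          obtain ⟨-, t, -, ht⟩ := hkdata hne
          have h3 : ηk ≤ e := Nat.le_of_dvd he1 ⟨t, ht⟩
          omega
        · intro hne
          obtain ⟨-, t, -, ht⟩ := hldata hne
          have h3 : ηl ≤ e := Nat.le_of_dvd he1 ⟨t, ht⟩
          omega
        · intro hne hne'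
          obtain ⟨hk2, t₁, ht₁, h1⟩ := hkdata hne
          obtain ⟨hl2, t₂, ht₂, h2'⟩ := hldata hne'
          exact arith_plus k l ηk ηl e t₁ t₂ m hk2 hl2 h1 h2' ht₁ ht₂ hkl hem'
      · have hdm' := Nat.le_of_dvd hm1 hdm
        have hkdata : T ^ s ≠ 1 → k ∣ d := by
          intro hne
          rw [hk]
          exact order_dvd_of_dvd r q d hq1 (hrdvd hne _ hsd)
        have hldata : T ^ r ≠ 1 → l ∣ d := by
          intro hne
          rw [hl]
          exact order_dvd_of_dvd s q d hq1 (hsdvd hne _ hsd)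
        refine ⟨?_, ?_, ?_⟩
        · intro hne
          have h3 := Nat.le_of_dvd hd1 (hkdata hne)
          omega
        · intro hne
          have h3 := Nat.le_of_dvd hd1 (hldata hne)
          omega
        · intro hne hne'
          exact arith_minus k l ηk ηl d m hηk hηl hl1 (hkdata hne) (hldata hne') hd1 hkl hdm'

omit [Fintype F] in
/-- Replacing `T` by `± T` to kill a sign. -/
theorem exists_normalised {V : Type v} [AddCommGroup V] [Module F V]
    (B : LinearMap.BilinForm F V) (T : Module.End F V) (hT : Preserves B T) (N : ℕ)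
    (hN : Odd N) (hTN : T ^ N = 1 ∨ T ^ N = -1) :
    ∃ T' : Module.End F V, Preserves B T' ∧ T' ^ N = 1 ∧
      ∀ j : ℕ, T' ^ j = 1 → (T ^ j = 1 ∨ T ^ j = -1) := by
  obtain ⟨ε, hε, hTε⟩ : ∃ ε : F, (ε = 1 ∨ ε = -1) ∧ T ^ N = ε • (1 : Module.End F V) := by
    rcases hTN with h | h
    · exact ⟨1, Or.inl rfl, by rw [h, one_smul]⟩
    · exact ⟨-1, Or.inr rfl, by rw [h, neg_smul, one_smul]⟩
  have hε2 : ε * ε = 1 := by
    rcases hε with h | h <;> rw [h] <;> ring
  have hεN : ε ^ (N + 1) = 1 := by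
    rcases hε with h | h
    · rw [h, one_pow]
    · rw [h]
      exact Even.neg_one_pow hN.add_one
  refine ⟨ε • T, ?_, ?_, fun j hj => ?_⟩
  · intro x y
    have h1 := hT x y
    simp only [LinearMap.smul_apply, map_smul, smul_eq_mul]
    rw [← mul_assoc, hε2, one_mul]
    exact h1
  · rw [_root_.smul_pow, hTε, smul_smul, ← pow_succ, hεN, one_smul]
  · rw [_root_.smul_pow] at hj
    rcases hε with h | h
    · left
      rw [h, one_pow, one_smul] at hj
      exact hj
    · rw [h] at hj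
      rcases neg_one_pow_eq_or F j with h2 | h2
      · left
        rw [h2, one_smul] at hj
        exact hj
      · right
        rw [h2, neg_smul, one_smul] at hj
        exact neg_eq_iff_eq_neg.mp hj

theorem order_pos (p : ℕ) [Fact p.Prime] [CharP F p] (r : ℕ) (hr : r.Prime) (hrp : r ≠ p) :
    1 ≤ orderOf ((Fintype.card F : ℕ) : ZMod r) := by
  have hp : p.Prime := Fact.out
  haveI : Fact r.Prime := ⟨hr⟩
  have hqr : ((Fintype.card F : ℕ) : ZMod r) ≠ 0 := by
    intro h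
    rw [ZMod.natCast_eq_zero_iff] at h
    obtain ⟨a, -, ha⟩ := FiniteField.card F p
    rw [ha] at h
    have h2 := hr.dvd_of_dvd_pow h
    exact hrp ((Nat.prime_dvd_prime_iff_eq hr hp).mp h2)
  have h1 := orderOf_dvd_of_pow_eq_one (ZMod.pow_card_sub_one_eq_one hqr)
  have h2 : 0 < r - 1 := by
    have := hr.two_le
    omega
  exact Nat.pos_of_dvd_of_pos h1 h2

/-- **Elements of order `r s` in `PSp_{2n}(q)`.** -/
theorem bound_sp2 (p : ℕ) [Fact p.Prime] [CharP F p] (r s : ℕ) (hr : r.Prime) (hs : s.Prime)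
    (hr2 : r ≠ 2) (hs2 : s ≠ 2) (hrp : r ≠ p) (hsp : s ≠ p) (hrs : r ≠ s) (k l ηk ηl : ℕ)
    (hk : k = orderOf ((Fintype.card F : ℕ) : ZMod r))
    (hl : l = orderOf ((Fintype.card F : ℕ) : ZMod s))
    (hηk : (Odd k ∧ ηk = k) ∨ (Even k ∧ 2 * ηk = k))
    (hηl : (Odd l ∧ ηl = l) ∨ (Even l ∧ 2 * ηl = l)) (hkl : ηk ≤ ηl) (n : ℕ)
    {V : Type v} [AddCommGroup V] [Module F V] [FiniteDimensional F V]
    (B : LinearMap.BilinForm F V) (halt : ∀ v, B v v = 0) (hnd : ∀ v, (∀ w, B v w = 0) → v = 0)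
    (hdim : Module.finrank F V = 2 * n) (T : Module.End F V) (hT : Preserves B T)
    (hTrs : T ^ (r * s) = 1 ∨ T ^ (r * s) = -1) (hTr : ¬ (T ^ r = 1 ∨ T ^ r = -1))
    (hTs : ¬ (T ^ s = 1 ∨ T ^ s = -1)) :
    ηk + ηl ≤ n ∨ ∃ t, Odd t ∧ l = k * t := by
  have hl1 : 1 ≤ l := by
    rw [hl]
    exact order_pos p s hs hsp
  obtain ⟨T', hT', hT'N, hback⟩ := exists_normalised B T hT (r * s)
    ((hr.odd_of_ne_two hr2).mul (hs.odd_of_ne_two hs2)) hTrs
  have hA : aeval T' (X ^ (r * s) - 1 : F[X]) = 0 := by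
    rw [map_sub, map_pow, aeval_X, map_one, hT'N, sub_self]
  have h1 : aeval T' (X ^ s - 1 : F[X]) ≠ 0 := by
    rw [map_sub, map_pow, aeval_X, map_one]
    intro h
    exact hTs (hback s (sub_eq_zero.mp h))
  have h2 : aeval T' (X ^ r - 1 : F[X]) ≠ 0 := by
    rw [map_sub, map_pow, aeval_X, map_one]
    intro h
    exact hTr (hback r (sub_eq_zero.mp h))
  exact (struct_bound2 p r s hr hs hr2 hs2 hrp hsp hrs k l ηk ηl hk hl hl1 hηk hηl hkl n V B T'
    halt hnd hdim hA hT').2.2 h1 h2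

/-- Prime divisors of `|PSp_{2n}(q)|` different from the characteristic. -/
theorem eta_le_of_dvd_card (p : ℕ) [Fact p.Prime] [CharP F p] (r s : ℕ) (hr : r.Prime)
    (hs : s.Prime) (hr2 : r ≠ 2) (hs2 : s ≠ 2) (hrp : r ≠ p) (hsp : s ≠ p) (hrs : r ≠ s)
    (k l ηk ηl : ℕ) (hk : k = orderOf ((Fintype.card F : ℕ) : ZMod r))
    (hl : l = orderOf ((Fintype.card F : ℕ) : ZMod s))
    (hηk : (Odd k ∧ ηk = k) ∨ (Even k ∧ 2 * ηk = k))
    (hηl : (Odd l ∧ ηl = l) ∨ (Even l ∧ 2 * ηl = l)) (hkl : ηk ≤ ηl) (n : ℕ)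
    (hsG : s ∣ Nat.card (Matrix.symplecticGroup (Fin n) F ⧸
      Subgroup.center (Matrix.symplecticGroup (Fin n) F))) : ηl ≤ n := by
  classical
  haveI : Fact s.Prime := ⟨hs⟩
  have hl1 : 1 ≤ l := by
    rw [hl]
    exact order_pos p s hs hsp
  obtain ⟨x, hx⟩ := exists_prime_orderOf_dvd_card' s hsG
  obtain ⟨g, rfl⟩ := QuotientGroup.mk_surjective x
  have h1 : toEnd g ^ s = 1 ∨ toEnd g ^ s = -1 := by
    rw [← mk_pow_eq_one_iff, ← hx]
    exact pow_orderOf_eq_one _
  have h2 : ¬ (toEnd g ^ 1 = 1 ∨ toEnd g ^ 1 = -1) := by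
    rw [← mk_pow_eq_one_iff, pow_one]
    intro h
    rw [h, orderOf_one] at hx
    exact hs.one_lt.ne hx
  obtain ⟨T', hT', hT'N, hback⟩ := exists_normalised (stdForm n) (toEnd g) (preserves_toEnd g) s
    (hs.odd_of_ne_two hs2) h1
  have hA : aeval T' (X ^ (r * s) - 1 : F[X]) = 0 := by
    rw [map_sub, map_pow, aeval_X, map_one, mul_comm, pow_mul, hT'N, one_pow, sub_self]
  have h3 : aeval T' (X ^ r - 1 : F[X]) ≠ 0 := by
    rw [map_sub, map_pow, aeval_X, map_one]
    intro h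
    have h4 : T' ^ r = 1 := sub_eq_zero.mp h
    have h5 : T' ^ Nat.gcd r s = 1 := pow_gcd_eq_one.mpr ⟨h4, hT'N⟩
    rw [((Nat.coprime_primes hr hs).mpr hrs).gcd_eq_one, pow_one] at h5
    exact h2 (hback 1 (by rw [pow_one]; exact h5))
  exact (struct_bound2 p r s hr hs hr2 hs2 hrp hsp hrs k l ηk ηl hk hl hl1 hηk hηl hkl n
    (Fin n ⊕ Fin n → F) (stdForm n) T' (stdForm_self n) (stdForm_nondeg n)
    (SpecPSp.finrank_std n) hA hT').2.1 h3

/-- A block of rank `e` carrying a split torus element of odd order `m ∣ q^e - 1`. -/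
theorem exists_block_minus (p : ℕ) [Fact p.Prime] [CharP F p] (e : ℕ) [NeZero e] (m : ℕ)
    (hm : m ∣ Fintype.card F ^ e - 1) (hodd : Odd m) :
    ∃ g : Matrix.symplecticGroup (Fin e) F, toEnd g ^ m = 1 ∧
      ∀ i : ℕ, (toEnd g ^ i = 1 ∨ toEnd g ^ i = -1) → m ∣ i := by
  obtain ⟨z, hz0, hzm, hzord⟩ := exists_elt_order p e m hm
  obtain ⟨g, hg⟩ := exists_of_model e
    (FiniteField.Extension F p e × FiniteField.Extension F p e)
    (hypForm F _) (hypForm_alt F _) (hypForm_nondeg F _)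
    (by rw [Module.finrank_prod, FiniteField.finrank_extension]; ring)
    (hypMap F _ z) (preserves_hypMap F _ z hz0)
  refine ⟨g, ?_, fun i hi => ?_⟩
  · rw [(hg m).1, hypMap_pow, hzm, hypMap_eq_one_iff]
  · rw [(hg i).1, (hg i).2, hypMap_pow, hypMap_eq_one_iff, hypMap_eq_neg_one_iff] at hi
    have hz2 : z ^ (2 * i) = 1 := by
      rw [mul_comm 2 i, pow_mul]
      rcases hi with h | h
      · rw [h, one_pow]
      · rw [h]
        norm_num
    exact (Nat.Coprime.dvd_mul_left (Nat.coprime_two_right.mpr hodd)).mp (hzord _ hz2)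

/-- A block of rank `e` carrying an anisotropic torus element of odd order `m ∣ q^e + 1`. -/
theorem exists_block_plus (p : ℕ) [Fact p.Prime] [CharP F p] (e : ℕ) (he : 1 ≤ e) (m : ℕ)
    (hm : m ∣ Fintype.card F ^ e + 1) (hodd : Odd m) :
    ∃ g : Matrix.symplecticGroup (Fin e) F, toEnd g ^ m = 1 ∧
      ∀ i : ℕ, (toEnd g ^ i = 1 ∨ toEnd g ^ i = -1) → m ∣ i := by
  haveI : NeZero (2 * e) := ⟨by omega⟩
  obtain ⟨σ, c, γ, hσ, hσσ, hc, hc0, hγ, hγm, hγord⟩ := exists_unit_elt (F := F) p e he m hm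
  obtain ⟨g, hg⟩ := exists_of_model e (FiniteField.Extension F p (2 * e))
    (unitForm F _ σ c) (unitForm_alt' p e σ c hσ hσσ hc) (unitForm_nondeg F _ σ c hσσ hc0)
    (FiniteField.finrank_extension F p (2 * e))
    (LinearMap.mulLeft F γ) (preserves_mulLeft F _ σ c γ hγ)
  refine ⟨g, ?_, fun i hi => ?_⟩
  · rw [(hg m).1, mulLeft_pow', hγm, mulLeft_eq_one_iff]
  · rw [(hg i).1, (hg i).2, mulLeft_pow', mulLeft_eq_one_iff, mulLeft_eq_neg_one_iff] at hi
    have hz2 : γ ^ (2 * i) = 1 := by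
      rw [mul_comm 2 i, pow_mul]
      rcases hi with h | h
      · rw [h, one_pow]
      · rw [h]
        norm_num
    exact (Nat.Coprime.dvd_mul_left (Nat.coprime_two_right.mpr hodd)).mp (hγord _ hz2)

/-- The block attached to a prime `r`, of rank `η(e(r, q))`. -/
theorem exists_prime_block (p : ℕ) [Fact p.Prime] [CharP F p] (r : ℕ) (hr : r.Prime)
    (hr2 : r ≠ 2) (k ηk : ℕ) (hk : k = orderOf ((Fintype.card F : ℕ) : ZMod r)) (hk1 : 1 ≤ k)
    (hηk : (Odd k ∧ ηk = k) ∨ (Even k ∧ 2 * ηk = k)) :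
    ∃ g : Matrix.symplecticGroup (Fin ηk) F, toEnd g ^ r = 1 ∧
      ∀ i : ℕ, (toEnd g ^ i = 1 ∨ toEnd g ^ i = -1) → r ∣ i := by
  rcases hηk with ⟨hodd, hη⟩ | ⟨heven, hη⟩
  · haveI : NeZero ηk := ⟨by omega⟩
    exact exists_block_minus p ηk r
      (by rw [hη, hk]; exact dvd_pow_order_sub_one r _) (hr.odd_of_ne_two hr2)
  · have hη1 : 1 ≤ ηk := by omega
    exact exists_block_plus p ηk hη1 r (dvd_plus r _ k ηk hr Fintype.card_pos hk hη hη1)
      (hr.odd_of_ne_two hr2)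

omit [Fintype F] in
/-- Two commuting blocks. -/
theorem two_blocks (n e₁ e₂ m₁ m₂ : ℕ) (hn : e₁ + e₂ ≤ n) (hcop : Nat.Coprime m₁ m₂)
    (g₁ : Matrix.symplecticGroup (Fin e₁) F) (g₂ : Matrix.symplecticGroup (Fin e₂) F)
    (h₁ : toEnd g₁ ^ m₁ = 1) (h₂ : toEnd g₂ ^ m₂ = 1)
    (hmin₁ : ∀ i : ℕ, (toEnd g₁ ^ i = 1 ∨ toEnd g₁ ^ i = -1) → m₁ ∣ i)
    (hmin₂ : ∀ i : ℕ, (toEnd g₂ ^ i = 1 ∨ toEnd g₂ ^ i = -1) → m₂ ∣ i) :
    ∃ x : Matrix.symplecticGroup (Fin n) F ⧸ Subgroup.center (Matrix.symplecticGroup (Fin n) F),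
      orderOf x = m₁ * m₂ := by
  obtain ⟨d, hd⟩ := Nat.exists_eq_add_of_le hn
  apply exists_psp_of_model n
    (((Fin e₁ ⊕ Fin e₁ → F) × (Fin e₂ ⊕ Fin e₂ → F)) × (Fin d ⊕ Fin d → F))
    (sumForm (sumForm (stdForm e₁) (stdForm e₂)) (stdForm d))
    (sumForm_alt _ _ (sumForm_alt _ _ (stdForm_self e₁) (stdForm_self e₂)) (stdForm_self d))
    (sumForm_nondeg _ _ (sumForm_nondeg _ _ (stdForm_nondeg e₁) (stdForm_nondeg e₂))
      (stdForm_nondeg d))
    (by
      rw [Module.finrank_prod, Module.finrank_prod, SpecPSp.finrank_std, SpecPSp.finrank_std,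
        SpecPSp.finrank_std, hd]
      ring)
    (((toEnd g₁).prodMap (toEnd g₂)).prodMap 1)
    (preserves_prodMap (preserves_prodMap (preserves_toEnd g₁) (preserves_toEnd g₂))
      (preserves_one _))
    (m₁ * m₂)
  · left
    rw [prodMap_pow', prodMap_pow', prodMap_eq_one_iff, prodMap_eq_one_iff]
    exact ⟨⟨by rw [pow_mul, h₁, one_pow], by rw [mul_comm, pow_mul, h₂, one_pow]⟩, one_pow _⟩
  · intro i hi
    rw [prodMap_pow', prodMap_pow', prodMap_eq_one_iff, prodMap_eq_one_iff,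
      prodMap_eq_neg_one_iff, prodMap_eq_neg_one_iff] at hi
    apply Nat.Coprime.mul_dvd_of_dvd_of_dvd hcop
    · apply hmin₁
      rcases hi with ⟨⟨h, -⟩, -⟩ | ⟨⟨h, -⟩, -⟩
      · exact Or.inl h
      · exact Or.inr h
    · apply hmin₂
      rcases hi with ⟨⟨-, h⟩, -⟩ | ⟨⟨-, h⟩, -⟩
      · exact Or.inl h
      · exact Or.inr h

end main

end Cfsg.Agent.Helper42.PGraphS2
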