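import Mathlib

set_option autoImplicit false

namespace Cfsg.Agent.Helper42

/-- Piece CYC of CALL S1158: in a cyclic subgroup, at most `n` elements satisfy `x ^ n = 1`. -/
theorem card_mem_pow_eq_one_le_of_isCyclic {G : Type*} [Group G] [Finite G] (D : Subgroup G)
    (hD : IsCyclic D) {n : ℕ} (hn : 0 < n) :
    Nat.card {x : G // x ∈ D ∧ x ^ n = 1} ≤ n := by
  classical
  haveI : Fintype D := Fintype.ofFinite D
  have h1 := IsCyclic.card_pow_eq_one_le (α := D) hn
  have e : {x : G // x ∈ D ∧ x ^ n = 1} ≃ {a : D // a ^ n = 1} :=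
    { toFun := fun x => ⟨⟨x.1, x.2.1⟩, by
        apply Subtype.ext
        simpa using x.2.2⟩
      invFun := fun a => ⟨a.1.1, a.1.2, by
        have := congrArg Subtype.val a.2
        simpa using this⟩
      left_inv := fun x => rfl
      right_inv := fun a => rfl }
  rw [Nat.card_congr e, Nat.card_eq_fintype_card, Fintype.card_subtype]
  exact h1

end Cfsg.Agent.Helper42
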