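import Mathlib

set_option autoImplicit false

namespace Cfsg.Agent.Helper42

/-- Piece GA3 of CALL S1158: a subgroup containing the centralizers of its nontrivial
elements is a Hall subgroup: for every prime dividing its order, the full power lies in it. -/
theorem factorization_eq_of_TI {G : Type*} [Group G] [Finite G] (T : Subgroup G)
    (hTI : ∀ y ∈ T, y ≠ 1 → ∀ c : G, c * y = y * c → c ∈ T) {r : ℕ} (hr : r.Prime)
    (hrT : r ∣ Nat.card T) :
    (Nat.card T).factorization r = (Nat.card G).factorization r := by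
  classical
  haveI : Fact r.Prime := ⟨hr⟩
  have hTpos : Nat.card T ≠ 0 := Nat.card_pos.ne'
  have hGpos : Nat.card G ≠ 0 := Nat.card_pos.ne'
  apply le_antisymm
  · exact (Nat.factorization_le_iff_dvd hTpos hGpos).mpr (Subgroup.card_subgroup_dvd_card T) r
  -- Cauchy element of order r in T
  obtain ⟨z, hz⟩ := exists_prime_orderOf_dvd_card' (G := T) r hrT
  have hz1 : (z : G) ≠ 1 := by
    intro h
    have : z = 1 := Subtype.ext h
    rw [this, orderOf_one] at hz
    exact hr.one_lt.ne' hz.symm
  have hzo : orderOf (z : G) = r := by rw [Subgroup.orderOf_coe]; exact hz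
  -- Sylow r-subgroup containing z
  have hpz : IsPGroup r (Subgroup.zpowers (z : G)) := by
    apply IsPGroup.of_card (n := 1)
    rw [Nat.card_zpowers, hzo, pow_one]
  obtain ⟨P, hP⟩ := hpz.exists_le_sylow
  have hzP : (z : G) ∈ (P : Subgroup G) := hP (Subgroup.mem_zpowers _)
  haveI : Nontrivial (P : Subgroup G) := ⟨⟨⟨(z : G), hzP⟩, 1, fun h => hz1 (congrArg Subtype.val h)⟩⟩
  haveI := P.2.center_nontrivial
  obtain ⟨c, hc⟩ := exists_ne (1 : Subgroup.center (P : Subgroup G))
  have hc1 : ((c : (P : Subgroup G)) : G) ≠ 1 := by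
    intro h
    apply hc
    apply Subtype.ext
    apply Subtype.ext
    exact h
  have hccomm : ∀ x : (P : Subgroup G), ((c : (P : Subgroup G)) : G) * (x : G) = (x : G) * ((c : (P : Subgroup G)) : G) := by
    intro x
    have := Subgroup.mem_center_iff.mp c.2 x
    have h2 := congrArg Subtype.val this
    simpa using h2.symm
  have hcT : ((c : (P : Subgroup G)) : G) ∈ T := by
    apply hTI (z : G) z.2 hz1
    exact hccomm ⟨(z : G), hzP⟩
  have hPT : (P : Subgroup G) ≤ T := by
    intro x hx
    apply hTI _ hcT hc1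
    exact (hccomm ⟨x, hx⟩).symm
  have hPcard : Nat.card (P : Subgroup G) = r ^ (Nat.card G).factorization r :=
    Sylow.card_eq_multiplicity P
  have hdvd : r ^ (Nat.card G).factorization r ∣ Nat.card T := by
    rw [← hPcard]
    exact Subgroup.card_dvd_of_le hPT
  exact (hr.pow_dvd_iff_le_factorization hTpos).mp hdvd

end Cfsg.Agent.Helper42
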