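import Mathlib
import Cfsg.Agent.Helper94.S43Defs

/-!
# CALL S43 (helper94), piece TRS4: transvections of `Sp_4`, transitivity on non-zero vectors
-/

set_option autoImplicit false

namespace Cfsg.Agent.Helper42.S43TRS4

open Matrix Cfsg.Agent.Helper71.T4 Cfsg.Agent.Helper94.S43
open Cfsg.Agent.Helper71.SO (bl ruw Nuw)
open scoped Kronecker

variable {F : Type*} [Field F]

theorem tv4_entry (u : Fin 4 → F) (c : F) :
    tv4 u c = !![1 + c * (u 0 * u 3), c * (u 0 * u 2), -(c * (u 0 * u 1)), -(c * (u 0 * u 0));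
      c * (u 1 * u 3), 1 + c * (u 1 * u 2), -(c * (u 1 * u 1)), -(c * (u 1 * u 0));
      c * (u 2 * u 3), c * (u 2 * u 2), 1 - c * (u 2 * u 1), -(c * (u 2 * u 0));
      c * (u 3 * u 3), c * (u 3 * u 2), -(c * (u 3 * u 1)), 1 - c * (u 3 * u 0)] := by
  ext i j
  fin_cases i <;> fin_cases j <;>
    simp [tv4, J4, Matrix.vecMulVec_apply, Matrix.mulVec, dotProduct, Fin.sum_univ_four,
      Matrix.one_apply] <;> ring

theorem tv4_sp (u : Fin 4 → F) (c : F) : (tv4 u c)ᵀ * J4 F * tv4 u c = J4 F := by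
  rw [tv4_entry]
  ext i j
  fin_cases i <;> fin_cases j <;>
    simp [J4, Matrix.mul_apply, Fin.sum_univ_four, Matrix.transpose_apply] <;> ring

theorem tv4_mul (u : Fin 4 → F) (c d : F) : tv4 u c * tv4 u d = tv4 u (c + d) := by
  rw [tv4_entry, tv4_entry, tv4_entry]
  ext i j
  fin_cases i <;> fin_cases j <;>
    simp [Matrix.mul_apply, Fin.sum_univ_four] <;> ring

theorem tv4_zero (u : Fin 4 → F) : tv4 u 0 = 1 := by
  simp [tv4]

theorem tv4_pow (u : Fin 4 → F) (c : F) (k : ℕ) : tv4 u c ^ k = tv4 u ((k : F) * c) := by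
  induction k with
  | zero => simp [tv4_zero]
  | succ k ih =>
    rw [pow_succ, ih, tv4_mul]
    congr 1
    push_cast
    ring

theorem tv4_pow_char (p : ℕ) [CharP F p] (u : Fin 4 → F) (c : F) : tv4 u c ^ p = 1 := by
  rw [tv4_pow, CharP.cast_eq_zero, zero_mul, tv4_zero]

/-- the alternating form of `J4` -/
def b4 (x y : Fin 4 → F) : F := x 0 * y 3 + x 1 * y 2 - x 2 * y 1 - x 3 * y 0

theorem tv4_mulVec (v : Fin 4 → F) (c : F) (x : Fin 4 → F) :
    tv4 v c *ᵥ x = x + (c * b4 x v) • v := by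
  rw [tv4_entry]
  funext i
  fin_cases i <;>
    simp [Matrix.mulVec, dotProduct, Fin.sum_univ_four, b4] <;> ring

/-- the relation "some symplectic matrix maps `u` to `u'`" -/
def Rel4 (u u' : Fin 4 → F) : Prop :=
  ∃ A A' : Matrix (Fin 4) (Fin 4) F, Aᵀ * J4 F * A = J4 F ∧ A * A' = 1 ∧ A' * A = 1 ∧
    A *ᵥ u = u'

theorem rel4_step (u u' : Fin 4 → F) (h : b4 u u' ≠ 0) : Rel4 u u' := by
  refine ⟨tv4 (u' - u) (b4 u u')⁻¹, tv4 (u' - u) (-(b4 u u')⁻¹), tv4_sp _ _, ?_, ?_, ?_⟩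
  · rw [tv4_mul, add_neg_cancel, tv4_zero]
  · rw [tv4_mul, neg_add_cancel, tv4_zero]
  · rw [tv4_mulVec]
    have h1 : b4 u (u' - u) = b4 u u' := by
      simp only [b4, Pi.sub_apply]
      ring
    rw [h1, inv_mul_cancel₀ h, one_smul]
    abel

theorem rel4_trans {u z u' : Fin 4 → F} (h1 : Rel4 u z) (h2 : Rel4 z u') : Rel4 u u' := by
  obtain ⟨A, A', hA, hAA', hA'A, hAu⟩ := h1
  obtain ⟨B, B', hB, hBB', hB'B, hBz⟩ := h2
  refine ⟨B * A, A' * B', ?_, ?_, ?_, ?_⟩
  · rw [Matrix.transpose_mul]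
    calc Aᵀ * Bᵀ * J4 F * (B * A) = Aᵀ * (Bᵀ * J4 F * B) * A := by
          simp only [Matrix.mul_assoc]
      _ = J4 F := by rw [hB, hA]
  · calc B * A * (A' * B') = B * (A * A') * B' := by simp only [Matrix.mul_assoc]
      _ = 1 := by rw [hAA', Matrix.mul_one, hBB']
  · calc A' * B' * (B * A) = A' * (B' * B) * A := by simp only [Matrix.mul_assoc]
      _ = 1 := by rw [hB'B, Matrix.mul_one, hA'A]
  · rw [← Matrix.mulVec_mulVec, hAu, hBz]

theorem exists_b4_ne (u : Fin 4 → F) (hu : u ≠ 0) : ∃ x : Fin 4 → F, b4 u x ≠ 0 := by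
  by_contra hcon
  push Not at hcon
  apply hu
  have h3 := hcon ![0, 0, 0, 1]
  have h2 := hcon ![0, 0, 1, 0]
  have h1 := hcon ![0, 1, 0, 0]
  have h0 := hcon ![1, 0, 0, 0]
  simp [b4] at h0 h1 h2 h3
  funext i
  fin_cases i
  · exact h3
  · exact h2
  · exact h1
  · exact h0

theorem b4_swap (x y : Fin 4 → F) : b4 x y = -b4 y x := by
  simp only [b4]
  ring

theorem sp4_trans (u u' : Fin 4 → F) (hu : u ≠ 0) (hu' : u' ≠ 0) :
    ∃ A A' : Matrix (Fin 4) (Fin 4) F, Aᵀ * J4 F * A = J4 F ∧ A * A' = 1 ∧ A' * A = 1 ∧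
      A *ᵥ u = u' := by
  change Rel4 u u'
  by_cases h : b4 u u' = 0
  · obtain ⟨x, hx⟩ := exists_b4_ne u hu
    obtain ⟨y, hy⟩ := exists_b4_ne u' hu'
    have key : ∃ z : Fin 4 → F, b4 u z ≠ 0 ∧ b4 z u' ≠ 0 := by
      by_cases h1 : b4 u' x = 0
      · by_cases h2 : b4 u y = 0
        · refine ⟨x + y, ?_, ?_⟩
          · have e : b4 u (x + y) = b4 u x + b4 u y := by
              simp only [b4, Pi.add_apply]
              ring
            rw [e, h2, add_zero]
            exact hx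
          · have e : b4 (x + y) u' = -(b4 u' x) - b4 u' y := by
              simp only [b4, Pi.add_apply]
              ring
            rw [e, h1, neg_zero, zero_sub]
            exact neg_ne_zero.mpr hy
        · refine ⟨y, h2, ?_⟩
          rw [b4_swap]
          exact neg_ne_zero.mpr hy
      · refine ⟨x, hx, ?_⟩
        rw [b4_swap]
        exact neg_ne_zero.mpr h1
    obtain ⟨z, hz1, hz2⟩ := key
    exact rel4_trans (rel4_step u z hz1) (rel4_step z u' hz2)
  · exact rel4_step u u' h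

end Cfsg.Agent.Helper42.S43TRS4
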