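import Mathlib

set_option autoImplicit false

/-!
# Elementary facts on `SL₂(F)` (helper42)

* `det_eq`, `sl_ext` : entrywise descriptions;
* `commute_iff` : the commutant of a non-scalar 2×2 matrix `g` is `{a + b g}`;
* `card_centralizer` : for non-scalar `g ∈ SL₂(F)`, the centralizer of `g` in `SL₂(F)` is in
  bijection with the solutions of `a² + tr(g) a b + b² = 1`;
* `card_SL2` : `|SL₂(F)| = q (q² - 1)` (proof after helper5's `SLCard`).
-/

namespace Cfsg.Agent.Helper42.SL2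

open Matrix

variable {F : Type*} [Field F]

theorem det_eq (g : Matrix.SpecialLinearGroup (Fin 2) F) :
    g.1 0 0 * g.1 1 1 - g.1 0 1 * g.1 1 0 = 1 := by
  have := g.2
  rwa [Matrix.det_fin_two] at this

theorem sl_ext (g h : Matrix.SpecialLinearGroup (Fin 2) F) (h00 : g.1 0 0 = h.1 0 0)
    (h01 : g.1 0 1 = h.1 0 1) (h10 : g.1 1 0 = h.1 1 0) (h11 : g.1 1 1 = h.1 1 1) : g = h := by
  apply Subtype.ext
  ext i j
  fin_cases i <;> fin_cases j <;> assumption

omit [Field F] in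
theorem mat_ext (g h : Matrix (Fin 2) (Fin 2) F) (h00 : g 0 0 = h 0 0)
    (h01 : g 0 1 = h 0 1) (h10 : g 1 0 = h 1 0) (h11 : g 1 1 = h 1 1) : g = h := by
  ext i j
  fin_cases i <;> fin_cases j <;> assumption

/-- A 2×2 matrix is *non-scalar*. -/
def NonScalar (g : Matrix (Fin 2) (Fin 2) F) : Prop :=
  ¬ (g 0 1 = 0 ∧ g 1 0 = 0 ∧ g 0 0 = g 1 1)

theorem smul_one_add_smul_apply (g : Matrix (Fin 2) (Fin 2) F) (a b : F) :
    (a • (1 : Matrix (Fin 2) (Fin 2) F) + b • g) 0 0 = a + b * g 0 0 ∧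
    (a • (1 : Matrix (Fin 2) (Fin 2) F) + b • g) 0 1 = b * g 0 1 ∧
    (a • (1 : Matrix (Fin 2) (Fin 2) F) + b • g) 1 0 = b * g 1 0 ∧
    (a • (1 : Matrix (Fin 2) (Fin 2) F) + b • g) 1 1 = a + b * g 1 1 := by
  simp

/-- The commutant of a non-scalar matrix. -/
theorem commute_iff (g h : Matrix (Fin 2) (Fin 2) F) (hg : NonScalar g) :
    h * g = g * h ↔ ∃ a b : F, h = a • (1 : Matrix (Fin 2) (Fin 2) F) + b • g := by
  constructor
  · intro H
    have e00 := congrFun (congrFun H 0) 0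
    have e01 := congrFun (congrFun H 0) 1
    have e10 := congrFun (congrFun H 1) 0
    simp only [Matrix.mul_apply, Fin.sum_univ_two] at e00 e01 e10
    obtain ⟨c00, c01, c10, c11⟩ := smul_one_add_smul_apply g
      (h 0 0 - (h 0 1 / g 0 1) * g 0 0) (h 0 1 / g 0 1)
    obtain ⟨d00, d01, d10, d11⟩ := smul_one_add_smul_apply g
      (h 0 0 - (h 1 0 / g 1 0) * g 0 0) (h 1 0 / g 1 0)
    obtain ⟨f00, f01, f10, f11⟩ := smul_one_add_smul_apply g
      (h 0 0 - ((h 0 0 - h 1 1) / (g 0 0 - g 1 1)) * g 0 0) ((h 0 0 - h 1 1) / (g 0 0 - g 1 1))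
    by_cases hq : g 0 1 = 0
    · by_cases hr : g 1 0 = 0
      · have hps : g 0 0 - g 1 1 ≠ 0 := fun h0 => hg ⟨hq, hr, sub_eq_zero.1 h0⟩
        refine ⟨h 0 0 - ((h 0 0 - h 1 1) / (g 0 0 - g 1 1)) * g 0 0,
          (h 0 0 - h 1 1) / (g 0 0 - g 1 1), ?_⟩
        rw [hq] at e01
        rw [hr] at e10
        have hy : h 0 1 = 0 := by
          have : h 0 1 * (g 0 0 - g 1 1) = 0 := by linear_combination -e01
          exact (mul_eq_zero.1 this).resolve_right hps
        have hz : h 1 0 = 0 := by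
          have : h 1 0 * (g 0 0 - g 1 1) = 0 := by linear_combination e10
          exact (mul_eq_zero.1 this).resolve_right hps
        apply mat_ext
        · rw [f00]; ring
        · rw [f01, hq, hy]; ring
        · rw [f10, hr, hz]; ring
        · rw [f11]; field_simp; ring
      · refine ⟨h 0 0 - (h 1 0 / g 1 0) * g 0 0, h 1 0 / g 1 0, ?_⟩
        apply mat_ext
        · rw [d00]; ring
        · rw [d01]; field_simp; linear_combination e00
        · rw [d10]; field_simp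
        · rw [d11]; field_simp; linear_combination e10
    · refine ⟨h 0 0 - (h 0 1 / g 0 1) * g 0 0, h 0 1 / g 0 1, ?_⟩
      apply mat_ext
      · rw [c00]; ring
      · rw [c01]; field_simp
      · rw [c10]; field_simp; linear_combination -e00
      · rw [c11]; field_simp; linear_combination -e01
  · rintro ⟨a, b, rfl⟩
    simp [add_mul, mul_add]

/-- Determinant of `a + b g`. -/
theorem det_smul_one_add_smul (g : Matrix.SpecialLinearGroup (Fin 2) F) (a b : F) :
    (a • (1 : Matrix (Fin 2) (Fin 2) F) + b • g.1).det =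
      a ^ 2 + (g.1 0 0 + g.1 1 1) * a * b + b ^ 2 := by
  obtain ⟨c00, c01, c10, c11⟩ := smul_one_add_smul_apply g.1 a b
  rw [Matrix.det_fin_two, c00, c01, c10, c11]
  linear_combination b ^ 2 * det_eq g

/-- The element `a + b g` of `SL₂(F)`. -/
def mkC (g : Matrix.SpecialLinearGroup (Fin 2) F) (a b : F)
    (h : a ^ 2 + (g.1 0 0 + g.1 1 1) * a * b + b ^ 2 = 1) : Matrix.SpecialLinearGroup (Fin 2) F :=
  ⟨a • (1 : Matrix (Fin 2) (Fin 2) F) + b • g.1, (det_smul_one_add_smul g a b).trans h⟩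

theorem mkC_val (g : Matrix.SpecialLinearGroup (Fin 2) F) (a b : F)
    (h : a ^ 2 + (g.1 0 0 + g.1 1 1) * a * b + b ^ 2 = 1) :
    (mkC g a b h).1 = a • (1 : Matrix (Fin 2) (Fin 2) F) + b • g.1 := rfl

theorem mkC_mem (g : Matrix.SpecialLinearGroup (Fin 2) F) (hg : NonScalar g.1) (a b : F)
    (h : a ^ 2 + (g.1 0 0 + g.1 1 1) * a * b + b ^ 2 = 1) :
    mkC g a b h ∈ Subgroup.centralizer ({g} : Set (Matrix.SpecialLinearGroup (Fin 2) F)) := by
  refine Subgroup.mem_centralizer_iff.2 ?_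
  rintro x rfl
  apply Subtype.ext
  rw [Matrix.SpecialLinearGroup.coe_mul, Matrix.SpecialLinearGroup.coe_mul]
  exact ((commute_iff x.1 _ hg).2 ⟨_, _, mkC_val x a b h⟩).symm

theorem mkC_inj (g : Matrix.SpecialLinearGroup (Fin 2) F) (hg : NonScalar g.1) (a b a' b' : F)
    (h : a ^ 2 + (g.1 0 0 + g.1 1 1) * a * b + b ^ 2 = 1)
    (h' : a' ^ 2 + (g.1 0 0 + g.1 1 1) * a' * b' + b' ^ 2 = 1)
    (H : mkC g a b h = mkC g a' b' h') : a = a' ∧ b = b' := by
  have H' : a • (1 : Matrix (Fin 2) (Fin 2) F) + b • g.1 = a' • 1 + b' • g.1 := by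
    rw [← mkC_val g a b h, ← mkC_val g a' b' h', H]
  obtain ⟨c00, c01, c10, c11⟩ := smul_one_add_smul_apply g.1 a b
  obtain ⟨d00, d01, d10, d11⟩ := smul_one_add_smul_apply g.1 a' b'
  have e00 := congrFun (congrFun H' 0) 0
  have e01 := congrFun (congrFun H' 0) 1
  have e10 := congrFun (congrFun H' 1) 0
  have e11 := congrFun (congrFun H' 1) 1
  rw [c00, d00] at e00
  rw [c01, d01] at e01
  rw [c10, d10] at e10
  rw [c11, d11] at e11
  have hb : b = b' := by
    by_cases hq : g.1 0 1 = 0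
    · by_cases hr : g.1 1 0 = 0
      · have hps : g.1 0 0 - g.1 1 1 ≠ 0 := fun h0 => hg ⟨hq, hr, sub_eq_zero.1 h0⟩
        apply mul_right_cancel₀ hps
        linear_combination e00 - e11
      · exact mul_right_cancel₀ hr e10
    · exact mul_right_cancel₀ hq e01
  subst hb
  exact ⟨by linear_combination e00, rfl⟩

theorem exists_mkC (g : Matrix.SpecialLinearGroup (Fin 2) F) (hg : NonScalar g.1)
    (h : Matrix.SpecialLinearGroup (Fin 2) F)
    (hh : h ∈ Subgroup.centralizer ({g} : Set (Matrix.SpecialLinearGroup (Fin 2) F))) :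
    ∃ (a b : F) (hab : a ^ 2 + (g.1 0 0 + g.1 1 1) * a * b + b ^ 2 = 1), mkC g a b hab = h := by
  rw [Subgroup.mem_centralizer_iff] at hh
  have H := hh g rfl
  have H' : h.1 * g.1 = g.1 * h.1 := by
    rw [← Matrix.SpecialLinearGroup.coe_mul, ← Matrix.SpecialLinearGroup.coe_mul, H]
  obtain ⟨a, b, hab⟩ := (commute_iff g.1 h.1 hg).1 H'
  have hdet : a ^ 2 + (g.1 0 0 + g.1 1 1) * a * b + b ^ 2 = 1 := by
    rw [← det_smul_one_add_smul g a b, ← hab]
    exact h.2
  exact ⟨a, b, hdet, Subtype.ext ((mkC_val g a b hdet).trans hab.symm)⟩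

/-- For a non-scalar `g ∈ SL₂(F)`, the centralizer of `g` is in bijection with the solutions of
`a² + tr(g) a b + b² = 1`. -/
theorem card_centralizer (g : Matrix.SpecialLinearGroup (Fin 2) F) (hg : NonScalar g.1) :
    Nat.card (Subgroup.centralizer ({g} : Set (Matrix.SpecialLinearGroup (Fin 2) F))) =
      Nat.card {v : F × F // v.1 ^ 2 + (g.1 0 0 + g.1 1 1) * v.1 * v.2 + v.2 ^ 2 = 1} := by
  symm
  refine Nat.card_eq_of_bijective
    (fun v => ⟨mkC g v.1.1 v.1.2 v.2, mkC_mem g hg _ _ v.2⟩) ⟨?_, ?_⟩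
  · rintro ⟨⟨a, b⟩, hv⟩ ⟨⟨a', b'⟩, hv'⟩ H
    obtain ⟨h1, h2⟩ := mkC_inj g hg a b a' b' hv hv' (congrArg Subtype.val H)
    subst h1
    subst h2
    rfl
  · rintro ⟨h, hh⟩
    obtain ⟨a, b, hab, hmk⟩ := exists_mkC g hg h hh
    exact ⟨⟨(a, b), hab⟩, Subtype.ext hmk⟩

section card

variable [Fintype F]

omit [Fintype F] in
theorem toGL_range_eq_ker_det (n : Type*) [Fintype n] [DecidableEq n] :
    (Matrix.SpecialLinearGroup.toGL : Matrix.SpecialLinearGroup n F →* GL n F).range =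
      (Matrix.GeneralLinearGroup.det : GL n F →* Fˣ).ker := by
  ext g
  constructor
  · rintro ⟨s, rfl⟩
    rw [MonoidHom.mem_ker]
    ext
    simp
  · intro hg
    rw [MonoidHom.mem_ker] at hg
    refine ⟨⟨(g : Matrix n n F), ?_⟩, ?_⟩
    · have := congrArg Units.val hg
      simpa using this
    · ext i j
      rfl

/-- `|SL_n(q)| (q - 1) = |GL_n(q)|` for `n ≥ 1`. -/
theorem card_SL_mul (n : Type*) [Fintype n] [DecidableEq n] [Nonempty n] :
    Nat.card (Matrix.SpecialLinearGroup n F) * (Fintype.card F - 1) = Nat.card (GL n F) := by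
  have h1 : Nat.card (Matrix.SpecialLinearGroup n F) =
      Nat.card (Matrix.GeneralLinearGroup.det : GL n F →* Fˣ).ker := by
    rw [← toGL_range_eq_ker_det]
    exact Nat.card_congr
      (MonoidHom.ofInjective Matrix.SpecialLinearGroup.toGL_injective).toEquiv
  have h2 : (Matrix.GeneralLinearGroup.det : GL n F →* Fˣ).ker.index = Fintype.card F - 1 := by
    rw [Subgroup.index_ker, MonoidHom.range_eq_top.2 Matrix.GeneralLinearGroup.det_surjective]
    rw [Nat.card_congr Subgroup.topEquiv.toEquiv, Nat.card_units, Nat.card_eq_fintype_card]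
  rw [h1, ← h2, Subgroup.card_mul_index]

/-- `|SL_2(q)| = q (q^2 - 1)`. -/
theorem card_SL2 : Nat.card (Matrix.SpecialLinearGroup (Fin 2) F) =
    Fintype.card F * (Fintype.card F ^ 2 - 1) := by
  have h := card_SL_mul (F := F) (Fin 2)
  rw [Matrix.card_GL_field] at h
  simp only [Fin.prod_univ_two, Fin.val_zero, Fin.val_one, pow_zero, pow_one] at h
  have hq : 1 < Fintype.card F := Fintype.one_lt_card
  have hq1 : 0 < Fintype.card F - 1 := by omega
  apply Nat.eq_of_mul_eq_mul_right hq1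
  rw [h]
  have : Fintype.card F ^ 2 - Fintype.card F = Fintype.card F * (Fintype.card F - 1) := by
    rw [Nat.mul_sub, mul_one, sq]
  rw [this]; ring

end card

end Cfsg.Agent.Helper42.SL2
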