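import Mathlib
import Cfsg.Agent.Helper44.SPCDefs

/-!
# CALL S2676 (helper44), piece PRODCOUNT: the product of the numbers of classes
-/

set_option autoImplicit false

namespace Cfsg.Agent.Helper42.SPCPRODCOUNT

open Matrix Cfsg.Agent.Helper21.JCent Cfsg.Agent.Helper44.UC Cfsg.Agent.Helper44.SPC

/-- PRODCOUNT: the product of the numbers of classes. -/
theorem spc_prodcount {t : ℕ} (d : Fin t → ℕ)
    (hpar : ∀ j : ℕ, Odd j → Even (Finset.univ.filter (fun k : Fin t => d k = j)).card) :
    ∏ i : Fin (Finset.univ.sup d + 1), nOrb (i : ℕ) (Fintype.card {x : Fin t // dd d x = i})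
      = 2 ^ ((Finset.univ.image d).filter (fun j => Even j)).card := by
  classical
  have h1 : ∀ i : Fin (Finset.univ.sup d + 1),
      nOrb (i : ℕ) (Fintype.card {x : Fin t // dd d x = i})
        = if (Even (i : ℕ) ∧ (i : ℕ) ∈ Finset.univ.image d) then 2 else 1 := by
    intro i
    rw [card_block]
    by_cases hev : Even (i : ℕ)
    · by_cases hmem : (i : ℕ) ∈ Finset.univ.image d
      · have hne : (Finset.univ.filter (fun k : Fin t => d k = (i : ℕ))).card ≠ 0 := by
          obtain ⟨k, -, hk⟩ := Finset.mem_image.mp hmem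
          exact Finset.card_ne_zero.mpr ⟨k, Finset.mem_filter.mpr ⟨Finset.mem_univ _, hk⟩⟩
        simp only [nOrb, if_pos hev, if_neg hne, if_pos (And.intro hev hmem)]
      · have h0 : (Finset.univ.filter (fun k : Fin t => d k = (i : ℕ))).card = 0 := by
          rw [Finset.card_eq_zero, Finset.filter_eq_empty_iff]
          intro k _ hk
          exact hmem (Finset.mem_image.mpr ⟨k, Finset.mem_univ _, hk⟩)
        have hn : ¬ (Even (i : ℕ) ∧ (i : ℕ) ∈ Finset.univ.image d) := fun h => hmem h.2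
        simp only [nOrb, if_pos hev, if_pos h0, if_neg hn]
    · have hn : ¬ (Even (i : ℕ) ∧ (i : ℕ) ∈ Finset.univ.image d) := fun h => hev h.1
      simp only [nOrb, if_neg hev, if_pos (hpar _ (Nat.not_even_iff_odd.mp hev)), if_neg hn]
  rw [Finset.prod_congr rfl (fun i _ => h1 i), Finset.prod_ite, Finset.prod_const,
    Finset.prod_const_one, mul_one]
  congr 1
  rw [← Finset.card_map ⟨Fin.val, Fin.val_injective⟩]
  congr 1
  ext j
  simp only [Finset.mem_map, Finset.mem_filter, Finset.mem_univ, true_and,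
    Function.Embedding.coeFn_mk]
  constructor
  · rintro ⟨i, ⟨hev, hmem⟩, rfl⟩
    exact ⟨hmem, hev⟩
  · rintro ⟨hmem, hev⟩
    obtain ⟨k, -, hk⟩ := Finset.mem_image.mp hmem
    refine ⟨⟨j, ?_⟩, ⟨hev, hmem⟩, rfl⟩
    rw [← hk]
    exact Nat.lt_succ_of_le (Finset.le_sup (Finset.mem_univ k))

end Cfsg.Agent.Helper42.SPCPRODCOUNT
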