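import Mathlib
import Cfsg.Prelude.Def_GeometricClasses

/-!
# CALL S5981 (helper98), piece DBB: a bad diagonal element `diag(μ', μ, …, μ)`
-/

set_option autoImplicit false
open Matrix Polynomial

namespace Cfsg.Agent.Helper42.THDBB

variable {F : Type*} [Field F] [Fintype F]

omit [Fintype F] in
theorem dbb_conj_rank {n : ℕ} (g : GL (Fin n) F) (X : Matrix (Fin n) (Fin n) F) (l : F) :
    ((((g⁻¹ : GL (Fin n) F) : Matrix (Fin n) (Fin n) F) * X * (g : Matrix (Fin n) (Fin n) F)) -
      l • (1 : Matrix (Fin n) (Fin n) F)).rank =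
      (X - l • (1 : Matrix (Fin n) (Fin n) F)).rank := by
  have hg : IsUnit (g : Matrix (Fin n) (Fin n) F).det :=
    (Matrix.isUnit_iff_isUnit_det _).mp ⟨g, rfl⟩
  have hgi : IsUnit ((g⁻¹ : GL (Fin n) F) : Matrix (Fin n) (Fin n) F).det :=
    (Matrix.isUnit_iff_isUnit_det _).mp ⟨g⁻¹, rfl⟩
  have hinv : ((g⁻¹ : GL (Fin n) F) : Matrix (Fin n) (Fin n) F) * (g : Matrix (Fin n) (Fin n) F) = 1 := by
    rw [← Units.val_mul, inv_mul_cancel, Units.val_one]
  have e : ((g⁻¹ : GL (Fin n) F) : Matrix (Fin n) (Fin n) F) * X * (g : Matrix (Fin n) (Fin n) F) -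
      l • (1 : Matrix (Fin n) (Fin n) F) =
      ((g⁻¹ : GL (Fin n) F) : Matrix (Fin n) (Fin n) F) * (X - l • (1 : Matrix (Fin n) (Fin n) F)) *
        (g : Matrix (Fin n) (Fin n) F) := by
    rw [Matrix.mul_sub, Matrix.sub_mul, Matrix.mul_smul, Matrix.mul_one, Matrix.smul_mul, hinv]
  rw [e, Matrix.rank_mul_eq_left_of_isUnit_det _ _ hg, Matrix.rank_mul_eq_right_of_isUnit_det _ _ hgi]

omit [Fintype F] in
theorem dbb_diag_rank [DecidableEq F] {n : ℕ} (d : Fin n → F) (l : F) :
    (Matrix.diagonal d - l • (1 : Matrix (Fin n) (Fin n) F)).rank =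
      Fintype.card {i : Fin n // d i - l ≠ 0} := by
  have e : Matrix.diagonal d - l • (1 : Matrix (Fin n) (Fin n) F) =
      Matrix.diagonal (fun i => d i - l) := by
    rw [Matrix.smul_one_eq_diagonal, Matrix.diagonal_sub]
  rw [e, Matrix.rank_diagonal]

/-- DBB -/
theorem bad_diag_b (h2 : (2 : F) ≠ 0) {n : ℕ} (hn : 3 ≤ n) (r : ℕ) (hr : r.Prime) (hr2 : r ≠ 2)
    (μ : F) (hμ : μ ^ (n * r) = 1) (hμn : μ ^ n ≠ 1) (H : Subgroup (GL (Fin n) F))
    (hH : ∀ y ∈ H, ∃ c : F, c ≠ 0 ∧ ∀ l : F, l ≠ 0 →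
      ((y : Matrix (Fin n) (Fin n) F) - l • (1 : Matrix (Fin n) (Fin n) F)).rank =
        ((y : Matrix (Fin n) (Fin n) F) - (c / l) • (1 : Matrix (Fin n) (Fin n) F)).rank) :
    ∃ x : GL (Fin n) F, x ∈ Cfsg.Geo.specialLinear (Fin n) F ∧
      (∃ z : F, ((x ^ r : GL (Fin n) F) : Matrix (Fin n) (Fin n) F) = z • (1 : Matrix (Fin n) (Fin n) F)) ∧
      (∀ z : F, (x : Matrix (Fin n) (Fin n) F) ≠ z • (1 : Matrix (Fin n) (Fin n) F)) ∧
      ∀ g : GL (Fin n) F, g⁻¹ * x * g ∉ H := by
  haveI : DecidableEq F := Classical.decEq F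
  have hn0 : 0 < n := by omega
  have hr0 : 0 < r := hr.pos
  have hμ0 : μ ≠ 0 := by
    intro h
    rw [h, zero_pow (by positivity)] at hμ
    exact zero_ne_one hμ
  obtain ⟨μ', hμ'⟩ : ∃ μ' : F, μ' = (μ ^ (n - 1))⁻¹ := ⟨_, rfl⟩
  have hμ'0 : μ' ≠ 0 := by rw [hμ']; exact inv_ne_zero (pow_ne_zero _ hμ0)
  have hμ'μ : μ' * μ ^ (n - 1) = 1 := by rw [hμ']; exact inv_mul_cancel₀ (pow_ne_zero _ hμ0)
  have hne : μ' ≠ μ := by
    intro h
    apply hμn
    rw [h] at hμ'μ
    have : μ ^ n = μ * μ ^ (n - 1) := by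
      rw [← pow_succ']
      congr 1
      omega
    rw [this, hμ'μ]
  have hpr : μ' ^ r = μ ^ r := by
    have h1 : μ' ^ r * (μ ^ (n - 1)) ^ r = 1 := by rw [← mul_pow, hμ'μ, one_pow]
    have h2' : μ ^ r * (μ ^ (n - 1)) ^ r = 1 := by
      rw [← pow_mul, ← pow_add]
      have : r + (n - 1) * r = n * r := by
        have : n = (n - 1) + 1 := by omega
        conv_rhs => rw [this]
        ring
      rw [this, hμ]
    have h3 : (μ ^ (n - 1)) ^ r ≠ 0 := pow_ne_zero _ (pow_ne_zero _ hμ0)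
    exact mul_right_cancel₀ h3 (h1.trans h2'.symm)
  let i₀ : Fin n := ⟨0, hn0⟩
  obtain ⟨d, hd⟩ : ∃ d : Fin n → F, d = fun i => if i = i₀ then μ' else μ := ⟨_, rfl⟩
  have hdet : (Matrix.diagonal d).det = 1 := by
    rw [Matrix.det_diagonal, ← Finset.mul_prod_erase Finset.univ d (Finset.mem_univ i₀)]
    have h1 : d i₀ = μ' := by rw [hd]; simp
    have h2' : ∏ i ∈ Finset.univ.erase i₀, d i = μ ^ (n - 1) := by
      rw [Finset.prod_congr rfl (g := fun _ => μ)]
      · rw [Finset.prod_const, Finset.card_erase_of_mem (Finset.mem_univ _), Finset.card_univ,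
          Fintype.card_fin]
      · intro i hi
        rw [hd]
        simp only
        rw [if_neg (Finset.ne_of_mem_erase hi)]
    rw [h1, h2', hμ'μ]
  obtain ⟨x, hx⟩ : ∃ x : GL (Fin n) F, (x : Matrix (Fin n) (Fin n) F) = Matrix.diagonal d :=
    ⟨Matrix.GeneralLinearGroup.mk'' (Matrix.diagonal d) (by rw [hdet]; exact isUnit_one), rfl⟩
  -- rank counts
  have hcnt_mu : Fintype.card {i : Fin n // d i - μ ≠ 0} = 1 := by
    rw [Fintype.card_eq_one_iff]
    refine ⟨⟨i₀, ?_⟩, ?_⟩
    · rw [hd]; simp only [if_true]; exact sub_ne_zero.mpr hne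
    · rintro ⟨i, hi⟩
      apply Subtype.ext
      show i = i₀
      by_contra hc
      apply hi
      rw [hd]
      simp only
      rw [if_neg hc, sub_self]
  have hcnt_mu' : Fintype.card {i : Fin n // d i - μ' ≠ 0} = n - 1 := by
    rw [Fintype.card_subtype]
    have : (Finset.univ.filter fun i : Fin n => d i - μ' ≠ 0) = Finset.univ.erase i₀ := by
      ext i
      simp only [Finset.mem_filter, Finset.mem_univ, true_and, Finset.mem_erase, and_true]
      rw [hd]
      simp only
      by_cases hi : i = i₀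
      · rw [if_pos hi, sub_self]; simp [hi]
      · rw [if_neg hi]
        constructor
        · intro _; exact hi
        · intro _; exact sub_ne_zero.mpr (Ne.symm hne)
    rw [this, Finset.card_erase_of_mem (Finset.mem_univ _), Finset.card_univ, Fintype.card_fin]
  have hcnt_other : ∀ l : F, l ≠ μ → l ≠ μ' → Fintype.card {i : Fin n // d i - l ≠ 0} = n := by
    intro l h1 h2'
    rw [Fintype.card_subtype]
    have : (Finset.univ.filter fun i : Fin n => d i - l ≠ 0) = Finset.univ := by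
      ext i
      simp only [Finset.mem_filter, Finset.mem_univ, true_and, iff_true]
      rw [hd]
      simp only
      by_cases hi : i = i₀
      · rw [if_pos hi]; exact sub_ne_zero.mpr (Ne.symm h2')
      · rw [if_neg hi]; exact sub_ne_zero.mpr (Ne.symm h1)
    rw [this, Finset.card_univ, Fintype.card_fin]
  have hrank : ∀ l : F, (Matrix.diagonal d - l • (1 : Matrix (Fin n) (Fin n) F)).rank =
      if l = μ then 1 else if l = μ' then n - 1 else n := by
    intro l
    rw [dbb_diag_rank]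
    by_cases h1 : l = μ
    · rw [if_pos h1, h1, hcnt_mu]
    · rw [if_neg h1]
      by_cases h2' : l = μ'
      · rw [if_pos h2', h2', hcnt_mu']
      · rw [if_neg h2', hcnt_other l h1 h2']
  refine ⟨x, ?_, ⟨μ ^ r, ?_⟩, ?_, ?_⟩
  · show x ∈ (Matrix.GeneralLinearGroup.det : GL (Fin n) F →* Fˣ).ker
    rw [MonoidHom.mem_ker]
    apply Units.ext
    rw [Matrix.GeneralLinearGroup.val_det_apply, hx, hdet, Units.val_one]
  · rw [Units.val_pow_eq_pow_val, hx, Matrix.diagonal_pow, Matrix.smul_one_eq_diagonal]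
    congr 1
    funext i
    rw [hd]
    simp only [Pi.pow_apply]
    by_cases hi : i = i₀
    · rw [if_pos hi, hpr]
    · rw [if_neg hi]
  · intro z hz
    rw [hx, Matrix.smul_one_eq_diagonal] at hz
    have hinj := Matrix.diagonal_injective hz
    have h0 := congrFun hinj i₀
    have h1 := congrFun hinj (⟨1, by omega⟩ : Fin n)
    rw [hd] at h0 h1
    simp only [if_true] at h0
    have hne1 : (⟨1, by omega⟩ : Fin n) ≠ i₀ := by
      intro h
      have := congrArg Fin.val h
      simp [i₀] at this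
    simp only at h1
    rw [if_neg hne1] at h1
    exact hne (h0.trans h1.symm)
  · intro g hg
    obtain ⟨c, hc0, hc⟩ := hH _ hg
    have hval : ((g⁻¹ * x * g : GL (Fin n) F) : Matrix (Fin n) (Fin n) F) =
        ((g⁻¹ : GL (Fin n) F) : Matrix (Fin n) (Fin n) F) * Matrix.diagonal d *
          (g : Matrix (Fin n) (Fin n) F) := by
      rw [Units.val_mul, Units.val_mul, hx]
    have hc' : ∀ l : F, l ≠ 0 →
        (if l = μ then 1 else if l = μ' then n - 1 else n) =
          (if c / l = μ then 1 else if c / l = μ' then n - 1 else n) := by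
      intro l hl
      have := hc l hl
      rw [hval, dbb_conj_rank, dbb_conj_rank, hrank, hrank] at this
      exact this
    have e1 := hc' μ hμ0
    rw [if_pos rfl] at e1
    have hcμ : c / μ = μ := by
      by_contra hcon
      rw [if_neg hcon] at e1
      split_ifs at e1 <;> omega
    have e2 := hc' μ' hμ'0
    rw [if_neg hne, if_pos rfl] at e2
    have hcμ' : c / μ' = μ' := by
      by_contra hcon
      rw [if_neg hcon] at e2
      split_ifs at e2 <;> omega
    have hc1 : c = μ * μ := by rw [div_eq_iff hμ0] at hcμ; exact hcμ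
    have hc2 : c = μ' * μ' := by rw [div_eq_iff hμ'0] at hcμ'; exact hcμ'
    have hsq : (μ' - μ) * (μ' + μ) = 0 := by
      have : μ' * μ' = μ * μ := hc2.symm.trans hc1
      linear_combination this
    have hneg : μ' = -μ := by
      rcases mul_eq_zero.mp hsq with h | h
      · exact absurd (sub_eq_zero.mp h) hne
      · exact eq_neg_of_add_eq_zero_left h
    have hodd : Odd r := hr.odd_of_ne_two hr2
    rw [hneg, Odd.neg_pow hodd] at hpr
    have h2μ : (2 : F) * μ ^ r = 0 := by linear_combination -hpr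
    rcases mul_eq_zero.mp h2μ with h | h
    · exact h2 h
    · exact pow_ne_zero _ hμ0 h

end Cfsg.Agent.Helper42.THDBB
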