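import Mathlib
import Cfsg.Prelude.Def_GeometricClasses
import Cfsg.Prelude.Def_Classical
import Cfsg.Agent.Helper98.FieldSub

set_option autoImplicit false

/-!
Helper library (helper42), piece `F5B` of the call for S5850 (helper88): from a skew-adjoint
`K`-linear map `a` with `a² = ε μ²` (`ε` a non-square of `F`, `μ ∈ K`) to the unitary-type
field `K₂ = F[μ⁻¹ a]` of degree two, normalised by `N(K) ∩ O(Q)`.
-/

open Cfsg Cfsg.Geo Matrix

namespace Cfsg.Agent.Helper42

variable {F : Type*} [Field F] [Fintype F]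

set_option maxHeartbeats 1000000 in
theorem o10_field5_of_skew (h2 : (2 : F) ≠ 0) (Q : (Fin 10 → F) → F)
    (hQ : IsNondegenerateQuadraticForm Q) (K : Subalgebra F (Matrix (Fin 10) (Fin 10) F))
    (hK : IsFieldSubalgebra 5 K) (hsa : IsSelfAdjointFor (QuadraticMap.polar Q) K)
    (a : Matrix (Fin 10) (Fin 10) F) (ha0 : a ≠ 0) (haK : ∀ k ∈ K, k * a = a * k)
    (hskew : ∀ u v : Fin 10 → F,
      QuadraticMap.polar Q (a *ᵥ u) v = - QuadraticMap.polar Q u (a *ᵥ v))
    (huniv : ∀ b : Matrix (Fin 10) (Fin 10) F, (∀ k ∈ K, k * b = b * k) →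
        (∀ u v : Fin 10 → F, QuadraticMap.polar Q (b *ᵥ u) v = - QuadraticMap.polar Q u (b *ᵥ v)) →
        ∃ y ∈ K, b = y * a)
    (ε : F) (hε : ¬ IsSquare ε) (μ : Matrix (Fin 10) (Fin 10) F) (hμ : μ ∈ K) (hμ0 : μ ≠ 0)
    (hδ : a * a = ε • (μ * μ)) :
    ∃ K₂ : Subalgebra F (Matrix (Fin 10) (Fin 10) F), IsFieldSubalgebra 2 K₂ ∧
      IsAdjointClosedFor (QuadraticMap.polar Q) K₂ ∧ ¬ IsSelfAdjointFor (QuadraticMap.polar Q) K₂ ∧
      (∀ k ∈ K₂, ∃ c : F, ∀ v : Fin 10 → F, Q (k *ᵥ v) = c * Q v) ∧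
      subalgebraNormalizer K ⊓ isometryGroup F Q ≤ subalgebraNormalizer K₂ := by
  classical
  have hb := hQ.polar_bilinear
  have hε0 : ε ≠ 0 := by
    rintro rfl
    exact hε ⟨0, by simp⟩
  obtain ⟨ν, hν, hμν⟩ := hK.inv μ hμ hμ0
  have hνμ : ν * μ = 1 := by
    rw [hK.comm ν hν μ hμ]
    exact hμν
  obtain ⟨j, hj⟩ : ∃ j : Matrix (Fin 10) (Fin 10) F, j = ν * a := ⟨_, rfl⟩
  have hjK : ∀ k ∈ K, k * j = j * k := by
    intro k hk
    rw [hj, ← mul_assoc, hK.comm k hk ν hν, mul_assoc, haK k hk, mul_assoc]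
  have hjj : j * j = ε • (1 : Matrix (Fin 10) (Fin 10) F) := by
    calc j * j = ν * (a * ν) * a := by rw [hj]; simp only [mul_assoc]
      _ = ν * (ν * a) * a := by rw [haK ν hν]
      _ = (ν * ν) * (a * a) := by simp only [mul_assoc]
      _ = (ν * ν) * (ε • (μ * μ)) := by rw [hδ]
      _ = ε • ((ν * (ν * μ)) * μ) := by rw [mul_smul_comm]; simp only [mul_assoc]
      _ = ε • (1 : Matrix (Fin 10) (Fin 10) F) := by rw [hνμ, mul_one, hνμ]
  have hjskew : ∀ u v : Fin 10 → F,
      QuadraticMap.polar Q (j *ᵥ u) v = - QuadraticMap.polar Q u (j *ᵥ v) := by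
    intro u v
    calc QuadraticMap.polar Q (j *ᵥ u) v
        = QuadraticMap.polar Q (ν *ᵥ (a *ᵥ u)) v := by rw [hj, Matrix.mulVec_mulVec]
      _ = QuadraticMap.polar Q (a *ᵥ u) (ν *ᵥ v) := hsa ν hν _ _
      _ = - QuadraticMap.polar Q u (a *ᵥ (ν *ᵥ v)) := hskew _ _
      _ = - QuadraticMap.polar Q u (j *ᵥ v) := by rw [Matrix.mulVec_mulVec, ← haK ν hν, hj]
  have hmul : ∀ x y x' y' : F,
      (x • (1 : Matrix (Fin 10) (Fin 10) F) + y • j) * (x' • (1 : Matrix (Fin 10) (Fin 10) F) + y' • j) =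
      (x * x' + ε * y * y') • (1 : Matrix (Fin 10) (Fin 10) F) + (x * y' + y * x') • j := by
    intro x y x' y'
    simp only [add_mul, mul_add, smul_mul_smul_comm, one_mul, mul_one, hjj, smul_smul]
    module
  let K₂ : Subalgebra F (Matrix (Fin 10) (Fin 10) F) :=
    { carrier := {k | ∃ x y : F, k = x • (1 : Matrix (Fin 10) (Fin 10) F) + y • j}
      mul_mem' := by
        rintro _ _ ⟨x, y, rfl⟩ ⟨x', y', rfl⟩
        exact ⟨_, _, hmul x y x' y'⟩
      add_mem' := by
        rintro _ _ ⟨x, y, rfl⟩ ⟨x', y', rfl⟩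
        exact ⟨x + x', y + y', by module⟩
      algebraMap_mem' := by
        intro c
        exact ⟨c, 0, by rw [Algebra.algebraMap_eq_smul_one, zero_smul, add_zero]⟩ }
  have hjns : ∀ c : F, j ≠ c • (1 : Matrix (Fin 10) (Fin 10) F) := by
    intro c hc
    apply hε
    refine ⟨c, ?_⟩
    have h3 : ε • (1 : Matrix (Fin 10) (Fin 10) F) = (c * c) • (1 : Matrix (Fin 10) (Fin 10) F) := by
      rw [← hjj, hc, smul_mul_smul_comm, one_mul]
    have h4 := congrFun (congrFun h3 0) 0
    simpa using h4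
  have hzero : ∀ x y : F, x • (1 : Matrix (Fin 10) (Fin 10) F) + y • j = 0 → x = 0 ∧ y = 0 := by
    intro x y h
    by_cases hy : y = 0
    · subst hy
      rw [zero_smul, add_zero] at h
      have h4 := congrFun (congrFun h 0) 0
      simp at h4
      exact ⟨h4, rfl⟩
    · exfalso
      apply hjns (-(y⁻¹ * x))
      have h5 : y • j = -(x • (1 : Matrix (Fin 10) (Fin 10) F)) := by
        rw [← sub_eq_zero, sub_neg_eq_add, add_comm]
        exact h
      calc j = y⁻¹ • (y • j) := by rw [smul_smul, inv_mul_cancel₀ hy, one_smul]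
        _ = (-(y⁻¹ * x)) • (1 : Matrix (Fin 10) (Fin 10) F) := by
          rw [h5, smul_neg, smul_smul, neg_smul]
  have hnorm : ∀ x y : F, (x ≠ 0 ∨ y ≠ 0) → x * x - ε * y * y ≠ 0 := by
    intro x y hxy h
    by_cases hy : y = 0
    · subst hy
      have hx : x = 0 := by
        have h3 : x * x = 0 := by linear_combination h
        exact mul_self_eq_zero.mp h3
      rcases hxy with h' | h'
      · exact h' hx
      · exact h' rfl
    · apply hε
      refine ⟨x * y⁻¹, ?_⟩
      have h3 : ε * (y * y) = x * x := by linear_combination -h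
      calc ε = ε * (y * y) * (y⁻¹ * y⁻¹) := by field_simp
        _ = x * x * (y⁻¹ * y⁻¹) := by rw [h3]
        _ = x * y⁻¹ * (x * y⁻¹) := by ring
  have hF2 : IsFieldSubalgebra 2 K₂ := by
    refine ⟨?_, ?_, ?_⟩
    · rintro _ ⟨x, y, rfl⟩ _ ⟨x', y', rfl⟩
      rw [hmul, hmul]
      congr 2 <;> ring
    · rintro _ ⟨x, y, rfl⟩ hne
      have hxy : x ≠ 0 ∨ y ≠ 0 := by
        by_contra hcon
        push Not at hcon
        apply hne
        rw [hcon.1, hcon.2, zero_smul, zero_smul, add_zero]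
      have hN := hnorm x y hxy
      refine ⟨((x * x - ε * y * y)⁻¹ * x) • (1 : Matrix (Fin 10) (Fin 10) F) +
        (-((x * x - ε * y * y)⁻¹ * y)) • j, ⟨_, _, rfl⟩, ?_⟩
      rw [hmul]
      have e1 : x * ((x * x - ε * y * y)⁻¹ * x) + ε * y * (-((x * x - ε * y * y)⁻¹ * y)) = 1 := by
        have e0 : x * ((x * x - ε * y * y)⁻¹ * x) + ε * y * (-((x * x - ε * y * y)⁻¹ * y)) =
            (x * x - ε * y * y)⁻¹ * (x * x - ε * y * y) := by ring
        rw [e0, inv_mul_cancel₀ hN]
      have e2 : x * (-((x * x - ε * y * y)⁻¹ * y)) + y * ((x * x - ε * y * y)⁻¹ * x) = 0 := by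
        ring
      rw [e1, e2, one_smul, zero_smul, add_zero]
    · let φ : (F × F) →ₗ[F] ↥K₂ :=
        { toFun := fun p => ⟨p.1 • (1 : Matrix (Fin 10) (Fin 10) F) + p.2 • j, ⟨p.1, p.2, rfl⟩⟩
          map_add' := by
            intro p q
            apply Subtype.ext
            show (p.1 + q.1) • (1 : Matrix (Fin 10) (Fin 10) F) + (p.2 + q.2) • j =
              (p.1 • (1 : Matrix (Fin 10) (Fin 10) F) + p.2 • j) +
              (q.1 • (1 : Matrix (Fin 10) (Fin 10) F) + q.2 • j)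
            module
          map_smul' := by
            intro c p
            apply Subtype.ext
            show (c * p.1) • (1 : Matrix (Fin 10) (Fin 10) F) + (c * p.2) • j =
              c • (p.1 • (1 : Matrix (Fin 10) (Fin 10) F) + p.2 • j)
            module }
      have hφinj : Function.Injective φ := by
        rw [← LinearMap.ker_eq_bot, LinearMap.ker_eq_bot']
        intro p hp
        have h3 : p.1 • (1 : Matrix (Fin 10) (Fin 10) F) + p.2 • j = 0 := congrArg Subtype.val hp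
        obtain ⟨h4, h5⟩ := hzero _ _ h3
        exact Prod.ext h4 h5
      have hφsurj : Function.Surjective φ := by
        rintro ⟨k, x, y, rfl⟩
        exact ⟨(x, y), rfl⟩
      have h6 := (LinearEquiv.ofBijective φ ⟨hφinj, hφsurj⟩).finrank_eq
      rw [← h6, Module.finrank_prod, Module.finrank_self]
  have hmv : ∀ (x y : F) (u : Fin 10 → F),
      (x • (1 : Matrix (Fin 10) (Fin 10) F) + y • j) *ᵥ u = x • u + y • (j *ᵥ u) := by
    intro x y u
    rw [Matrix.add_mulVec, Matrix.smul_mulVec, Matrix.smul_mulVec, Matrix.one_mulVec]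
  have hadj : IsAdjointClosedFor (QuadraticMap.polar Q) K₂ := by
    rintro _ ⟨x, y, rfl⟩
    refine ⟨x • (1 : Matrix (Fin 10) (Fin 10) F) + (-y) • j, ⟨x, -y, rfl⟩, ?_⟩
    intro u v
    rw [hmv, hmv, hb.add_left, hb.smul_left, hb.smul_left, hb.add_right, hb.smul_right,
      hb.smul_right, hjskew]
    ring
  have hnsa : ¬ IsSelfAdjointFor (QuadraticMap.polar Q) K₂ := by
    intro hsa2
    have hjmem : j ∈ K₂ := ⟨0, 1, by rw [zero_smul, zero_add, one_smul]⟩
    have h3 : ∀ u : Fin 10 → F, j *ᵥ u = 0 := by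
      intro u
      by_contra hne
      obtain ⟨-, x, hx⟩ := hQ.nondegenerate _ hne
      apply hx
      have h4 := hsa2 j hjmem u x
      have h5 := hjskew u x
      have h6 : (2 : F) * QuadraticMap.polar Q (j *ᵥ u) x = 0 := by linear_combination h4 + h5
      exact (mul_eq_zero.mp h6).resolve_left h2
    have hj0 : j = 0 :=
      Cfsg.Agent.Helper98.matrix_ext_mulVec (fun x => by rw [h3, Matrix.zero_mulVec])
    rw [hj0, mul_zero] at hjj
    have h7 := congrFun (congrFun hjj 0) 0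
    simp at h7
    exact hε0 h7.symm
  have hpss : ∀ v : Fin 10 → F, QuadraticMap.polar Q v v = 2 * Q v := by
    intro v
    unfold QuadraticMap.polar
    rw [← two_smul F v, hQ.smul]
    ring
  have hsim : ∀ k ∈ K₂, ∃ c : F, ∀ v : Fin 10 → F, Q (k *ᵥ v) = c * Q v := by
    rintro _ ⟨x, y, rfl⟩
    refine ⟨x * x - ε * y * y, fun v => ?_⟩
    have e1 : QuadraticMap.polar Q (j *ᵥ v) v = - QuadraticMap.polar Q v (j *ᵥ v) := hjskew v v
    have e2 : QuadraticMap.polar Q (j *ᵥ v) (j *ᵥ v) = - (ε * QuadraticMap.polar Q v v) := by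
      rw [hjskew, Matrix.mulVec_mulVec, hjj, Matrix.smul_mulVec, Matrix.one_mulVec, hb.smul_right]
    have h3 : QuadraticMap.polar Q ((x • (1 : Matrix (Fin 10) (Fin 10) F) + y • j) *ᵥ v)
        ((x • (1 : Matrix (Fin 10) (Fin 10) F) + y • j) *ᵥ v) =
        (x * x - ε * y * y) * QuadraticMap.polar Q v v := by
      simp only [hmv, hb.add_left, hb.smul_left, hb.add_right, hb.smul_right]
      rw [e1, e2]
      ring
    rw [hpss, hpss] at h3
    have h4 : (2 : F) * (Q ((x • (1 : Matrix (Fin 10) (Fin 10) F) + y • j) *ᵥ v) -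
        (x * x - ε * y * y) * Q v) = 0 := by linear_combination h3
    have h5 := (mul_eq_zero.mp h4).resolve_left h2
    exact sub_eq_zero.mp h5
  have hconj : ∀ g : GL (Fin 10) F, g ∈ subalgebraNormalizer K ⊓ isometryGroup F Q →
      (g : Matrix (Fin 10) (Fin 10) F) * j * ((g⁻¹ : GL (Fin 10) F) : Matrix (Fin 10) (Fin 10) F) = j ∨
      (g : Matrix (Fin 10) (Fin 10) F) * j * ((g⁻¹ : GL (Fin 10) F) : Matrix (Fin 10) (Fin 10) F) = -j := by
    rintro g ⟨hgN, hgI⟩
    obtain ⟨G, hG⟩ : ∃ G : Matrix (Fin 10) (Fin 10) F, G = (g : Matrix (Fin 10) (Fin 10) F) :=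
      ⟨_, rfl⟩
    obtain ⟨G', hG'⟩ : ∃ G' : Matrix (Fin 10) (Fin 10) F,
      G' = ((g⁻¹ : GL (Fin 10) F) : Matrix (Fin 10) (Fin 10) F) := ⟨_, rfl⟩
    have hGG' : G * G' = 1 := by
      rw [hG, hG', ← Units.val_mul, mul_inv_cancel, Units.val_one]
    have hG'G : G' * G = 1 := by
      rw [hG, hG', ← Units.val_mul, inv_mul_cancel, Units.val_one]
    have hN : ∀ k, k ∈ K ↔ G * k * G' ∈ K := by
      rw [hG, hG']
      exact hgN
    have hI : ∀ v, Q (G *ᵥ v) = Q v := by
      rw [hG]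
      exact fun v => hgI v v
    rw [← hG, ← hG']
    have hpolG : ∀ u v, QuadraticMap.polar Q (G *ᵥ u) (G *ᵥ v) = QuadraticMap.polar Q u v := by
      intro u v
      unfold QuadraticMap.polar
      rw [← Matrix.mulVec_add, hI, hI, hI]
    have hpolG' : ∀ u v, QuadraticMap.polar Q (G *ᵥ u) v = QuadraticMap.polar Q u (G' *ᵥ v) := by
      intro u v
      have h3 := hpolG u (G' *ᵥ v)
      rw [Matrix.mulVec_mulVec, hGG', Matrix.one_mulVec] at h3
      exact h3
    have hbK : ∀ k ∈ K, k * (G * j * G') = (G * j * G') * k := by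
      intro k hk
      have hk1 : G' * k * G ∈ K := by
        rw [hN (G' * k * G)]
        have h3 : G * (G' * k * G) * G' = k := by
          calc G * (G' * k * G) * G' = (G * G') * k * (G * G') := by simp only [mul_assoc]
            _ = k := by rw [hGG', one_mul, mul_one]
        rw [h3]
        exact hk
      have h3 := hjK _ hk1
      calc k * (G * j * G') = (G * G') * k * (G * j * G') := by rw [hGG', one_mul]
        _ = G * ((G' * k * G) * j) * G' := by simp only [mul_assoc]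
        _ = G * (j * (G' * k * G)) * G' := by rw [h3]
        _ = (G * j * G') * k * (G * G') := by simp only [mul_assoc]
        _ = (G * j * G') * k := by rw [hGG', mul_one]
    have hbskew : ∀ u v : Fin 10 → F, QuadraticMap.polar Q ((G * j * G') *ᵥ u) v =
        - QuadraticMap.polar Q u ((G * j * G') *ᵥ v) := by
      intro u v
      calc QuadraticMap.polar Q ((G * j * G') *ᵥ u) v
          = QuadraticMap.polar Q (G *ᵥ (j *ᵥ (G' *ᵥ u))) v := by
            simp only [Matrix.mulVec_mulVec, mul_assoc]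
        _ = QuadraticMap.polar Q (j *ᵥ (G' *ᵥ u)) (G' *ᵥ v) := hpolG' _ _
        _ = - QuadraticMap.polar Q (G' *ᵥ u) (j *ᵥ (G' *ᵥ v)) := hjskew _ _
        _ = - QuadraticMap.polar Q (G *ᵥ (G' *ᵥ u)) (G *ᵥ (j *ᵥ (G' *ᵥ v))) := by rw [hpolG]
        _ = - QuadraticMap.polar Q u ((G * j * G') *ᵥ v) := by
            rw [Matrix.mulVec_mulVec u G G', hGG', Matrix.one_mulVec]
            simp only [Matrix.mulVec_mulVec, mul_assoc]
    obtain ⟨y, hy, hby⟩ := huniv (G * j * G') hbK hbskew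
    have hz : y * μ ∈ K := K.mul_mem hy hμ
    have hbz : G * j * G' = (y * μ) * j := by
      rw [hby, hj]
      calc y * a = y * ((μ * ν) * a) := by rw [hμν, one_mul]
        _ = y * μ * (ν * a) := by simp only [mul_assoc]
    have hbb : (G * j * G') * (G * j * G') = ε • (1 : Matrix (Fin 10) (Fin 10) F) := by
      calc (G * j * G') * (G * j * G') = G * (j * ((G' * G) * j)) * G' := by simp only [mul_assoc]
        _ = G * (j * j) * G' := by rw [hG'G, one_mul]
        _ = ε • (G * G') := by rw [hjj, mul_smul_comm, mul_one, smul_mul_assoc]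
        _ = ε • (1 : Matrix (Fin 10) (Fin 10) F) := by rw [hGG']
    have hzz : (y * μ) * (y * μ) = 1 := by
      have h3 : ε • ((y * μ) * (y * μ)) = ε • (1 : Matrix (Fin 10) (Fin 10) F) := by
        rw [← hbb, hbz]
        calc ε • ((y * μ) * (y * μ)) = (y * μ) * (y * μ) * (ε • (1 : Matrix (Fin 10) (Fin 10) F)) := by
              rw [mul_smul_comm, mul_one]
          _ = (y * μ) * (y * μ) * (j * j) := by rw [hjj]
          _ = (y * μ) * ((y * μ) * j) * j := by simp only [mul_assoc]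
          _ = (y * μ) * (j * (y * μ)) * j := by rw [hjK _ hz]
          _ = (y * μ) * j * ((y * μ) * j) := by simp only [mul_assoc]
      exact smul_right_injective _ hε0 h3
    have hz1 : y * μ = 1 ∨ y * μ = -1 := by
      by_cases h1 : y * μ - 1 = 0
      · left
        exact sub_eq_zero.mp h1
      · right
        obtain ⟨w, hw, hw1⟩ := hK.inv (y * μ - 1) (K.sub_mem hz K.one_mem) h1
        have hw2 : w * (y * μ - 1) = 1 := by
          rw [hK.comm w hw _ (K.sub_mem hz K.one_mem)]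
          exact hw1
        have h3 : (y * μ - 1) * (y * μ + 1) = 0 := by
          have h4 : (y * μ - 1) * (y * μ + 1) = (y * μ) * (y * μ) - 1 := by noncomm_ring
          rw [h4, hzz, sub_self]
        have h4 : y * μ + 1 = 0 := by
          calc y * μ + 1 = (w * (y * μ - 1)) * (y * μ + 1) := by rw [hw2, one_mul]
            _ = w * ((y * μ - 1) * (y * μ + 1)) := mul_assoc _ _ _
            _ = 0 := by rw [h3, mul_zero]
        exact eq_neg_of_add_eq_zero_left h4
    rcases hz1 with h1 | h1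
    · left
      rw [hbz, h1, one_mul]
    · right
      rw [hbz, h1, neg_mul, one_mul]
  refine ⟨K₂, hF2, hadj, hnsa, hsim, ?_⟩
  intro g hg
  have hg' : g⁻¹ ∈ subalgebraNormalizer K ⊓ isometryGroup F Q := Subgroup.inv_mem _ hg
  have hGG' : (g : Matrix (Fin 10) (Fin 10) F) *
      ((g⁻¹ : GL (Fin 10) F) : Matrix (Fin 10) (Fin 10) F) = 1 := by
    rw [← Units.val_mul, mul_inv_cancel, Units.val_one]
  have hG'G : ((g⁻¹ : GL (Fin 10) F) : Matrix (Fin 10) (Fin 10) F) *
      (g : Matrix (Fin 10) (Fin 10) F) = 1 := by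
    rw [← Units.val_mul, inv_mul_cancel, Units.val_one]
  show ∀ k : Matrix (Fin 10) (Fin 10) F, k ∈ K₂ ↔
    (g : Matrix (Fin 10) (Fin 10) F) * k * ((g⁻¹ : GL (Fin 10) F) : Matrix (Fin 10) (Fin 10) F) ∈ K₂
  intro k
  constructor
  · rintro ⟨x, y, rfl⟩
    have e : (g : Matrix (Fin 10) (Fin 10) F) * (x • (1 : Matrix (Fin 10) (Fin 10) F) + y • j) *
        ((g⁻¹ : GL (Fin 10) F) : Matrix (Fin 10) (Fin 10) F) =
        x • (1 : Matrix (Fin 10) (Fin 10) F) + y • ((g : Matrix (Fin 10) (Fin 10) F) * j *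
          ((g⁻¹ : GL (Fin 10) F) : Matrix (Fin 10) (Fin 10) F)) := by
      rw [mul_add, add_mul, mul_smul_comm, smul_mul_assoc, mul_one, hGG', mul_smul_comm,
        smul_mul_assoc]
    rw [e]
    rcases hconj g hg with h | h
    · rw [h]
      exact ⟨x, y, rfl⟩
    · rw [h]
      exact ⟨x, -y, by rw [smul_neg, neg_smul]⟩
  · rintro ⟨x, y, hxy⟩
    have e : k = ((g⁻¹ : GL (Fin 10) F) : Matrix (Fin 10) (Fin 10) F) *
        ((g : Matrix (Fin 10) (Fin 10) F) * k *
          ((g⁻¹ : GL (Fin 10) F) : Matrix (Fin 10) (Fin 10) F)) *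
        (g : Matrix (Fin 10) (Fin 10) F) := by
      calc k = (((g⁻¹ : GL (Fin 10) F) : Matrix (Fin 10) (Fin 10) F) *
            (g : Matrix (Fin 10) (Fin 10) F)) * k *
            (((g⁻¹ : GL (Fin 10) F) : Matrix (Fin 10) (Fin 10) F) *
            (g : Matrix (Fin 10) (Fin 10) F)) := by rw [hG'G, one_mul, mul_one]
        _ = _ := by simp only [mul_assoc]
    rw [e, hxy]
    have e2 : ((g⁻¹ : GL (Fin 10) F) : Matrix (Fin 10) (Fin 10) F) *
        (x • (1 : Matrix (Fin 10) (Fin 10) F) + y • j) * (g : Matrix (Fin 10) (Fin 10) F) =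
        x • (1 : Matrix (Fin 10) (Fin 10) F) +
          y • (((g⁻¹ : GL (Fin 10) F) : Matrix (Fin 10) (Fin 10) F) * j *
          (g : Matrix (Fin 10) (Fin 10) F)) := by
      rw [mul_add, add_mul, mul_smul_comm, smul_mul_assoc, mul_one, hG'G, mul_smul_comm,
        smul_mul_assoc]
    rw [e2]
    have h := hconj g⁻¹ hg'
    rw [inv_inv] at h
    rcases h with h | h
    · rw [h]
      exact ⟨x, y, rfl⟩
    · rw [h]
      exact ⟨x, -y, by rw [smul_neg, neg_smul]⟩

end Cfsg.Agent.Helper42
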