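import Mathlib
import Cfsg.Prelude.Def_GeometricClasses
import Cfsg.Agent.Helper98.FieldSub

set_option autoImplicit false

/-!
Helper library (helper42), piece `F5S` of the call for S5850 (helper88): square classes of a
field subalgebra of odd degree over a finite field of odd characteristic; together with the
general lemma `fs_scalar_of_quadratic`: in a field subalgebra of odd degree, a root of a monic
quadratic polynomial over the base field is a scalar matrix.
-/

open Cfsg Cfsg.Geo Matrix

namespace Cfsg.Agent.Helper42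

section General

variable {F : Type*} [Field F]

theorem fs_nonempty {n r : ℕ} (hr : Odd r) (K : Subalgebra F (Matrix (Fin n) (Fin n) F))
    (hK : IsFieldSubalgebra r K) : Nonempty (Fin n) := by
  rcases Nat.eq_zero_or_pos n with h0 | h0
  · exfalso
    subst h0
    have h1 : Module.finrank F K = 0 := by
      haveI : Subsingleton ↥K := ⟨fun a b => Subtype.ext (Subsingleton.elim _ _)⟩
      exact Module.finrank_zero_of_subsingleton
    rw [hK.finrank_eq] at h1
    subst h1
    exact absurd hr (by decide)
  · exact ⟨⟨0, h0⟩⟩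

/-- in a field subalgebra of odd degree, a root of a monic quadratic over the base field is a
scalar matrix -/
theorem fs_scalar_of_quadratic {n r : ℕ} (hr : Odd r)
    (K : Subalgebra F (Matrix (Fin n) (Fin n) F)) (hK : IsFieldSubalgebra r K)
    (s : Matrix (Fin n) (Fin n) F) (hs : s ∈ K) (b c : F)
    (h : s * s + b • s + c • (1 : Matrix (Fin n) (Fin n) F) = 0) :
    ∃ x : F, s = x • (1 : Matrix (Fin n) (Fin n) F) := by
  classical
  haveI := fs_nonempty hr K hK
  have hFS := Cfsg.Agent.Helper98.IsFS.of hK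
  letI _i : Field ↥K := hFS.field
  let s' : ↥K := ⟨s, hs⟩
  have hint : IsIntegral F s' := Algebra.IsIntegral.isIntegral s'
  have hdvd : (minpoly F s').natDegree ∣ Module.finrank F ↥K := minpoly.degree_dvd hint
  have hdeg : (Polynomial.C b * Polynomial.X + Polynomial.C c : Polynomial F).degree < ((2 : ℕ) : WithBot ℕ) :=
    lt_of_le_of_lt (Polynomial.degree_linear_le) (by norm_num)
  have hmon : (Polynomial.X ^ 2 + (Polynomial.C b * Polynomial.X + Polynomial.C c) :
      Polynomial F).Monic := Polynomial.monic_X_pow_add hdeg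
  have hroot : Polynomial.aeval s' (Polynomial.X ^ 2 + (Polynomial.C b * Polynomial.X +
      Polynomial.C c) : Polynomial F) = 0 := by
    simp only [map_add, map_mul, map_pow, Polynomial.aeval_X, Polynomial.aeval_C]
    apply Subtype.ext
    show s ^ 2 + (algebraMap F (Matrix (Fin n) (Fin n) F) b * s +
      algebraMap F (Matrix (Fin n) (Fin n) F) c) = 0
    rw [Algebra.algebraMap_eq_smul_one, Algebra.algebraMap_eq_smul_one, smul_mul_assoc, one_mul,
      pow_two, ← add_assoc]
    exact h
  have hle : (minpoly F s').natDegree ≤ 2 := by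
    have h3 := Polynomial.natDegree_le_natDegree (minpoly.min F s' hmon hroot)
    have hnd : (Polynomial.X ^ 2 + (Polynomial.C b * Polynomial.X + Polynomial.C c) :
        Polynomial F).natDegree = 2 := by
      rw [Polynomial.natDegree_add_eq_left_of_degree_lt
        (by rw [Polynomial.degree_X_pow]; exact hdeg), Polynomial.natDegree_X_pow]
    rwa [hnd] at h3
  have hpos : 0 < (minpoly F s').natDegree := minpoly.natDegree_pos hint
  rw [hK.finrank_eq] at hdvd
  have hne2 : (minpoly F s').natDegree ≠ 2 := by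
    intro h2
    rw [h2] at hdvd
    exact (Nat.not_even_iff_odd.mpr hr) (even_iff_two_dvd.mpr hdvd)
  have h1 : (minpoly F s').natDegree = 1 := by omega
  obtain ⟨x, hx⟩ := minpoly.natDegree_eq_one_iff.mp h1
  refine ⟨x, ?_⟩
  have h4 := congrArg Subtype.val hx
  rw [← Algebra.algebraMap_eq_smul_one]
  exact h4.symm

end General

section Finite

variable {F : Type*} [Field F] [Fintype F]

theorem o10_sqclass (h2 : (2 : F) ≠ 0) {n r : ℕ} (hr : Odd r)
    (K : Subalgebra F (Matrix (Fin n) (Fin n) F)) (hK : IsFieldSubalgebra r K)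
    (δ : Matrix (Fin n) (Fin n) F) (hδ : δ ∈ K) (ε : F) (hε : ¬ IsSquare ε) :
    (∃ s ∈ K, δ = s * s) ∨ (∃ μ ∈ K, δ = ε • (μ * μ)) := by
  classical
  haveI := fs_nonempty hr K hK
  have hFS := Cfsg.Agent.Helper98.IsFS.of hK
  letI _i : Field ↥K := hFS.field
  haveI : Fintype ↥K := Fintype.ofFinite _
  have hε0 : ε ≠ 0 := by
    rintro rfl
    exact hε ⟨0, by simp⟩
  have hnsq : ∀ s ∈ K, ε • (1 : Matrix (Fin n) (Fin n) F) ≠ s * s := by
    intro s hs hss
    obtain ⟨x, hx⟩ := fs_scalar_of_quadratic hr K hK s hs 0 (-ε)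
      (by rw [← hss, zero_smul, add_zero, neg_smul, add_neg_cancel])
    apply hε
    refine ⟨x, ?_⟩
    rw [hx] at hss
    have h3 : ε • (1 : Matrix (Fin n) (Fin n) F) = (x * x) • (1 : Matrix (Fin n) (Fin n) F) := by
      rw [hss, smul_mul_smul_comm, one_mul]
    have h4 := congrFun (congrFun h3 (Classical.arbitrary _)) (Classical.arbitrary _)
    simpa using h4
  let d : ↥K := ⟨δ, hδ⟩
  let e : ↥K := ⟨ε • 1, K.smul_mem K.one_mem ε⟩
  have he0 : e ≠ 0 := by
    intro h0
    have h3 : ε • (1 : Matrix (Fin n) (Fin n) F) = 0 := congrArg Subtype.val h0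
    have h4 := congrFun (congrFun h3 (Classical.arbitrary _)) (Classical.arbitrary _)
    simp at h4
    exact hε0 h4
  have he : ¬ IsSquare e := by
    rintro ⟨s, hs⟩
    exact hnsq s.1 s.2 (congrArg Subtype.val hs)
  by_cases hd : IsSquare d
  · obtain ⟨s, hs⟩ := hd
    exact Or.inl ⟨s.1, s.2, congrArg Subtype.val hs⟩
  · right
    have he' : ¬ IsSquare e⁻¹ := fun h => he (by simpa using h.inv)
    have hd0 : d ≠ 0 := by
      intro h0
      exact hd (h0 ▸ IsSquare.zero)
    have hsq : IsSquare (d * e⁻¹) := by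
      have h1 := quadraticChar_neg_one_iff_not_isSquare.mpr hd
      have h2' := quadraticChar_neg_one_iff_not_isSquare.mpr he'
      have hne : d * e⁻¹ ≠ 0 := mul_ne_zero hd0 (inv_ne_zero he0)
      rw [← quadraticChar_one_iff_isSquare hne, map_mul, h1, h2']
      norm_num
    obtain ⟨μ, hμ⟩ := hsq
    refine ⟨μ.1, μ.2, ?_⟩
    have h5 : d = e * (μ * μ) := by
      rw [← hμ, mul_comm d, ← mul_assoc, mul_inv_cancel₀ he0, one_mul]
    have h6 : δ = (ε • (1 : Matrix (Fin n) (Fin n) F)) * (μ.1 * μ.1) := congrArg Subtype.val h5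
    rw [h6, smul_mul_assoc, one_mul]

end Finite

end Cfsg.Agent.Helper42
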