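import Mathlib
import Cfsg.Prelude.Def_GeometricClasses
import Cfsg.Agent.Helper98.FieldSub
import Cfsg.Agent.Helper42.U5850F5S

set_option autoImplicit false

/-!
Helper library (helper42), piece `F5ES` of the call for S5850 (helper88): Artin–Schreier
classes of a field subalgebra of odd degree over a finite field of characteristic two.
-/

open Cfsg Cfsg.Geo Matrix

namespace Cfsg.Agent.Helper42

variable {F : Type*} [Field F] [Fintype F]

theorem o10_artin_schreier (h2 : (2 : F) = 0) {n r : ℕ} (hr : Odd r)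
    (K : Subalgebra F (Matrix (Fin n) (Fin n) F)) (hK : IsFieldSubalgebra r K)
    (γ : Matrix (Fin n) (Fin n) F) (hγ : γ ∈ K) :
    (∃ ρ ∈ K, ρ * ρ + ρ = γ) ∨
    (∃ μ ∈ K, ∃ c : F, γ + μ * μ + μ = c • (1 : Matrix (Fin n) (Fin n) F) ∧ ∀ x : F, x * x + x ≠ c) := by
  classical
  haveI := fs_nonempty hr K hK
  have hFS := Cfsg.Agent.Helper98.IsFS.of hK
  letI _i : Field ↥K := hFS.field
  have hchar : ∀ M : Matrix (Fin n) (Fin n) F, M + M = 0 := by
    intro M
    rw [← two_smul F M, h2, zero_smul]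
  have h11 : (1 : F) + 1 = 0 := by rw [one_add_one_eq_two]; exact h2
  -- an element of `F` outside the image of `x ↦ x² + x`
  obtain ⟨c₀, hc₀⟩ : ∃ c : F, ∀ x : F, x * x + x ≠ c := by
    by_contra hcon
    push Not at hcon
    have hsurj : Function.Surjective (fun x : F => x * x + x) := hcon
    have hinj := Finite.injective_iff_surjective.mpr hsurj
    have h01 : (0 : F) = 1 := hinj (by simp only [mul_zero, add_zero, mul_one]; exact h11.symm)
    exact zero_ne_one h01
  have hc₀K : ∀ ρ ∈ K, ρ * ρ + ρ ≠ c₀ • (1 : Matrix (Fin n) (Fin n) F) := by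
    intro ρ hρ hρc
    obtain ⟨x, hx⟩ := fs_scalar_of_quadratic hr K hK ρ hρ 1 (-c₀)
      (by rw [one_smul, hρc, neg_smul, add_neg_cancel])
    apply hc₀ x
    rw [hx] at hρc
    have h3 : (x * x + x) • (1 : Matrix (Fin n) (Fin n) F) = c₀ • (1 : Matrix (Fin n) (Fin n) F) := by
      rw [← hρc, add_smul, smul_mul_smul_comm, one_mul]
    have h4 := congrFun (congrFun h3 (Classical.arbitrary _)) (Classical.arbitrary _)
    simpa using h4
  have h2K : (2 : ↥K) = 0 := by
    apply Subtype.ext
    show (2 : Matrix (Fin n) (Fin n) F) = 0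
    rw [← one_add_one_eq_two]
    exact hchar 1
  -- the Artin–Schreier map on `K`
  let P : ↥K →+ ↥K :=
    { toFun := fun x => x * x + x
      map_zero' := by simp
      map_add' := by
        intro x y
        linear_combination (x * y) * h2K }
  have hPapp : ∀ x : ↥K, P x = x * x + x := fun x => rfl
  have hker : Nat.card P.ker = 2 := by
    rw [Nat.card_eq_two_iff]
    refine ⟨⟨0, by simp⟩, ⟨1, ?_⟩, ?_, ?_⟩
    · rw [AddMonoidHom.mem_ker, hPapp]
      linear_combination h2K
    · intro h01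
      have h3 : (0 : ↥K) = 1 := congrArg Subtype.val h01
      exact zero_ne_one h3
    · ext ⟨x, hx⟩
      simp only [Set.mem_insert_iff, Set.mem_singleton_iff, Set.mem_univ, iff_true, Subtype.mk.injEq]
      rw [AddMonoidHom.mem_ker, hPapp] at hx
      have h3 : x * (x + 1) = 0 := by linear_combination hx
      rcases mul_eq_zero.mp h3 with h4 | h4
      · exact Or.inl h4
      · right
        linear_combination h4 - h2K
  haveI : Finite ↥K := inferInstance
  have hidx : P.range.index = 2 := by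
    have h1 := AddSubgroup.card_mul_index P.ker
    rw [AddSubgroup.index_ker, hker] at h1
    have h3 := AddSubgroup.card_mul_index P.range
    have hpos : 0 < Nat.card P.range := Nat.card_pos
    have h4 : Nat.card P.range * P.range.index = Nat.card P.range * 2 := by
      rw [h3, ← h1, mul_comm]
    exact Nat.eq_of_mul_eq_mul_left hpos h4
  let g : ↥K := ⟨γ, hγ⟩
  let c : ↥K := ⟨c₀ • 1, K.smul_mem K.one_mem c₀⟩
  by_cases hg : g ∈ P.range
  · obtain ⟨ρ, hρ⟩ := hg
    left
    exact ⟨ρ.1, ρ.2, congrArg Subtype.val hρ⟩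
  · right
    have hc : c ∉ P.range := by
      rintro ⟨ρ, hρ⟩
      exact hc₀K ρ.1 ρ.2 (congrArg Subtype.val hρ)
    have hgc : g + c ∈ P.range :=
      (AddSubgroup.add_mem_iff_of_index_two hidx).mpr (iff_of_false hg hc)
    obtain ⟨μ, hμ⟩ := hgc
    refine ⟨μ.1, μ.2, c₀, ?_, hc₀⟩
    have h6 : μ.1 * μ.1 + μ.1 = γ + c₀ • (1 : Matrix (Fin n) (Fin n) F) := congrArg Subtype.val hμ
    calc γ + μ.1 * μ.1 + μ.1 = γ + (μ.1 * μ.1 + μ.1) := add_assoc _ _ _
      _ = γ + (γ + c₀ • (1 : Matrix (Fin n) (Fin n) F)) := by rw [h6]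
      _ = c₀ • (1 : Matrix (Fin n) (Fin n) F) := by rw [← add_assoc, hchar, zero_add]

end Cfsg.Agent.Helper42
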