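import Mathlib
import Cfsg.Prelude.Def_GeometricClasses
import Cfsg.Prelude.Def_Classical
import Cfsg.Agent.Helper98.FieldSub
import Cfsg.Agent.Helper42.U5850F5ES

set_option autoImplicit false

/-!
Helper library (helper42), piece `F5EB` of the call for S5850 (helper88): characteristic two,
`K` a self-adjoint field subalgebra of degree 5 of `M_10(F)` with `B (k v) v = 0`, and `j` the
Clifford element (`B (k² j w) w = Q (k w)`, unique modulo `K`).  Then `Q` is of plus type, or
`K₂ = F[j + μ]` is a field of degree two of unitary type normalised by `N(K) ∩ O(Q)`.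
-/

open Cfsg Cfsg.Geo Matrix

namespace Cfsg.Agent.Helper42

/-- characteristic two: `X = Y` as soon as `X - Y` is twice something -/
theorem eq_of_sub_eq_two_smul {F : Type*} [Field F] (h2 : (2 : F) = 0) {A : Type*} [AddCommGroup A]
    [Module F A] {X Y : A} (Z : A) (h : X - Y = (2 : F) • Z) : X = Y := by
  rw [h2, zero_smul, sub_eq_zero] at h
  exact h

/-- if `V = U + U'` with `U` totally isotropic for a non-degenerate bilinear form, then
`dim U ≤ dim U'` -/
theorem finrank_le_of_isotropic_sum {F : Type*} [Field F] {n : ℕ}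
    (f : (Fin n → F) → (Fin n → F) → F) (hb : IsBilinearForm f)
    (hnd : IsNondegenerateForm f) (U U' : Submodule F (Fin n → F))
    (hU : ∀ u ∈ U, ∀ v ∈ U, f u v = 0)
    (hsum : ∀ x, ∃ x₁ ∈ U, ∃ x₂ ∈ U', x = x₁ + x₂) :
    Module.finrank F U ≤ Module.finrank F U' := by
  let Bl : (Fin n → F) →ₗ[F] (Fin n → F) →ₗ[F] F :=
    LinearMap.mk₂ F f hb.add_left hb.smul_left hb.add_right hb.smul_right
  let Ψ : U →ₗ[F] (Module.Dual F U') := Bl.domRestrict₁₂ U U'
  have hinj : Function.Injective Ψ := by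
    rw [← LinearMap.ker_eq_bot, LinearMap.ker_eq_bot']
    intro u hu
    by_contra hne
    have hne' : (u : Fin n → F) ≠ 0 := fun h => hne (Subtype.ext h)
    obtain ⟨-, x, hx⟩ := hnd _ hne'
    obtain ⟨x₁, hx₁, x₂, hx₂, rfl⟩ := hsum x
    apply hx
    rw [hb.add_right, hU _ u.2 _ hx₁, zero_add]
    have h3 := congrArg (fun φ : Module.Dual F U' => φ ⟨x₂, hx₂⟩) hu
    exact h3
  have h1 := LinearMap.finrank_le_finrank_of_injective hinj
  rwa [Subspace.dual_finrank_eq] at h1

variable {F : Type*} [Field F] [Fintype F]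

set_option maxHeartbeats 2000000 in
theorem o10_field5_even_of_j (h2 : (2 : F) = 0) (Q : (Fin 10 → F) → F)
    (hQ : IsNondegenerateQuadraticForm Q) (K : Subalgebra F (Matrix (Fin 10) (Fin 10) F))
    (hK : IsFieldSubalgebra 5 K) (hsa : IsSelfAdjointFor (QuadraticMap.polar Q) K)
    (hK0 : ∀ k ∈ K, ∀ v : Fin 10 → F, QuadraticMap.polar Q (k *ᵥ v) v = 0)
    (j : Matrix (Fin 10) (Fin 10) F) (hjK : ∀ k ∈ K, k * j = j * k)
    (hj : ∀ k ∈ K, ∀ w : Fin 10 → F, QuadraticMap.polar Q ((k * k * j) *ᵥ w) w = Q (k *ᵥ w))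
    (huniq : ∀ a : Matrix (Fin 10) (Fin 10) F, (∀ k ∈ K, k * a = a * k) →
        (∀ k ∈ K, ∀ w : Fin 10 → F, QuadraticMap.polar Q ((k * a) *ᵥ w) w = 0) → a ∈ K) :
    IsPlusTypeOn Q ⊤ ∨
    ∃ K₂ : Subalgebra F (Matrix (Fin 10) (Fin 10) F), IsFieldSubalgebra 2 K₂ ∧
      IsAdjointClosedFor (QuadraticMap.polar Q) K₂ ∧ ¬ IsSelfAdjointFor (QuadraticMap.polar Q) K₂ ∧
      (∀ k ∈ K₂, ∃ c : F, ∀ v : Fin 10 → F, Q (k *ᵥ v) = c * Q v) ∧
      subalgebraNormalizer K ⊓ isometryGroup F Q ≤ subalgebraNormalizer K₂ := by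
  classical
  have hb := hQ.polar_bilinear
  have hFS := Cfsg.Agent.Helper98.IsFS.of hK
  have hcharF : ∀ x : F, x + x = 0 := fun x => by rw [← two_mul, h2, zero_mul]
  have hcharM : ∀ M : Matrix (Fin 10) (Fin 10) F, M + M = 0 := fun M => by
    rw [← two_smul F M, h2, zero_smul]
  have hcharV : ∀ v : Fin 10 → F, v + v = 0 := fun v => by rw [← two_smul F v, h2, zero_smul]
  have hBsymm : ∀ u v : Fin 10 → F, QuadraticMap.polar Q u v = QuadraticMap.polar Q v u :=
    fun u v => QuadraticMap.polar_comm Q u v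
  have hQadd : ∀ u v : Fin 10 → F, Q (u + v) = Q u + Q v + QuadraticMap.polar Q u v := by
    intro u v
    unfold QuadraticMap.polar
    ring
  have hQ0 : Q 0 = 0 := by
    have h3 := hQ.smul 0 0
    rw [zero_smul] at h3
    rw [h3]
    ring
  have hBself : ∀ v : Fin 10 → F, QuadraticMap.polar Q v v = 0 := by
    intro v
    unfold QuadraticMap.polar
    rw [hcharV v, hQ0]
    linear_combination -(hcharF (Q v))
  -- every element of `K` is a square in `K`
  have hsqrt : ∀ κ ∈ K, ∃ k ∈ K, k * k = κ := by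
    letI _i : Field ↥K := hFS.field
    have h2K : (2 : ↥K) = 0 := by
      apply Subtype.ext
      show (2 : Matrix (Fin 10) (Fin 10) F) = 0
      rw [← one_add_one_eq_two]
      exact hcharM 1
    have hinj : Function.Injective (fun x : ↥K => x * x) := by
      intro x y hxy
      have hxy' : x * x = y * y := hxy
      have h3 : (x - y) * (x - y) = 0 := by linear_combination hxy' + (y * y - x * y) * h2K
      exact sub_eq_zero.mp (mul_self_eq_zero.mp h3)
    have hsurj := Finite.injective_iff_surjective.mp hinj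
    intro κ hκ
    obtain ⟨k, hk⟩ := hsurj ⟨κ, hκ⟩
    exact ⟨k.1, k.2, congrArg Subtype.val hk⟩
  -- additivity of `k ↦ Q (k w)` on `K`
  have hQK : ∀ k ∈ K, ∀ k' ∈ K, ∀ w : Fin 10 → F,
      Q ((k + k') *ᵥ w) = Q (k *ᵥ w) + Q (k' *ᵥ w) := by
    intro k hk k' hk' w
    rw [Matrix.add_mulVec, hQadd]
    have h3 : QuadraticMap.polar Q (k *ᵥ w) (k' *ᵥ w) = 0 := by
      rw [← hsa k' hk' (k *ᵥ w) w, Matrix.mulVec_mulVec]
      exact hK0 (k' * k) (K.mul_mem hk' hk) w
    rw [h3, add_zero]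
  -- polarisation of `hj`
  have hpol : ∀ k ∈ K, ∀ w w' : Fin 10 → F,
      QuadraticMap.polar Q (((k * k) * j) *ᵥ w) w' + QuadraticMap.polar Q (((k * k) * j) *ᵥ w') w =
        QuadraticMap.polar Q ((k * k) *ᵥ w) w' := by
    intro k hk w w'
    have h3 := hj k hk (w + w')
    rw [Matrix.mulVec_add, Matrix.mulVec_add, hb.add_left, hb.add_right, hb.add_right,
      hj k hk w, hj k hk w', hQadd] at h3
    have h4 : QuadraticMap.polar Q (k *ᵥ w) (k *ᵥ w') = QuadraticMap.polar Q ((k * k) *ᵥ w) w' := by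
      rw [← Matrix.mulVec_mulVec]
      exact (hsa k hk (k *ᵥ w) w').symm
    rw [← h4]
    linear_combination h3
  have hpolκ : ∀ κ ∈ K, ∀ w w' : Fin 10 → F,
      QuadraticMap.polar Q ((κ * j) *ᵥ w) w' + QuadraticMap.polar Q ((κ * j) *ᵥ w') w =
        QuadraticMap.polar Q (κ *ᵥ w) w' := by
    intro κ hκ w w'
    obtain ⟨k, hk, rfl⟩ := hsqrt κ hκ
    exact hpol k hk w w'
  have hjκ : ∀ κ ∈ K, ∀ k ∈ K, k * k = κ → ∀ w : Fin 10 → F,
      QuadraticMap.polar Q ((κ * j) *ᵥ w) w = Q (k *ᵥ w) := by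
    intro κ _ k hk hkk w
    rw [← hkk]
    exact hj k hk w
  have hj1 : ∀ w : Fin 10 → F, QuadraticMap.polar Q (j *ᵥ w) w = Q w := by
    intro w
    have h3 := hj 1 K.one_mem w
    rwa [mul_one, one_mul, Matrix.one_mulVec] at h3
  -- the adjoint of `j` is `j + 1`
  have hadjj : ∀ w w' : Fin 10 → F, QuadraticMap.polar Q (j *ᵥ w) w' =
      QuadraticMap.polar Q w (j *ᵥ w') + QuadraticMap.polar Q w w' := by
    intro w w'
    have h3 := hpolκ 1 K.one_mem w w'
    rw [one_mul, Matrix.one_mulVec] at h3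
    rw [hBsymm w (j *ᵥ w')]
    linear_combination h3 - hcharF (QuadraticMap.polar Q (j *ᵥ w') w)
  -- `γ = j² + j` lies in `K`
  obtain ⟨γ, hγdef⟩ : ∃ γ : Matrix (Fin 10) (Fin 10) F, γ = j * j + j := ⟨_, rfl⟩
  have hγK : γ ∈ K := by
    apply huniq
    · intro k hk
      rw [hγdef]
      calc k * (j * j + j) = (k * j) * j + k * j := by rw [mul_add, mul_assoc]
        _ = (j * k) * j + j * k := by rw [hjK k hk]
        _ = j * (k * j) + j * k := by rw [mul_assoc]
        _ = j * (j * k) + j * k := by rw [hjK k hk]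
        _ = (j * j + j) * k := by rw [add_mul, mul_assoc]
    · intro κ hκ w
      rw [hγdef, mul_add, Matrix.add_mulVec, hb.add_left]
      have h3 : QuadraticMap.polar Q ((κ * (j * j)) *ᵥ w) w = QuadraticMap.polar Q ((κ * j) *ᵥ w) w := by
        have h4 : κ * (j * j) = j * (κ * j) := by
          rw [← mul_assoc, hjK κ hκ, mul_assoc, hjK κ hκ]
        have h5 : QuadraticMap.polar Q ((κ * j) *ᵥ w) (j *ᵥ w) = 0 := by
          rw [← Matrix.mulVec_mulVec]
          exact hK0 κ hκ (j *ᵥ w)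
        rw [h4, ← Matrix.mulVec_mulVec, hadjj, h5, zero_add]
      rw [h3]
      exact hcharF _
  obtain ⟨g, hg, hgg⟩ := hsqrt γ hγK
  have hjj : j * j = γ + j := by
    rw [hγdef, add_assoc, hcharM, add_zero]
  -- `Q (j w) = Q (g w)`
  have hQj : ∀ w : Fin 10 → F, Q (j *ᵥ w) = Q (g *ᵥ w) := by
    intro w
    have h3 := hj1 (j *ᵥ w)
    rw [Matrix.mulVec_mulVec, hjj, Matrix.add_mulVec, hb.add_left, hBself, add_zero] at h3
    have h4 : QuadraticMap.polar Q (γ *ᵥ w) (j *ᵥ w) = Q (g *ᵥ w) := by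
      rw [hBsymm, hadjj, Matrix.mulVec_mulVec, ← hjK γ hγK, hBsymm w ((γ * j) *ᵥ w),
        hBsymm w (γ *ᵥ w), hK0 γ hγK w, add_zero]
      exact hjκ γ hγK g hg hgg w
    rw [← h3, h4]
  have hQjρ : ∀ ρ ∈ K, ∀ s ∈ K, s * s = ρ → ∀ w : Fin 10 → F,
      Q ((j + ρ) *ᵥ w) = Q ((g + ρ + s) *ᵥ w) := by
    intro ρ hρ s hs hss w
    rw [Matrix.add_mulVec, hQadd, hQK (g + ρ) (K.add_mem hg hρ) s hs, hQK g hg ρ hρ, hQj]
    have h3 : QuadraticMap.polar Q (j *ᵥ w) (ρ *ᵥ w) = Q (s *ᵥ w) := by
      rw [← hsa ρ hρ, Matrix.mulVec_mulVec]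
      exact hjκ ρ hρ s hs hss w
    rw [h3]
  have hnil : ∀ t ∈ K, t * t = 0 → t = 0 := by
    intro t ht htt
    by_contra hne
    obtain ⟨w, hw, hw1⟩ := hK.inv t ht hne
    apply hne
    calc t = t * (t * w) := by rw [hw1, mul_one]
      _ = (t * t) * w := (mul_assoc _ _ _).symm
      _ = 0 := by rw [htt, zero_mul]
  have hzd : ∀ x ∈ K, ∀ y ∈ K, x * y = 0 → x = 0 ∨ y = 0 := by
    intro x hx y hy hxy
    by_cases hx0 : x = 0
    · exact Or.inl hx0
    · right
      obtain ⟨w, hw, hw1⟩ := hK.inv x hx hx0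
      have hw2 : w * x = 1 := by
        rw [hK.comm w hw x hx]
        exact hw1
      calc y = (w * x) * y := by rw [hw2, one_mul]
        _ = w * (x * y) := mul_assoc _ _ _
        _ = 0 := by rw [hxy, mul_zero]
  have hsqadd : ∀ x ∈ K, ∀ y ∈ K, (x + y) * (x + y) = x * x + y * y := by
    intro x hx y hy
    rw [add_mul, mul_add, mul_add, hK.comm y hy x hx]
    exact eq_of_sub_eq_two_smul h2 (x * y) (by module)
  -- a root `ρ` of `X² + X = γ` in `K` gives `Q ((j + ρ) w) = 0`
  have hroot : ∀ ρ ∈ K, ρ * ρ + ρ = γ → ∀ w : Fin 10 → F, Q ((j + ρ) *ᵥ w) = 0 := by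
    intro ρ hρ hργ w
    obtain ⟨s, hs, hss⟩ := hsqrt ρ hρ
    have ht0 : g + ρ + s = 0 := by
      apply hnil _ (K.add_mem (K.add_mem hg hρ) hs)
      rw [hsqadd _ (K.add_mem hg hρ) _ hs, hsqadd _ hg _ hρ, hgg, hss, ← hργ, add_assoc, hcharM]
    rw [hQjρ ρ hρ s hs hss, ht0, Matrix.zero_mulVec, hQ0]
  rcases o10_artin_schreier h2 (by decide : Odd 5) K hK γ hγK with ⟨ρ, hρ, hργ⟩ | ⟨μ, hμ, c, hμc, hc⟩
  · -- plus type
    left
    have hρ1 : ρ + 1 ∈ K := K.add_mem hρ K.one_mem
    have hρ1γ : (ρ + 1) * (ρ + 1) + (ρ + 1) = γ := by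
      rw [hsqadd ρ hρ 1 K.one_mem, one_mul, ← hργ]
      have key : ∀ o : Matrix (Fin 10) (Fin 10) F, ρ * ρ + o + (ρ + o) = ρ * ρ + ρ := by
        intro o
        exact eq_of_sub_eq_two_smul h2 o (by module)
      exact key 1
    obtain ⟨e, he⟩ : ∃ e : Matrix (Fin 10) (Fin 10) F, e = j + ρ := ⟨_, rfl⟩
    have he1 : e + 1 = j + (ρ + 1) := by rw [he, add_assoc]
    have hee : e * e = e := by
      rw [he, add_mul, mul_add, mul_add, ← hjK ρ hρ, hjj, ← hργ]
      exact eq_of_sub_eq_two_smul h2 (ρ * ρ + ρ * j) (by module)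
    have hQe : ∀ w : Fin 10 → F, Q (e *ᵥ w) = 0 := by
      intro w
      rw [he]
      exact hroot ρ hρ hργ w
    have hQe1 : ∀ w : Fin 10 → F, Q ((e + 1) *ᵥ w) = 0 := by
      intro w
      rw [he1]
      exact hroot (ρ + 1) hρ1 hρ1γ w
    let U : Submodule F (Fin 10 → F) := LinearMap.range (Matrix.mulVecLin e)
    let U' : Submodule F (Fin 10 → F) := LinearMap.range (Matrix.mulVecLin (e + 1))
    have hU : ∀ u ∈ U, Q u = 0 := by
      rintro _ ⟨w, rfl⟩
      exact hQe w
    have hU' : ∀ u ∈ U', Q u = 0 := by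
      rintro _ ⟨w, rfl⟩
      exact hQe1 w
    have hUiso : ∀ u ∈ U, ∀ v ∈ U, QuadraticMap.polar Q u v = 0 := by
      intro u hu v hv
      unfold QuadraticMap.polar
      rw [hU _ (U.add_mem hu hv), hU u hu, hU v hv]
      ring
    have hU'iso : ∀ u ∈ U', ∀ v ∈ U', QuadraticMap.polar Q u v = 0 := by
      intro u hu v hv
      unfold QuadraticMap.polar
      rw [hU' _ (U'.add_mem hu hv), hU' u hu, hU' v hv]
      ring
    have hdec : ∀ x : Fin 10 → F, x = e *ᵥ x + (e + 1) *ᵥ x := by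
      intro x
      rw [Matrix.add_mulVec, Matrix.one_mulVec, ← add_assoc, hcharV, zero_add]
    have hinf : U ⊓ U' = ⊥ := by
      rw [eq_bot_iff]
      rintro x ⟨⟨a, rfl⟩, ⟨b, hb'⟩⟩
      have hb'' : (e + 1) *ᵥ b = e *ᵥ a := hb'
      have h3 : e *ᵥ (e *ᵥ a) = e *ᵥ a := by rw [Matrix.mulVec_mulVec, hee]
      have h4 : e *ᵥ ((e + 1) *ᵥ b) = 0 := by
        rw [Matrix.mulVec_mulVec, mul_add, mul_one, hee, hcharM, Matrix.zero_mulVec]
      rw [hb'', h3] at h4
      exact h4
    have hsup : U ⊔ U' = ⊤ := by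
      rw [eq_top_iff]
      intro x _
      rw [hdec x]
      exact Submodule.add_mem_sup ⟨x, rfl⟩ ⟨x, rfl⟩
    have hdim := Submodule.finrank_sup_add_finrank_inf_eq U U'
    rw [hsup, hinf, finrank_top, finrank_bot, Module.finrank_fin_fun, add_zero] at hdim
    have hle1 : Module.finrank F U ≤ Module.finrank F U' :=
      finrank_le_of_isotropic_sum _ hb hQ.nondegenerate U U' hUiso
        (fun x => ⟨e *ᵥ x, ⟨x, rfl⟩, (e + 1) *ᵥ x, ⟨x, rfl⟩, hdec x⟩)
    have hle2 : Module.finrank F U' ≤ Module.finrank F U :=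
      finrank_le_of_isotropic_sum _ hb hQ.nondegenerate U' U hU'iso
        (fun x => ⟨(e + 1) *ᵥ x, ⟨x, rfl⟩, e *ᵥ x, ⟨x, rfl⟩, by rw [add_comm]; exact hdec x⟩)
    refine ⟨U, le_top, hU, ?_⟩
    rw [finrank_top, Module.finrank_fin_fun]
    omega
  · -- the unitary field `K₂ = F[j + μ]`
    right
    obtain ⟨j₂, hj₂⟩ : ∃ j₂ : Matrix (Fin 10) (Fin 10) F, j₂ = j + μ := ⟨_, rfl⟩
    have hj₂sq : j₂ * j₂ = j₂ + c • (1 : Matrix (Fin 10) (Fin 10) F) := by
      rw [← hμc, hj₂, add_mul, mul_add, mul_add, ← hjK μ hμ, hjj]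
      exact eq_of_sub_eq_two_smul h2 (μ * j - μ) (by module)
    have hj₂K : ∀ k ∈ K, k * j₂ = j₂ * k := by
      intro k hk
      rw [hj₂, mul_add, add_mul, hjK k hk, hK.comm k hk μ hμ]
    have hmul : ∀ x y x' y' : F,
        (x • (1 : Matrix (Fin 10) (Fin 10) F) + y • j₂) *
          (x' • (1 : Matrix (Fin 10) (Fin 10) F) + y' • j₂) =
        (x * x' + c * y * y') • (1 : Matrix (Fin 10) (Fin 10) F) +
          (x * y' + y * x' + y * y') • j₂ := by
      intro x y x' y'
      simp only [add_mul, mul_add, smul_mul_smul_comm, one_mul, mul_one, hj₂sq, smul_add, smul_smul]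
      module
    let K₂ : Subalgebra F (Matrix (Fin 10) (Fin 10) F) :=
      { carrier := {k | ∃ x y : F, k = x • (1 : Matrix (Fin 10) (Fin 10) F) + y • j₂}
        mul_mem' := by
          rintro _ _ ⟨x, y, rfl⟩ ⟨x', y', rfl⟩
          exact ⟨_, _, hmul x y x' y'⟩
        add_mem' := by
          rintro _ _ ⟨x, y, rfl⟩ ⟨x', y', rfl⟩
          exact ⟨x + x', y + y', by module⟩
        algebraMap_mem' := by
          intro c
          exact ⟨c, 0, by rw [Algebra.algebraMap_eq_smul_one, zero_smul, add_zero]⟩ }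
    have hjns : ∀ t : F, j₂ ≠ t • (1 : Matrix (Fin 10) (Fin 10) F) := by
      intro t ht
      apply hc t
      have h3 : (t * t) • (1 : Matrix (Fin 10) (Fin 10) F) = (t + c) • (1 : Matrix (Fin 10) (Fin 10) F) := by
        have h4 := hj₂sq
        rw [ht, smul_mul_smul_comm, one_mul, ← add_smul] at h4
        exact h4
      have h4 := congrFun (congrFun h3 0) 0
      simp at h4
      linear_combination h4 + t * h2
    have hzero : ∀ x y : F, x • (1 : Matrix (Fin 10) (Fin 10) F) + y • j₂ = 0 → x = 0 ∧ y = 0 := by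
      intro x y h
      by_cases hy : y = 0
      · subst hy
        rw [zero_smul, add_zero] at h
        have h4 := congrFun (congrFun h 0) 0
        simp at h4
        exact ⟨h4, rfl⟩
      · exfalso
        apply hjns (-(y⁻¹ * x))
        have h5 : y • j₂ = -(x • (1 : Matrix (Fin 10) (Fin 10) F)) := by
          rw [← sub_eq_zero, sub_neg_eq_add, add_comm]
          exact h
        calc j₂ = y⁻¹ • (y • j₂) := by rw [smul_smul, inv_mul_cancel₀ hy, one_smul]
          _ = (-(y⁻¹ * x)) • (1 : Matrix (Fin 10) (Fin 10) F) := by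
            rw [h5, smul_neg, smul_smul, neg_smul]
    have hnorm : ∀ x y : F, (x ≠ 0 ∨ y ≠ 0) → x * x + x * y + c * y * y ≠ 0 := by
      intro x y hxy h
      by_cases hy : y = 0
      · subst hy
        have hx : x = 0 := by
          have h3 : x * x = 0 := by linear_combination h
          exact mul_self_eq_zero.mp h3
        rcases hxy with h' | h'
        · exact h' hx
        · exact h' rfl
      · apply hc (x * y⁻¹)
        have hyy : y * y⁻¹ = 1 := mul_inv_cancel₀ hy
        linear_combination (y⁻¹ * y⁻¹) * h - (x * y⁻¹) * hyy - c * (y * y⁻¹ + 1) * hyy - c * h2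
    have hF2 : IsFieldSubalgebra 2 K₂ := by
      refine ⟨?_, ?_, ?_⟩
      · rintro _ ⟨x, y, rfl⟩ _ ⟨x', y', rfl⟩
        rw [hmul, hmul]
        congr 2 <;> ring
      · rintro _ ⟨x, y, rfl⟩ hne
        have hxy : x ≠ 0 ∨ y ≠ 0 := by
          by_contra hcon
          push Not at hcon
          apply hne
          rw [hcon.1, hcon.2, zero_smul, zero_smul, add_zero]
        have hN := hnorm x y hxy
        refine ⟨((x * x + x * y + c * y * y)⁻¹ * (x + y)) • (1 : Matrix (Fin 10) (Fin 10) F) +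
          ((x * x + x * y + c * y * y)⁻¹ * y) • j₂, ⟨_, _, rfl⟩, ?_⟩
        rw [hmul]
        have e1 : x * ((x * x + x * y + c * y * y)⁻¹ * (x + y)) +
            c * y * ((x * x + x * y + c * y * y)⁻¹ * y) = 1 := by
          have e0 : x * ((x * x + x * y + c * y * y)⁻¹ * (x + y)) +
              c * y * ((x * x + x * y + c * y * y)⁻¹ * y) =
              (x * x + x * y + c * y * y)⁻¹ * (x * x + x * y + c * y * y) := by ring
          rw [e0, inv_mul_cancel₀ hN]
        have e2 : x * ((x * x + x * y + c * y * y)⁻¹ * y) +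
            y * ((x * x + x * y + c * y * y)⁻¹ * (x + y)) +
            y * ((x * x + x * y + c * y * y)⁻¹ * y) = 0 := by
          linear_combination ((x * x + x * y + c * y * y)⁻¹ * (x * y + y * y)) * h2
        rw [e1, e2, one_smul, zero_smul, add_zero]
      · let φ : (F × F) →ₗ[F] ↥K₂ :=
          { toFun := fun p => ⟨p.1 • (1 : Matrix (Fin 10) (Fin 10) F) + p.2 • j₂, ⟨p.1, p.2, rfl⟩⟩
            map_add' := by
              intro p q
              apply Subtype.ext
              show (p.1 + q.1) • (1 : Matrix (Fin 10) (Fin 10) F) + (p.2 + q.2) • j₂ =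
                (p.1 • (1 : Matrix (Fin 10) (Fin 10) F) + p.2 • j₂) +
                (q.1 • (1 : Matrix (Fin 10) (Fin 10) F) + q.2 • j₂)
              module
            map_smul' := by
              intro c p
              apply Subtype.ext
              show (c * p.1) • (1 : Matrix (Fin 10) (Fin 10) F) + (c * p.2) • j₂ =
                c • (p.1 • (1 : Matrix (Fin 10) (Fin 10) F) + p.2 • j₂)
              module }
        have hφinj : Function.Injective φ := by
          rw [← LinearMap.ker_eq_bot, LinearMap.ker_eq_bot']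
          intro p hp
          have h3 : p.1 • (1 : Matrix (Fin 10) (Fin 10) F) + p.2 • j₂ = 0 := congrArg Subtype.val hp
          obtain ⟨h4, h5⟩ := hzero _ _ h3
          exact Prod.ext h4 h5
        have hφsurj : Function.Surjective φ := by
          rintro ⟨k, x, y, rfl⟩
          exact ⟨(x, y), rfl⟩
        have h6 := (LinearEquiv.ofBijective φ ⟨hφinj, hφsurj⟩).finrank_eq
        rw [← h6, Module.finrank_prod, Module.finrank_self]
    have hmv : ∀ (x y : F) (u : Fin 10 → F),
        (x • (1 : Matrix (Fin 10) (Fin 10) F) + y • j₂) *ᵥ u = x • u + y • (j₂ *ᵥ u) := by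
      intro x y u
      rw [Matrix.add_mulVec, Matrix.smul_mulVec, Matrix.smul_mulVec, Matrix.one_mulVec]
    have hadj₂ : ∀ u v : Fin 10 → F, QuadraticMap.polar Q (j₂ *ᵥ u) v =
        QuadraticMap.polar Q u (j₂ *ᵥ v) + QuadraticMap.polar Q u v := by
      intro u v
      rw [hj₂, Matrix.add_mulVec, Matrix.add_mulVec, hb.add_left, hb.add_right, hadjj, hsa μ hμ]
      ring
    have hadj : IsAdjointClosedFor (QuadraticMap.polar Q) K₂ := by
      rintro _ ⟨x, y, rfl⟩
      refine ⟨(x + y) • (1 : Matrix (Fin 10) (Fin 10) F) + y • j₂, ⟨x + y, y, rfl⟩, ?_⟩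
      intro u v
      rw [hmv, hmv, hb.add_left, hb.smul_left, hb.smul_left, hb.add_right, hb.smul_right,
        hb.smul_right, hadj₂]
      ring
    have hnsa : ¬ IsSelfAdjointFor (QuadraticMap.polar Q) K₂ := by
      intro hsa2
      have hjmem : j₂ ∈ K₂ := ⟨0, 1, by rw [zero_smul, zero_add, one_smul]⟩
      have hv0 : (Pi.single 0 1 : Fin 10 → F) ≠ 0 := by
        intro h0
        have h3 := congrFun h0 0
        simp at h3
      obtain ⟨⟨x, hx⟩, -⟩ := hQ.nondegenerate _ hv0
      apply hx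
      have h4 := hsa2 j₂ hjmem x (Pi.single 0 1)
      have h5 := hadj₂ x (Pi.single 0 1)
      linear_combination h4 - h5
    have hsim : ∀ k ∈ K₂, ∃ c : F, ∀ v : Fin 10 → F, Q (k *ᵥ v) = c * Q v := by
      rintro _ ⟨x, y, rfl⟩
      refine ⟨x * x + x * y + c * y * y, fun w => ?_⟩
      obtain ⟨s, hs, hss⟩ := hsqrt μ hμ
      have ht : g + μ + s ∈ K := K.add_mem (K.add_mem hg hμ) hs
      have htt : (g + μ + s) * (g + μ + s) = c • (1 : Matrix (Fin 10) (Fin 10) F) := by
        rw [hsqadd _ (K.add_mem hg hμ) _ hs, hsqadd _ hg _ hμ, hgg, hss, hμc]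
      have hQj₂ : Q (j₂ *ᵥ w) = c * Q w := by
        rw [hj₂, hQjρ μ hμ s hs hss, ← hj _ ht w, htt, smul_mul_assoc, one_mul, Matrix.smul_mulVec,
          hb.smul_left, hj1]
      have hBwj₂ : QuadraticMap.polar Q w (j₂ *ᵥ w) = Q w := by
        rw [hBsymm, hj₂, Matrix.add_mulVec, hb.add_left, hj1, hK0 μ hμ w, add_zero]
      rw [hmv, hQadd, hQ.smul, hQ.smul, hb.smul_left, hb.smul_right, hQj₂, hBwj₂]
      ring
    have hconj : ∀ h : GL (Fin 10) F, h ∈ subalgebraNormalizer K ⊓ isometryGroup F Q →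
        (h : Matrix (Fin 10) (Fin 10) F) * j₂ *
          ((h⁻¹ : GL (Fin 10) F) : Matrix (Fin 10) (Fin 10) F) = j₂ ∨
        (h : Matrix (Fin 10) (Fin 10) F) * j₂ *
          ((h⁻¹ : GL (Fin 10) F) : Matrix (Fin 10) (Fin 10) F) = j₂ + 1 := by
      rintro h ⟨hgN, hgI⟩
      obtain ⟨G, hG⟩ : ∃ G : Matrix (Fin 10) (Fin 10) F, G = (h : Matrix (Fin 10) (Fin 10) F) :=
        ⟨_, rfl⟩
      obtain ⟨G', hG'⟩ : ∃ G' : Matrix (Fin 10) (Fin 10) F,
        G' = ((h⁻¹ : GL (Fin 10) F) : Matrix (Fin 10) (Fin 10) F) := ⟨_, rfl⟩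
      have hGG' : G * G' = 1 := by
        rw [hG, hG', ← Units.val_mul, mul_inv_cancel, Units.val_one]
      have hG'G : G' * G = 1 := by
        rw [hG, hG', ← Units.val_mul, inv_mul_cancel, Units.val_one]
      have hN : ∀ k, k ∈ K ↔ G * k * G' ∈ K := by
        rw [hG, hG']
        exact hgN
      have hI : ∀ v, Q (G *ᵥ v) = Q v := by
        rw [hG]
        exact fun v => hgI v v
      rw [← hG, ← hG']
      have hI' : ∀ v, Q (G' *ᵥ v) = Q v := by
        intro v
        have h3 := hI (G' *ᵥ v)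
        rw [Matrix.mulVec_mulVec, hGG', Matrix.one_mulVec] at h3
        exact h3.symm
      have hpolG : ∀ u v, QuadraticMap.polar Q (G *ᵥ u) (G *ᵥ v) = QuadraticMap.polar Q u v := by
        intro u v
        unfold QuadraticMap.polar
        rw [← Matrix.mulVec_add, hI, hI, hI]
      have hpolG' : ∀ u v, QuadraticMap.polar Q (G *ᵥ u) v = QuadraticMap.polar Q u (G' *ᵥ v) := by
        intro u v
        have h3 := hpolG u (G' *ᵥ v)
        rw [Matrix.mulVec_mulVec, hGG', Matrix.one_mulVec] at h3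
        exact h3
      have hKin : ∀ k ∈ K, G' * k * G ∈ K := by
        intro k hk
        rw [hN (G' * k * G)]
        have h3 : G * (G' * k * G) * G' = k := by
          calc G * (G' * k * G) * G' = (G * G') * k * (G * G') := by simp only [mul_assoc]
            _ = k := by rw [hGG', one_mul, mul_one]
        rw [h3]
        exact hk
      have hj'K : ∀ k ∈ K, k * (G * j * G') = (G * j * G') * k := by
        intro k hk
        have h3 := hjK _ (hKin k hk)
        calc k * (G * j * G') = (G * G') * k * (G * j * G') := by rw [hGG', one_mul]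
          _ = G * ((G' * k * G) * j) * G' := by simp only [mul_assoc]
          _ = G * (j * (G' * k * G)) * G' := by rw [h3]
          _ = (G * j * G') * k * (G * G') := by simp only [mul_assoc]
          _ = (G * j * G') * k := by rw [hGG', mul_one]
      have hj'Q : ∀ k ∈ K, ∀ w : Fin 10 → F,
          QuadraticMap.polar Q ((k * k * (G * j * G')) *ᵥ w) w = Q (k *ᵥ w) := by
        intro k hk w
        have hk1 := hKin k hk
        have h3 : k * k * (G * j * G') = G * ((G' * k * G) * (G' * k * G) * j) * G' := by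
          calc k * k * (G * j * G') = (G * G') * k * (G * G') * k * (G * j * G') := by
                rw [hGG', one_mul, mul_one]
            _ = G * ((G' * k * G) * (G' * k * G) * j) * G' := by simp only [mul_assoc]
        have e5 : (G' * k * G) *ᵥ (G' *ᵥ w) = G' *ᵥ (k *ᵥ w) := by
          rw [Matrix.mulVec_mulVec, Matrix.mulVec_mulVec, mul_assoc (G' * k), hGG', mul_one]
        rw [h3]
        calc QuadraticMap.polar Q ((G * ((G' * k * G) * (G' * k * G) * j) * G') *ᵥ w) w
            = QuadraticMap.polar Q (G *ᵥ (((G' * k * G) * (G' * k * G) * j) *ᵥ (G' *ᵥ w))) w := by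
              simp only [Matrix.mulVec_mulVec, mul_assoc]
          _ = QuadraticMap.polar Q (((G' * k * G) * (G' * k * G) * j) *ᵥ (G' *ᵥ w)) (G' *ᵥ w) :=
              hpolG' _ _
          _ = Q ((G' * k * G) *ᵥ (G' *ᵥ w)) := hj _ hk1 _
          _ = Q (G' *ᵥ (k *ᵥ w)) := by rw [e5]
          _ = Q (k *ᵥ w) := hI' _
      have haK : G * j * G' + j ∈ K := by
        apply huniq
        · intro k hk
          rw [mul_add, add_mul, hj'K k hk, hjK k hk]
        · intro κ hκ w
          obtain ⟨k, hk, rfl⟩ := hsqrt κ hκ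
          rw [mul_add, Matrix.add_mulVec, hb.add_left, hj'Q k hk w, hj k hk w]
          exact hcharF _
      have hμ' : G * μ * G' ∈ K := (hN μ).mp hμ
      obtain ⟨z, hz⟩ : ∃ z : Matrix (Fin 10) (Fin 10) F, z = (G * j * G' + j) + G * μ * G' + μ :=
        ⟨_, rfl⟩
      have hzK : z ∈ K := by
        rw [hz]
        exact K.add_mem (K.add_mem haK hμ') hμ
      have hconj₂ : G * j₂ * G' = j₂ + z := by
        rw [hz, hj₂, mul_add, add_mul]
        exact eq_of_sub_eq_two_smul h2 (-(j + μ)) (by module)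
      have hzj₂ : z * j₂ = j₂ * z := hj₂K z hzK
      have hsq : (G * j₂ * G') * (G * j₂ * G') = G * j₂ * G' + c • (1 : Matrix (Fin 10) (Fin 10) F) := by
        calc (G * j₂ * G') * (G * j₂ * G') = G * (j₂ * ((G' * G) * j₂)) * G' := by
              simp only [mul_assoc]
          _ = G * (j₂ * j₂) * G' := by rw [hG'G, one_mul]
          _ = G * j₂ * G' + c • (G * G') := by
              rw [hj₂sq, mul_add, add_mul, mul_smul_comm, mul_one, smul_mul_assoc]
          _ = G * j₂ * G' + c • (1 : Matrix (Fin 10) (Fin 10) F) := by rw [hGG']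
      rw [hconj₂] at hsq
      have hzz : z * z + z = 0 := by
        rw [add_mul, mul_add, mul_add, hzj₂, hj₂sq] at hsq
        obtain ⟨o, ho⟩ : ∃ o : Matrix (Fin 10) (Fin 10) F, o = c • (1 : Matrix (Fin 10) (Fin 10) F) :=
          ⟨_, rfl⟩
        rw [← ho] at hsq
        have h3 : z * z + z = (j₂ + o + j₂ * z + (j₂ * z + z * z)) - (j₂ + z + o) +
            (2 : F) • (z - j₂ * z) := by module
        rw [h3, hsq, sub_self, h2, zero_smul, add_zero]
      have hz01 : z = 0 ∨ z = 1 := by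
        have h3 : z * (z + 1) = 0 := by
          rw [mul_add, mul_one]
          exact hzz
        rcases hzd z hzK (z + 1) (K.add_mem hzK K.one_mem) h3 with h | h
        · exact Or.inl h
        · right
          have key : ∀ o : Matrix (Fin 10) (Fin 10) F, z + o = 0 → z = o := by
            intro o ho
            calc z = z + (o + o) := by rw [hcharM, add_zero]
              _ = (z + o) + o := (add_assoc _ _ _).symm
              _ = o := by rw [ho, zero_add]
          exact key 1 h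
      rcases hz01 with h | h
      · left
        rw [hconj₂, h, add_zero]
      · right
        rw [hconj₂, h]
    have hfwd : ∀ A A' : Matrix (Fin 10) (Fin 10) F, A * A' = 1 →
        (A * j₂ * A' = j₂ ∨ A * j₂ * A' = j₂ + 1) → ∀ k ∈ K₂, A * k * A' ∈ K₂ := by
      rintro A A' hAA' hA _ ⟨x, y, rfl⟩
      have e : A * (x • (1 : Matrix (Fin 10) (Fin 10) F) + y • j₂) * A' =
          x • (1 : Matrix (Fin 10) (Fin 10) F) + y • (A * j₂ * A') := by
        rw [mul_add, add_mul, mul_smul_comm, smul_mul_assoc, mul_one, hAA', mul_smul_comm,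
          smul_mul_assoc]
      rw [e]
      rcases hA with h | h
      · rw [h]
        exact ⟨x, y, rfl⟩
      · rw [h]
        refine ⟨x + y, y, ?_⟩
        rw [smul_add, add_smul]
        abel
    refine ⟨K₂, hF2, hadj, hnsa, hsim, ?_⟩
    intro h hh
    have hh' : h⁻¹ ∈ subalgebraNormalizer K ⊓ isometryGroup F Q := Subgroup.inv_mem _ hh
    have hGG' : (h : Matrix (Fin 10) (Fin 10) F) *
        ((h⁻¹ : GL (Fin 10) F) : Matrix (Fin 10) (Fin 10) F) = 1 := by
      rw [← Units.val_mul, mul_inv_cancel, Units.val_one]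
    have hG'G : ((h⁻¹ : GL (Fin 10) F) : Matrix (Fin 10) (Fin 10) F) *
        (h : Matrix (Fin 10) (Fin 10) F) = 1 := by
      rw [← Units.val_mul, inv_mul_cancel, Units.val_one]
    show ∀ k : Matrix (Fin 10) (Fin 10) F, k ∈ K₂ ↔
      (h : Matrix (Fin 10) (Fin 10) F) * k * ((h⁻¹ : GL (Fin 10) F) : Matrix (Fin 10) (Fin 10) F) ∈ K₂
    intro k
    constructor
    · intro hk
      exact hfwd _ _ hGG' (hconj h hh) k hk
    · intro hk
      have h4 := hconj h⁻¹ hh'
      rw [inv_inv] at h4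
      have h3 := hfwd _ _ hG'G h4 _ hk
      have e : ((h⁻¹ : GL (Fin 10) F) : Matrix (Fin 10) (Fin 10) F) *
          ((h : Matrix (Fin 10) (Fin 10) F) * k *
            ((h⁻¹ : GL (Fin 10) F) : Matrix (Fin 10) (Fin 10) F)) *
          (h : Matrix (Fin 10) (Fin 10) F) = k := by
        calc ((h⁻¹ : GL (Fin 10) F) : Matrix (Fin 10) (Fin 10) F) *
              ((h : Matrix (Fin 10) (Fin 10) F) * k *
                ((h⁻¹ : GL (Fin 10) F) : Matrix (Fin 10) (Fin 10) F)) *
              (h : Matrix (Fin 10) (Fin 10) F)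
            = (((h⁻¹ : GL (Fin 10) F) : Matrix (Fin 10) (Fin 10) F) *
              (h : Matrix (Fin 10) (Fin 10) F)) * k *
              (((h⁻¹ : GL (Fin 10) F) : Matrix (Fin 10) (Fin 10) F) *
              (h : Matrix (Fin 10) (Fin 10) F)) := by simp only [mul_assoc]
          _ = k := by rw [hG'G, one_mul, mul_one]
      rwa [e] at h3

end Cfsg.Agent.Helper42
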